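import Mathlib
import Cfsg.Agent.H10.HO.Defs2

/-!
helper15: piece HO-HG for S2075 (helper10's team project HO).

An automorphism `β` fixing `x, z, t` fixes every word `evS x z t w`; with `w0 := n⁻¹ * β n`, for every
`d` fixed by `β` with `n d n⁻¹` fixed by `β`, `w0` commutes with `d`.  So `w0 ∈ C(z)`, and the
non-commutation hypotheses leave only `w0 = 1`, i.e. `β n = n`; then `β = 1` on a generating set.
-/

set_option autoImplicit false

namespace Cfsg.Agent.H15.Ho

open Cfsg.Agent.H10.HO

universe u

theorem hg_evS_fix {G : Type u} [Group G] (x z t : G) (β : MulAut G)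
    (hx : β x = x) (hz : β z = z) (ht : β t = t) :
    ∀ w : List ℕ, β (evS x z t w) = evS x z t w := by
  intro w
  induction w with
  | nil => simp [evS]
  | cons a w ih =>
    match a with
    | 0 => simp [evS, hx, ih]
    | 1 => simp [evS, hx, ih]
    | 2 => simp [evS, hz, ih]
    | 3 => simp [evS, hz, ih]
    | (m+4) => simp [evS, ht, ih]

theorem hg : StHG.{u} := by
  intro G _ x z t n k D hC hnz hD h1 h2 hcl β hx hz ht
  have hfix := hg_evS_fix x z t β hx hz ht
  have hzk : β (z ^ k) = z ^ k := by simp [map_pow, hz]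
  have key : ∀ d e : G, β d = d → β e = e → n * d * n⁻¹ = e →
      (n⁻¹ * β n) * d = d * (n⁻¹ * β n) := by
    intro d e hd he hnd
    have h3 : β n * d * (β n)⁻¹ = n * d * n⁻¹ := by
      have h := congrArg β hnd
      simp only [map_mul, map_inv, hd, he] at h
      rw [h, hnd]
    have h4 : β n * d = n * d * n⁻¹ * β n := by
      rw [← h3]; group
    calc n⁻¹ * β n * d = n⁻¹ * (β n * d) := by group
      _ = n⁻¹ * (n * d * n⁻¹ * β n) := by rw [h4]
      _ = d * (n⁻¹ * β n) := by group
  have hwz : (n⁻¹ * β n) * z = z * (n⁻¹ * β n) := key z (z ^ k) hz hzk hnz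
  obtain ⟨a, ha, hor⟩ := hC _ hwz
  have hwD : ∀ p ∈ D, (n⁻¹ * β n) * evS x z t p.1 = evS x z t p.1 * (n⁻¹ * β n) :=
    fun p hp => key _ _ (hfix _) (hfix _) (hD p hp)
  have hw1 : n⁻¹ * β n = 1 := by
    rcases hor with h | h
    · by_cases ha0 : a = 0
      · subst ha0; simpa using h
      · obtain ⟨p, hp, hne⟩ := h1 a (Nat.pos_of_ne_zero ha0) ha
        exact absurd (h ▸ hwD p hp) hne
    · obtain ⟨p, hp, hne⟩ := h2 a ha
      exact absurd (h ▸ hwD p hp) hne
  have hn : β n = n := by
    have h5 : n * (n⁻¹ * β n) = β n := by group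
    rw [← h5, hw1, mul_one]
  have hmh : β.toMonoidHom = MonoidHom.id G := by
    apply MonoidHom.eq_of_eqOn_dense hcl
    intro g hg
    simp only [Set.mem_insert_iff, Set.mem_singleton_iff] at hg
    rcases hg with rfl | rfl | rfl | rfl
    · simpa using hx
    · simpa using hz
    · simpa using ht
    · simpa using hn
  ext g
  have h6 := DFunLike.congr_fun hmh g
  simpa using h6

example : StHG.{u} := hg

end Cfsg.Agent.H15.Ho

#print axioms Cfsg.Agent.H15.Ho.hg
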