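import Mathlib
import Cfsg.Agent.H10.HO.Defs

/-!
# HO-THETA (helper15, for helper10's S2075 project HO)

The diagram symmetry `f ↔ g` of the presentation of `He` is an automorphism as soon as the image
`(c d g f)^4 = 1` of the last relator holds.  (Twin of helper62's `Cfsg.Agent.H62.FO.theta`.)
The Coxeter relators and the relators `e = (abc)^3`, `a = (cd)^5` are invariant; the image of
`e = (fg)^2` is `e = (gf)^2`, which holds since `(gf)^2 = ((fg)^2)⁻¹ = e⁻¹ = e`.
-/

set_option autoImplicit false

namespace Cfsg.Agent.H15.Ho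

open Cfsg.Spor Cfsg.Agent.H35 Cfsg.Agent.H10.HO

theorem sw_sw15 (x : He.Gen) : sw (sw x) = x := by cases x <;> rfl

theorem coxLabel_sw15 (x y : He.Gen) :
    coxLabel He.edges (sw x) (sw y) = coxLabel He.edges x y := by
  cases x <;> cases y <;> decide

/-- **HO-THETA**. -/
theorem theta : Cfsg.Agent.H10.HO.StTheta := by
  intro p3
  have hsat : CoxSat He.edges He.extra (fun x => he_gen (sw x)) := by
    constructor
    · intro x y
      have h0 := he_sat.1 (sw x) (sw y)
      rw [coxLabel_sw15] at h0
      exact h0
    · intro r hr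
      have q0 := he_sat.2 (He.e * ((He.f * He.g) ^ 2)⁻¹) (by delta He.extra; simp)
      have q1 := he_sat.2 (He.e * ((He.a * He.b * He.c) ^ 3)⁻¹) (by delta He.extra; simp)
      have q2 := he_sat.2 (He.a * ((He.c * He.d) ^ 5)⁻¹) (by delta He.extra; simp)
      delta He.extra at hr
      simp only [List.mem_cons, List.not_mem_nil, or_false] at hr
      simp only [uw_eq, List.map, List.prod_cons, List.prod_nil, mul_one] at p3
      rcases hr with rfl | rfl | rfl | rfl
      · simp only [map_mul, map_pow, map_inv, FreeGroup.lift_apply_of, sw] at q0 ⊢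
        have hf := he_inv He.Gen.f
        have hg := he_inv He.Gen.g
        have he := he_inv He.Gen.e
        have hGF : he_gen He.Gen.g * he_gen He.Gen.f = (he_gen He.Gen.f * he_gen He.Gen.g)⁻¹ := by
          rw [eq_inv_iff_mul_eq_one]
          calc he_gen He.Gen.g * he_gen He.Gen.f * (he_gen He.Gen.f * he_gen He.Gen.g)
              = he_gen He.Gen.g * (he_gen He.Gen.f * he_gen He.Gen.f) * he_gen He.Gen.g := by group
            _ = 1 := by rw [hf, mul_one, hg]
        have hE : he_gen He.Gen.e = (he_gen He.Gen.f * he_gen He.Gen.g) ^ 2 := by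
          rw [mul_inv_eq_one] at q0
          exact q0
        rw [hGF, inv_pow, inv_inv, ← hE]
        exact he
      · simpa only [map_mul, map_pow, map_inv, FreeGroup.lift_apply_of, sw] using q1
      · simpa only [map_mul, map_pow, map_inv, FreeGroup.lift_apply_of, sw] using q2
      · simpa only [map_mul, map_pow, FreeGroup.lift_apply_of, mul_assoc, sw] using p3
  obtain ⟨φ, hφ⟩ := cox_UP He.edges He.extra (fun x => he_gen (sw x)) hsat
  have hφ' : ∀ x, φ (he_gen x) = he_gen (sw x) := hφ
  have hcomp : φ.comp φ = MonoidHom.id He := by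
    apply PresentedGroup.ext
    intro x
    have h1 : φ (φ (he_gen x)) = he_gen x := by rw [hφ', hφ', sw_sw15]
    exact h1
  exact ⟨MonoidHom.toMulEquiv φ φ hcomp hcomp, fun x => hφ' x⟩

example : Cfsg.Agent.H10.HO.StTheta := theta

end Cfsg.Agent.H15.Ho

#print axioms Cfsg.Agent.H15.Ho.theta
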