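import Mathlib
import Cfsg.Prelude.Def_OddOrderLocal

set_option autoImplicit false

namespace Cfsg.Agent.H15

open Cfsg

/-! ### Number theory: lifting the exponent for `r ^ j - 1` -/

section nt

theorem mc_not_dvd_of_dvd_pred {s x : ℕ} (hs : s.Prime) (hx : 1 ≤ x) (hsx : s ∣ x - 1) :
    ¬ s ∣ x := by
  intro h
  have : s ∣ 1 := by
    have h3 := Nat.dvd_sub h hsx
    have h4 : x - (x - 1) = 1 := by omega
    rwa [h4] at h3
  exact hs.one_lt.ne' (Nat.dvd_one.mp this)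

theorem mc_pow_sub_one_ne_zero {x k : ℕ} (hx : 2 ≤ x) (hk : k ≠ 0) : x ^ k - 1 ≠ 0 := by
  have : 2 ≤ x ^ k := le_trans hx (Nat.le_self_pow hk x)
  omega

/-- lifting the exponent, odd prime -/
theorem mc_lte {p r j : ℕ} (hp : p.Prime) (hodd : p ≠ 2) (hr : 2 ≤ r) (hpr : p ∣ r - 1)
    (hj : j ≠ 0) : padicValNat p (r ^ j - 1) = padicValNat p (r - 1) + padicValNat p j := by
  have : Fact p.Prime := ⟨hp⟩
  have hnx : ¬ p ∣ r := mc_not_dvd_of_dvd_pred hp (by omega) hpr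
  have hodd' : Odd p := hp.odd_of_ne_two hodd
  have := padicValNat.pow_sub_pow (p := p) hodd' (x := r) (y := 1) (by omega) hpr hnx hj
  rwa [one_pow] at this

/-- divisibility form of lifting the exponent, valid for all `j` -/
theorem mc_dvd_pow_sub_one_iff {p r σ : ℕ} (hp : p.Prime) (hodd : p ≠ 2) (hr : 2 ≤ r)
    (hσ : padicValNat p (r - 1) = σ) (hσ1 : 1 ≤ σ) (e j : ℕ) :
    p ^ (σ + e) ∣ r ^ j - 1 ↔ p ^ e ∣ j := by
  have : Fact p.Prime := ⟨hp⟩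
  have hpr : p ∣ r - 1 := by
    apply dvd_of_one_le_padicValNat
    rw [hσ]; exact hσ1
  rcases Nat.eq_zero_or_pos j with rfl | hj
  · simp
  · have h1 := mc_lte hp hodd hr hpr hj.ne'
    rw [hσ] at h1
    rw [padicValNat_dvd_iff_le (mc_pow_sub_one_ne_zero hr hj.ne'), h1,
      padicValNat_dvd_iff_le hj.ne']
    omega

theorem mc_pow_dvd_of_dvd_mul {p e u x : ℕ} (hp : p.Prime) (hu : ¬ p ∣ u) (h : p ^ e ∣ x * u) :
    p ^ e ∣ x :=
  (Nat.Coprime.pow_left e ((Nat.Prime.coprime_iff_not_dvd hp).mpr hu)).dvd_of_dvd_mul_right h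

/-- `p ^ M ∣ x * y` with `p ^ (σ + e) ∣ y` exactly controlled -/
theorem mc_dvd_mul_of {p M A B x y : ℕ} (hM : M ≤ A + B) (hx : p ^ A ∣ x) (hy : p ^ B ∣ y) :
    p ^ M ∣ x * y :=
  dvd_trans (pow_dvd_pow p hM) (by rw [pow_add]; exact mul_dvd_mul hx hy)

end nt

/-! ### Basic relations in a group with `b a b⁻¹ = a ^ r` -/

section basic
variable {G : Type*} [Group G] {a b : G} {r : ℕ}

theorem mc_conj_one (h : b * a * b⁻¹ = a ^ r) (i : ℕ) : b * a ^ i = a ^ (i * r) * b := by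
  have h1 : b * a ^ i * b⁻¹ = (a ^ r) ^ i := by
    rw [← h, conj_pow]
  rw [← pow_mul, mul_comm r i] at h1
  rw [← h1]
  group

theorem mc_conj (h : b * a * b⁻¹ = a ^ r) (i j : ℕ) :
    b ^ j * a ^ i = a ^ (i * r ^ j) * b ^ j := by
  induction j generalizing i with
  | zero => simp
  | succ j ih =>
    rw [pow_succ b j, mul_assoc, mc_conj_one h, ← mul_assoc, ih, mul_assoc, pow_succ r j]
    congr 2
    ring

theorem mc_mul (h : b * a * b⁻¹ = a ^ r) (i j i' j' : ℕ) :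
    (a ^ i * b ^ j) * (a ^ i' * b ^ j') = a ^ (i + i' * r ^ j) * b ^ (j + j') := by
  rw [mul_assoc, ← mul_assoc (b ^ j), mc_conj h, mul_assoc, ← pow_add, ← mul_assoc, ← pow_add]

/-- geometric sum `∑_{l < N} r ^ (j l)` -/
def geomS (r j N : ℕ) : ℕ := ∑ l ∈ Finset.range N, r ^ (j * l)

theorem geomS_succ (r j N : ℕ) : geomS r j (N + 1) = geomS r j N + r ^ (j * N) := by
  unfold geomS
  rw [Finset.sum_range_succ]

theorem geomS_zero (r j : ℕ) : geomS r j 0 = 0 := by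
  unfold geomS
  simp

theorem geomS_mul (r j N : ℕ) (hr : 1 ≤ r) : geomS r j N * (r ^ j - 1) = r ^ (j * N) - 1 := by
  have h1 : 1 ≤ r ^ j := Nat.one_le_pow _ _ hr
  have h2 : 1 ≤ r ^ (j * N) := Nat.one_le_pow _ _ hr
  zify [h1, h2]
  unfold geomS
  push_cast
  have := geom_sum_mul ((r : ℤ) ^ j) N
  simp only [← pow_mul] at this
  exact this

theorem mc_pow (h : b * a * b⁻¹ = a ^ r) (i j N : ℕ) :
    (a ^ i * b ^ j) ^ N = a ^ (i * geomS r j N) * b ^ (j * N) := by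
  induction N with
  | zero => simp [geomS_zero]
  | succ N ih =>
    rw [pow_succ, ih, mc_mul h, geomS_succ]
    congr 2
    ring

end basic

section nt2

theorem geomS_j_zero (r N : ℕ) : geomS r 0 N = N := by
  unfold geomS
  simp

theorem geomS_pos (r j N : ℕ) (hr : 1 ≤ r) (hN : N ≠ 0) : geomS r j N ≠ 0 := by
  obtain ⟨N', rfl⟩ := Nat.exists_eq_succ_of_ne_zero hN
  rw [geomS_succ]
  have : 1 ≤ r ^ (j * N') := Nat.one_le_pow _ _ hr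
  omega

theorem mc_val_geomS {p r σ : ℕ} (hp : p.Prime) (hodd : p ≠ 2) (hr : 2 ≤ r)
    (hσ : padicValNat p (r - 1) = σ) (hσ1 : 1 ≤ σ) (j N : ℕ) (hN : N ≠ 0) :
    padicValNat p (geomS r j N) = padicValNat p N := by
  have : Fact p.Prime := ⟨hp⟩
  have hpr : p ∣ r - 1 := by
    apply dvd_of_one_le_padicValNat
    rw [hσ]; exact hσ1
  rcases Nat.eq_zero_or_pos j with rfl | hj
  · rw [geomS_j_zero]
  · have h1 := geomS_mul r j N (by omega)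
    have h2 := congrArg (padicValNat p) h1
    rw [padicValNat.mul (geomS_pos r j N (by omega) hN) (mc_pow_sub_one_ne_zero hr hj.ne'),
      mc_lte hp hodd hr hpr hj.ne', mc_lte hp hodd hr hpr (Nat.mul_ne_zero hj.ne' hN),
      padicValNat.mul hj.ne' hN] at h2
    omega

theorem mc_dvd_geomS_iff {p r σ : ℕ} (hp : p.Prime) (hodd : p ≠ 2) (hr : 2 ≤ r)
    (hσ : padicValNat p (r - 1) = σ) (hσ1 : 1 ≤ σ) (e j N : ℕ) :
    p ^ e ∣ geomS r j N ↔ p ^ e ∣ N := by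
  have : Fact p.Prime := ⟨hp⟩
  rcases Nat.eq_zero_or_pos N with rfl | hN
  · simp [geomS_zero]
  · rw [padicValNat_dvd_iff_le (geomS_pos r j N (by omega) hN.ne'),
      padicValNat_dvd_iff_le hN.ne', mc_val_geomS hp hodd hr hσ hσ1 j N hN.ne']

end nt2

/-! ### Metacyclic coordinate data -/

/-- Coordinate data of a metacyclic `p`-group, `p` odd: `G = ⟨a⟩⟨b⟩`, `⟨a⟩` normal of
order `p ^ m`, `b a b⁻¹ = a ^ r` with `p ^ σ` the exact power of `p` in `r - 1`, and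
`b ^ j ∈ ⟨a⟩` iff `p ^ k ∣ j`. -/
structure MC (G : Type*) [Group G] (p : ℕ) where
  a : G
  b : G
  m : ℕ
  k : ℕ
  r : ℕ
  σ : ℕ
  hp : p.Prime
  hodd : p ≠ 2
  ha : orderOf a = p ^ m
  hconj : b * a * b⁻¹ = a ^ r
  hr : 2 ≤ r
  hσ : padicValNat p (r - 1) = σ
  hσ1 : 1 ≤ σ
  hgen : ∀ g : G, ∃ i j : ℕ, g = a ^ i * b ^ j
  hk : ∀ j : ℕ, b ^ j ∈ Subgroup.zpowers a ↔ p ^ k ∣ j

namespace MC

variable {G : Type*} [Group G] {p : ℕ} (D : MC G p)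

/-- `|G'| = p ^ n` -/
def n : ℕ := D.m - D.σ

theorem pr : p ∣ D.r - 1 := by
  have : Fact p.Prime := ⟨D.hp⟩
  apply dvd_of_one_le_padicValNat
  rw [D.hσ]; exact D.hσ1

theorem not_dvd_r : ¬ p ∣ D.r := mc_not_dvd_of_dvd_pred D.hp (by have := D.hr; omega) D.pr

theorem not_dvd_r_pow (j : ℕ) : ¬ p ∣ D.r ^ j := fun h => D.not_dvd_r (D.hp.dvd_of_dvd_pow h)

theorem dvd_r_pow_sub_iff (e j : ℕ) : p ^ (D.σ + e) ∣ D.r ^ j - 1 ↔ p ^ e ∣ j :=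
  mc_dvd_pow_sub_one_iff D.hp D.hodd D.hr D.hσ D.hσ1 e j

theorem dvd_geomS_iff (e j N : ℕ) : p ^ e ∣ geomS D.r j N ↔ p ^ e ∣ N :=
  mc_dvd_geomS_iff D.hp D.hodd D.hr D.hσ D.hσ1 e j N

theorem sigma_dvd (j : ℕ) : p ^ D.σ ∣ D.r ^ j - 1 := by
  have := (D.dvd_r_pow_sub_iff 0 j).mpr (by simp)
  simpa using this

theorem conj (i j : ℕ) : D.b ^ j * D.a ^ i = D.a ^ (i * D.r ^ j) * D.b ^ j :=
  mc_conj D.hconj i j

theorem mul (i j i' j' : ℕ) :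
    (D.a ^ i * D.b ^ j) * (D.a ^ i' * D.b ^ j') = D.a ^ (i + i' * D.r ^ j) * D.b ^ (j + j') :=
  mc_mul D.hconj i j i' j'

theorem pow (i j N : ℕ) :
    (D.a ^ i * D.b ^ j) ^ N = D.a ^ (i * geomS D.r j N) * D.b ^ (j * N) :=
  mc_pow D.hconj i j N

theorem a_pow_eq_iff (i i' : ℕ) : D.a ^ i = D.a ^ i' ↔ i ≡ i' [MOD p ^ D.m] := by
  rw [pow_eq_pow_iff_modEq, D.ha]

theorem a_pow_eq_one_iff (i : ℕ) : D.a ^ i = 1 ↔ p ^ D.m ∣ i := by
  rw [← orderOf_dvd_iff_pow_eq_one, D.ha]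

/-- the `r ^ j`-th power map on `⟨a⟩` in terms of `r ^ j - 1` -/
theorem r_pow_split (j : ℕ) : D.r ^ j = (D.r ^ j - 1) + 1 := by
  have : 1 ≤ D.r ^ j := Nat.one_le_pow _ _ (by have := D.hr; omega)
  omega

/-- commutation criterion in coordinates -/
theorem comm_iff (i j i' j' : ℕ) :
    (D.a ^ i * D.b ^ j) * (D.a ^ i' * D.b ^ j') = (D.a ^ i' * D.b ^ j') * (D.a ^ i * D.b ^ j) ↔
      i' * (D.r ^ j - 1) ≡ i * (D.r ^ j' - 1) [MOD p ^ D.m] := by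
  rw [D.mul, D.mul, add_comm j' j]
  rw [mul_left_inj, D.a_pow_eq_iff]
  have e1 : i + i' * D.r ^ j = (i + i') + i' * (D.r ^ j - 1) := by
    conv_lhs => rw [D.r_pow_split j]
    ring
  have e2 : i' + i * D.r ^ j' = (i + i') + i * (D.r ^ j' - 1) := by
    conv_lhs => rw [D.r_pow_split j']
    ring
  rw [e1, e2]
  exact ⟨fun h => Nat.ModEq.add_left_cancel' _ h, fun h => Nat.ModEq.add_left _ h⟩

/-- `a ^ d` commutes with `a ^ i b ^ j` iff `p ^ m ∣ d (r ^ j - 1)` -/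
theorem comm_a_iff (d i j : ℕ) :
    D.a ^ d * (D.a ^ i * D.b ^ j) = (D.a ^ i * D.b ^ j) * D.a ^ d ↔
      p ^ D.m ∣ d * (D.r ^ j - 1) := by
  have h := D.comm_iff i j d 0
  simp only [pow_zero, mul_one, Nat.sub_self, mul_zero] at h
  rw [eq_comm, h, Nat.modEq_zero_iff_dvd]

/-- `b ^ d` commutes with `a ^ i b ^ j` iff `p ^ m ∣ i (r ^ d - 1)` -/
theorem comm_b_iff (d i j : ℕ) :
    D.b ^ d * (D.a ^ i * D.b ^ j) = (D.a ^ i * D.b ^ j) * D.b ^ d ↔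
      p ^ D.m ∣ i * (D.r ^ d - 1) := by
  have h := D.comm_iff i j 0 d
  simp only [pow_zero, one_mul, zero_mul] at h
  rw [eq_comm, h, Nat.ModEq.comm, Nat.modEq_zero_iff_dvd]

section fin
variable [Finite G]

theorem mem_zpowers_a {x : G} (hx : x ∈ Subgroup.zpowers D.a) : ∃ t : ℕ, x = D.a ^ t := by
  rw [← mem_powers_iff_mem_zpowers] at hx
  obtain ⟨t, ht⟩ := hx
  exact ⟨t, ht.symm⟩

theorem n_le_m : D.n ≤ D.m := Nat.sub_le _ _

theorem m_le : D.m ≤ D.σ + D.n := by unfold n; omega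

theorem n_le_k : D.n ≤ D.k := by
  obtain ⟨t, ht⟩ := D.mem_zpowers_a ((D.hk (p ^ D.k)).mpr dvd_rfl)
  have h1 : D.b ^ (p ^ D.k) * (D.a ^ 1 * D.b ^ 0) = (D.a ^ 1 * D.b ^ 0) * D.b ^ (p ^ D.k) := by
    rw [ht, pow_zero, mul_one, ← pow_add, ← pow_add, add_comm]
  rw [D.comm_b_iff, one_mul] at h1
  by_cases hσm : D.σ ≤ D.m
  · have h2 : p ^ (D.σ + (D.m - D.σ)) ∣ D.r ^ (p ^ D.k) - 1 := by
      rw [Nat.add_sub_cancel' hσm]; exact h1
    rw [D.dvd_r_pow_sub_iff] at h2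
    exact (Nat.pow_dvd_pow_iff_le_right D.hp.one_lt).mp h2
  · unfold n; omega

theorem exists_t : ∃ t : ℕ, D.b ^ (p ^ D.k) = D.a ^ t ∧ p ^ D.n ∣ t := by
  have : Fact p.Prime := ⟨D.hp⟩
  obtain ⟨t, ht⟩ := D.mem_zpowers_a ((D.hk (p ^ D.k)).mpr dvd_rfl)
  refine ⟨t, ht, ?_⟩
  have h1 : D.b ^ 1 * (D.a ^ t * D.b ^ 0) = (D.a ^ t * D.b ^ 0) * D.b ^ 1 := by
    rw [← ht, pow_zero, mul_one, ← pow_add, ← pow_add, add_comm]
  rw [D.comm_b_iff, pow_one] at h1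
  rcases Nat.eq_zero_or_pos t with rfl | ht0
  · exact dvd_zero _
  · have hr1 : D.r - 1 ≠ 0 := by have := D.hr; omega
    rw [padicValNat_dvd_iff_le (Nat.mul_ne_zero ht0.ne' hr1), padicValNat.mul ht0.ne' hr1,
      D.hσ] at h1
    rw [padicValNat_dvd_iff_le ht0.ne']
    unfold n; omega

/-- uniqueness of coordinates, truncated -/
theorem nf {i j i' j' : ℕ} (h : D.a ^ i * D.b ^ j = D.a ^ i' * D.b ^ j') :
    j ≡ j' [MOD p ^ D.k] ∧ i ≡ i' [MOD p ^ D.n] := by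
  have key : ∀ {i j i' j' : ℕ}, j ≤ j' → D.a ^ i * D.b ^ j = D.a ^ i' * D.b ^ j' →
      j ≡ j' [MOD p ^ D.k] ∧ i ≡ i' [MOD p ^ D.n] := by
    intro i j i' j' hjj h
    obtain ⟨d, rfl⟩ := Nat.exists_eq_add_of_le hjj
    rw [add_comm j d, pow_add, ← mul_assoc, mul_left_inj] at h
    have hd : D.b ^ d ∈ Subgroup.zpowers D.a := by
      have : D.b ^ d = (D.a ^ i')⁻¹ * D.a ^ i := by rw [h]; group
      rw [this]
      exact Subgroup.mul_mem _ (Subgroup.inv_mem _ (Subgroup.pow_mem _ (Subgroup.mem_zpowers _) _))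
        (Subgroup.pow_mem _ (Subgroup.mem_zpowers _) _)
    rw [D.hk] at hd
    obtain ⟨q, rfl⟩ := hd
    obtain ⟨t, ht, htn⟩ := D.exists_t
    rw [pow_mul, ht, ← pow_mul, ← pow_add, D.a_pow_eq_iff] at h
    refine ⟨?_, ?_⟩
    · have h0 : p ^ D.k * q ≡ 0 [MOD p ^ D.k] :=
        (Nat.modEq_zero_iff_dvd).mpr (Dvd.intro _ rfl)
      have h3 := h0.add_left j
      rw [add_zero] at h3
      exact h3.symm
    · have h2 := Nat.ModEq.of_dvd (pow_dvd_pow p D.n_le_m) h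
      refine h2.trans ?_
      have h0 : t * q ≡ 0 [MOD p ^ D.n] :=
        (Nat.modEq_zero_iff_dvd).mpr (Dvd.dvd.mul_right htn q)
      have h3 := h0.add_left i'
      rw [add_zero] at h3
      exact h3
  rcases Nat.le_total j j' with hjj | hjj
  · exact key hjj h
  · obtain ⟨h1, h2⟩ := key hjj h.symm
    exact ⟨h1.symm, h2.symm⟩

theorem nf_same {i i' j : ℕ} (h : D.a ^ i * D.b ^ j = D.a ^ i' * D.b ^ j) :
    i ≡ i' [MOD p ^ D.m] := by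
  rw [mul_left_inj, D.a_pow_eq_iff] at h
  exact h

/-- reduction to bounded coordinates, preserving divisibility -/
theorem exists_reduced {α β : ℕ} (hα : α ≤ D.n) (hβ : β ≤ D.k) {g : G} {i j : ℕ}
    (hg : g = D.a ^ i * D.b ^ j) (hi : p ^ α ∣ i) (hj : p ^ β ∣ j) :
    ∃ i' j' : ℕ, g = D.a ^ i' * D.b ^ j' ∧ i' < p ^ D.m ∧ j' < p ^ D.k ∧
      p ^ α ∣ i' ∧ p ^ β ∣ j' := by
  obtain ⟨t, ht, htn⟩ := D.exists_t
  have hpm : 0 < p ^ D.m := pow_pos D.hp.pos _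
  have hpk : 0 < p ^ D.k := pow_pos D.hp.pos _
  have hαt : p ^ α ∣ t := dvd_trans (pow_dvd_pow p hα) htn
  refine ⟨(i + t * (j / p ^ D.k) * D.r ^ (j % p ^ D.k)) % p ^ D.m, j % p ^ D.k, ?_,
    Nat.mod_lt _ hpm, Nat.mod_lt _ hpk, ?_, ?_⟩
  · have e1 : D.a ^ ((i + t * (j / p ^ D.k) * D.r ^ (j % p ^ D.k)) % p ^ D.m) =
        D.a ^ (i + t * (j / p ^ D.k) * D.r ^ (j % p ^ D.k)) := by
      rw [D.a_pow_eq_iff]
      exact Nat.mod_modEq _ _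
    rw [e1, hg]
    conv_lhs => rw [← Nat.mod_add_div j (p ^ D.k)]
    rw [pow_add (D.b) (j % p ^ D.k), pow_mul, ht, ← pow_mul, D.conj, ← mul_assoc, ← pow_add]
  · rw [Nat.dvd_mod_iff (dvd_trans (pow_dvd_pow p (le_trans hα D.n_le_m)) dvd_rfl)]
    exact Nat.dvd_add hi (Dvd.dvd.mul_right (Dvd.dvd.mul_right hαt _) _)
  · rw [Nat.dvd_mod_iff (pow_dvd_pow p hβ)]
    exact hj

/-- the subgroup `⟨a ^ (p ^ α)⟩ ⟨b ^ (p ^ β)⟩` -/
def V (α β : ℕ) : Subgroup G where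
  carrier := {g | ∃ i j : ℕ, g = D.a ^ i * D.b ^ j ∧ p ^ α ∣ i ∧ p ^ β ∣ j}
  one_mem' := ⟨0, 0, by simp, dvd_zero _, dvd_zero _⟩
  mul_mem' := by
    rintro _ _ ⟨i, j, rfl, hi, hj⟩ ⟨i', j', rfl, hi', hj'⟩
    exact ⟨_, _, D.mul i j i' j', Nat.dvd_add hi (Dvd.dvd.mul_right hi' _), Nat.dvd_add hj hj'⟩
  inv_mem' := by
    rintro _ ⟨i, j, rfl, hi, hj⟩
    have h1 : (D.a ^ i * D.b ^ j)⁻¹ = (D.a ^ i * D.b ^ j) ^ (orderOf (D.a ^ i * D.b ^ j) - 1) := by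
      apply inv_eq_of_mul_eq_one_right
      rw [← pow_succ', Nat.sub_add_cancel (orderOf_pos _), pow_orderOf_eq_one]
    rw [h1, D.pow]
    exact ⟨_, _, rfl, Dvd.dvd.mul_right hi _, Dvd.dvd.mul_right hj _⟩

theorem mem_V {α β : ℕ} {g : G} :
    g ∈ D.V α β ↔ ∃ i j : ℕ, g = D.a ^ i * D.b ^ j ∧ p ^ α ∣ i ∧ p ^ β ∣ j := Iff.rfl

theorem mem_V_iff {α β : ℕ} (hα : α ≤ D.n) (hβ : β ≤ D.k) (i j : ℕ) :
    D.a ^ i * D.b ^ j ∈ D.V α β ↔ p ^ α ∣ i ∧ p ^ β ∣ j := by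
  constructor
  · rintro ⟨i', j', h, hi', hj'⟩
    obtain ⟨h1, h2⟩ := D.nf h
    constructor
    · exact (Nat.ModEq.dvd_iff (Nat.ModEq.of_dvd (pow_dvd_pow p hα) h2) dvd_rfl).mpr hi'
    · exact (Nat.ModEq.dvd_iff (Nat.ModEq.of_dvd (pow_dvd_pow p hβ) h1) dvd_rfl).mpr hj'
  · rintro ⟨hi, hj⟩
    exact ⟨i, j, rfl, hi, hj⟩

theorem V_zero_zero : D.V 0 0 = ⊤ := by
  rw [eq_top_iff]
  intro g _
  obtain ⟨i, j, hg⟩ := D.hgen g
  exact ⟨i, j, hg, by simp, by simp⟩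

theorem V_anti {α β α' β' : ℕ} (hα : α ≤ α') (hβ : β ≤ β') : D.V α' β' ≤ D.V α β := by
  rintro g ⟨i, j, hg, hi, hj⟩
  exact ⟨i, j, hg, dvd_trans (pow_dvd_pow p hα) hi, dvd_trans (pow_dvd_pow p hβ) hj⟩

theorem card_V {α β : ℕ} (hα : α ≤ D.n) (hβ : β ≤ D.k) :
    Nat.card (D.V α β) = p ^ (D.m - α) * p ^ (D.k - β) := by
  have hαm : α ≤ D.m := le_trans hα D.n_le_m
  have hpα : 0 < p ^ α := pow_pos D.hp.pos _
  have hpβ : 0 < p ^ β := pow_pos D.hp.pos _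
  have em : p ^ D.m = p ^ α * p ^ (D.m - α) := by rw [← pow_add, Nat.add_sub_cancel' hαm]
  have ek : p ^ D.k = p ^ β * p ^ (D.k - β) := by rw [← pow_add, Nat.add_sub_cancel' hβ]
  let f : Fin (p ^ (D.m - α)) × Fin (p ^ (D.k - β)) → D.V α β := fun x =>
    ⟨D.a ^ (p ^ α * (x.1 : ℕ)) * D.b ^ (p ^ β * (x.2 : ℕ)),
      ⟨_, _, rfl, Dvd.intro _ rfl, Dvd.intro _ rfl⟩⟩
  have hf : Function.Bijective f := by
    constructor
    · rintro ⟨x, y⟩ ⟨x', y'⟩ h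
      have h' : D.a ^ (p ^ α * (x : ℕ)) * D.b ^ (p ^ β * (y : ℕ)) =
          D.a ^ (p ^ α * (x' : ℕ)) * D.b ^ (p ^ β * (y' : ℕ)) := congrArg Subtype.val h
      obtain ⟨h1, -⟩ := D.nf h'
      have hy : p ^ β * (y : ℕ) < p ^ D.k := by
        rw [ek]; exact Nat.mul_lt_mul_of_pos_left y.2 hpβ
      have hy' : p ^ β * (y' : ℕ) < p ^ D.k := by
        rw [ek]; exact Nat.mul_lt_mul_of_pos_left y'.2 hpβ
      have e1 : p ^ β * (y : ℕ) = p ^ β * (y' : ℕ) := Nat.ModEq.eq_of_lt_of_lt h1 hy hy'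
      have e1' : (y : ℕ) = y' := Nat.eq_of_mul_eq_mul_left hpβ e1
      rw [e1] at h'
      have h2 := D.nf_same h'
      have hx : p ^ α * (x : ℕ) < p ^ D.m := by
        rw [em]; exact Nat.mul_lt_mul_of_pos_left x.2 hpα
      have hx' : p ^ α * (x' : ℕ) < p ^ D.m := by
        rw [em]; exact Nat.mul_lt_mul_of_pos_left x'.2 hpα
      have e2 : p ^ α * (x : ℕ) = p ^ α * (x' : ℕ) := Nat.ModEq.eq_of_lt_of_lt h2 hx hx'
      have e2' : (x : ℕ) = x' := Nat.eq_of_mul_eq_mul_left hpα e2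
      exact Prod.ext (Fin.ext e2') (Fin.ext e1')
    · rintro ⟨g, i, j, hg, hi, hj⟩
      obtain ⟨i', j', hg', hi'lt, hj'lt, ⟨x, rfl⟩, ⟨y, rfl⟩⟩ := D.exists_reduced hα hβ hg hi hj
      have hx : x < p ^ (D.m - α) := by
        rw [em] at hi'lt; exact Nat.lt_of_mul_lt_mul_left hi'lt
      have hy : y < p ^ (D.k - β) := by
        rw [ek] at hj'lt; exact Nat.lt_of_mul_lt_mul_left hj'lt
      exact ⟨(⟨x, hx⟩, ⟨y, hy⟩), Subtype.ext hg'.symm⟩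
  rw [← Nat.card_congr (Equiv.ofBijective f hf), Nat.card_prod, Nat.card_fin, Nat.card_fin]

theorem card_G : Nat.card G = p ^ D.m * p ^ D.k := by
  have h := D.card_V (Nat.zero_le _) (Nat.zero_le _)
  rw [D.V_zero_zero] at h
  simpa using h

end fin

end MC

/-! ### Existence of coordinate data -/

theorem MC.exists_of_metacyclic {G : Type*} [Group G] [Finite G] {p : ℕ} [Fact p.Prime]
    (hp : p ≠ 2) (hG : IsPGroup p G) (hmc : Cfsg.IsMetacyclic G) : Nonempty (MC G p) := by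
  have hpp : p.Prime := Fact.out
  obtain ⟨N, hN, hNc, hQc⟩ := hmc
  obtain ⟨⟨a, haN⟩, ha⟩ := hNc.exists_generator
  obtain ⟨q, hq⟩ := hQc.exists_generator
  obtain ⟨b, rfl⟩ := QuotientGroup.mk_surjective q
  have hNa : ∀ x ∈ N, ∃ t : ℕ, x = a ^ t := by
    intro x hx
    have h1 : x ∈ Subgroup.zpowers a := by
      obtain ⟨z, hz⟩ := Subgroup.mem_zpowers_iff.mp (ha ⟨x, hx⟩)
      refine Subgroup.mem_zpowers_iff.mpr ⟨z, ?_⟩
      have := congrArg Subtype.val hz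
      simpa using this
    rw [← mem_powers_iff_mem_zpowers] at h1
    obtain ⟨t, ht⟩ := h1
    exact ⟨t, ht.symm⟩
  have hzN : Subgroup.zpowers a ≤ N := Subgroup.zpowers_le.mpr haN
  obtain ⟨m, hm⟩ := (IsPGroup.iff_orderOf.mp hG) a
  obtain ⟨k, hk⟩ : ∃ k, orderOf (QuotientGroup.mk b : G ⧸ N) = p ^ k :=
    (IsPGroup.iff_orderOf.mp (hG.to_quotient N)) _
  obtain ⟨K, hK⟩ := (IsPGroup.iff_orderOf.mp hG) b
  obtain ⟨r₀, hr₀⟩ := hNa _ (hN.conj_mem a haN b)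
  have hgen : ∀ g : G, ∃ i j : ℕ, g = a ^ i * b ^ j := by
    intro g
    have h1 := hq (QuotientGroup.mk g)
    rw [← mem_powers_iff_mem_zpowers] at h1
    obtain ⟨j, hj⟩ := h1
    have hj' : ((b ^ j : G) : G ⧸ N) = (g : G ⧸ N) := by
      rw [QuotientGroup.mk_pow]; exact hj
    have h2 : (b ^ j)⁻¹ * g ∈ N := QuotientGroup.eq.mp hj'
    have h3 : g * (b ^ j)⁻¹ ∈ N := by
      have := hN.conj_mem _ h2 (b ^ j)
      have e : b ^ j * ((b ^ j)⁻¹ * g) * (b ^ j)⁻¹ = g * (b ^ j)⁻¹ := by group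
      rwa [e] at this
    obtain ⟨i, hi⟩ := hNa _ h3
    exact ⟨i, j, by rw [← hi]; group⟩
  have hkk : ∀ j : ℕ, b ^ j ∈ Subgroup.zpowers a ↔ p ^ k ∣ j := by
    intro j
    rw [← hk, orderOf_dvd_iff_pow_eq_one, ← QuotientGroup.mk_pow, QuotientGroup.eq_one_iff]
    constructor
    · intro h; exact hzN h
    · intro h
      obtain ⟨t, ht⟩ := hNa _ h
      rw [ht]; exact Subgroup.pow_mem _ (Subgroup.mem_zpowers a) _
  rcases Nat.eq_zero_or_pos m with hm0 | hm0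
  · -- `a = 1`
    have ha1 : a = 1 := by
      rw [hm0, pow_zero, orderOf_eq_one_iff] at hm
      exact hm
    refine ⟨⟨a, b, m, k, p + 1, 1, hpp, hp, hm, ?_, ?_, ?_, le_refl _, hgen, hkk⟩⟩
    · rw [ha1]; simp
    · have := hpp.two_le; omega
    · rw [Nat.add_sub_cancel]; exact padicValNat_self
  · have hpm : p ∣ p ^ m := dvd_pow_self p hm0.ne'
    have h1 := mc_conj hr₀ 1 (p ^ K)
    rw [← hK, pow_orderOf_eq_one, one_mul, mul_one, one_mul, pow_eq_pow_iff_modEq, hm] at h1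
    rw [hK] at h1
    have h2 : 1 ≡ r₀ ^ p ^ K [MOD p] := h1.of_dvd hpm
    have h3 : ((r₀ : ℕ) : ZMod p) = 1 := by
      have h4 := (ZMod.natCast_eq_natCast_iff _ _ _).mpr h2
      rw [Nat.cast_pow, ZMod.pow_card_pow, Nat.cast_one] at h4
      exact h4.symm
    have h5 : 1 ≡ r₀ [MOD p] := by
      rw [← ZMod.natCast_eq_natCast_iff, h3, Nat.cast_one]
    have h6 : 1 ≡ r₀ + p ^ m [MOD p] := by
      have h7 : r₀ + p ^ m ≡ r₀ + 0 [MOD p] :=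
        Nat.ModEq.add_left r₀ ((Nat.modEq_zero_iff_dvd).mpr hpm)
      rw [add_zero] at h7
      exact h5.trans h7.symm
    have hpm2 : 2 ≤ p ^ m := le_trans hpp.two_le (Nat.le_self_pow hm0.ne' p)
    have h8 : p ∣ r₀ + p ^ m - 1 := (Nat.modEq_iff_dvd' (by omega)).mp h6
    refine ⟨⟨a, b, m, k, r₀ + p ^ m, padicValNat p (r₀ + p ^ m - 1), hpp, hp, hm, ?_, ?_, rfl,
      ?_, hgen, hkk⟩⟩
    · rw [hr₀, pow_add, ← hm, pow_orderOf_eq_one, mul_one]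
    · omega
    · exact one_le_padicValNat_of_dvd (by omega) h8

end Cfsg.Agent.H15
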