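import Mathlib
import Cfsg.Agent.H15.Metacyclic

set_option autoImplicit false

namespace Cfsg.Agent.H15

open Cfsg

/-! ### Generic bounds on the index of a centralizer -/

theorem le_index_centralizer {G : Type*} [Group G] [Finite G] (g c : G) (M : ℕ)
    (h : ∀ d, 0 < d → d < M → c ^ d * g ≠ g * c ^ d) :
    M ≤ (Subgroup.centralizer ({g} : Set G)).index := by
  let f : Fin M → G ⧸ Subgroup.centralizer ({g} : Set G) := fun x => QuotientGroup.mk (c ^ (x : ℕ))
  have key : ∀ x y : ℕ, x ≤ y → y < M →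
      (QuotientGroup.mk (c ^ x) : G ⧸ Subgroup.centralizer ({g} : Set G)) = QuotientGroup.mk (c ^ y) →
      x = y := by
    intro x y hxy hy he
    have h1 := QuotientGroup.eq.mp he
    by_contra hne
    have hd : 0 < y - x := by omega
    apply h (y - x) hd (by omega)
    have e : (c ^ x)⁻¹ * c ^ y = c ^ (y - x) := by
      rw [inv_mul_eq_iff_eq_mul, ← pow_add]; congr 1; omega
    rw [e, Subgroup.mem_centralizer_iff] at h1
    exact (h1 g (Set.mem_singleton g)).symm
  have hf : Function.Injective f := by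
    intro x y hxy
    rcases Nat.le_total x y with h1 | h1
    · exact Fin.ext (key x y h1 y.2 hxy)
    · exact Fin.ext (key y x h1 x.2 hxy.symm).symm
  have := Nat.card_le_card_of_injective f hf
  rwa [Nat.card_fin] at this

theorem index_centralizer_le {G : Type*} [Group G] [Finite G] (g : G) (T : Subgroup G)
    (h : ∀ x : G, x * g * x⁻¹ * g⁻¹ ∈ T) :
    (Subgroup.centralizer ({g} : Set G)).index ≤ Nat.card T := by
  let f : G ⧸ Subgroup.centralizer ({g} : Set G) → T := fun q =>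
    Quotient.liftOn' q (fun x => (⟨x * g * x⁻¹ * g⁻¹, h x⟩ : T)) (by
      intro x y hxy
      rw [QuotientGroup.leftRel_apply, Subgroup.mem_centralizer_iff] at hxy
      have h1 := hxy g (Set.mem_singleton g)
      apply Subtype.ext
      show x * g * x⁻¹ * g⁻¹ = y * g * y⁻¹ * g⁻¹
      have : y * g * y⁻¹ = x * g * x⁻¹ := by
        have e : y * g * y⁻¹ = x * ((x⁻¹ * y) * g) * (x⁻¹ * y)⁻¹ * x⁻¹ := by group
        rw [e, ← h1]; group
      rw [this])
  have hf : Function.Injective f := by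
    intro q₁ q₂
    induction q₁ using QuotientGroup.induction_on with
    | H x =>
    induction q₂ using QuotientGroup.induction_on with
    | H y =>
    intro he
    have he' : x * g * x⁻¹ * g⁻¹ = y * g * y⁻¹ * g⁻¹ := congrArg Subtype.val he
    apply QuotientGroup.eq.mpr
    rw [Subgroup.mem_centralizer_iff]
    intro z hz
    rw [Set.mem_singleton_iff] at hz
    subst hz
    have h2 : x * z * x⁻¹ = y * z * y⁻¹ := mul_right_cancel he'
    calc z * (x⁻¹ * y) = x⁻¹ * (x * z * x⁻¹) * y := by group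
      _ = x⁻¹ * (y * z * y⁻¹) * y := by rw [h2]
      _ = x⁻¹ * y * z := by group
  exact Nat.card_le_card_of_injective f hf

theorem mc_not_dvd_mul {p A B M x y : ℕ} (hp : p.Prime) (hx : ¬ p ^ A ∣ x) (hy : ¬ p ^ B ∣ y)
    (hM : A + B ≤ M + 1) : ¬ p ^ M ∣ x * y := by
  have : Fact p.Prime := ⟨hp⟩
  have hx0 : x ≠ 0 := by rintro rfl; exact hx (dvd_zero _)
  have hy0 : y ≠ 0 := by rintro rfl; exact hy (dvd_zero _)
  rw [padicValNat_dvd_iff_le hx0] at hx
  rw [padicValNat_dvd_iff_le hy0] at hy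
  rw [padicValNat_dvd_iff_le (Nat.mul_ne_zero hx0 hy0), padicValNat.mul hx0 hy0]
  omega

namespace MC

variable {G : Type*} [Group G] {p : ℕ} (D : MC G p)

section fin
variable [Finite G]

/-- commutators with an element of `V e e` lie in `⟨a ^ (p ^ (σ + e))⟩` -/
theorem comm_mem (e : ℕ) {g : G} (hg : g ∈ D.V e e) (x : G) :
    x * g * x⁻¹ * g⁻¹ ∈ Subgroup.zpowers (D.a ^ (p ^ (D.σ + e))) := by
  obtain ⟨i, j, rfl, hi, hj⟩ := hg
  obtain ⟨i', j', rfl⟩ := D.hgen x
  have h1 := D.mul i' j' i j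
  have h2 := D.mul i j i' j'
  have e1 : (D.a ^ i' * D.b ^ j') * (D.a ^ i * D.b ^ j) * (D.a ^ i' * D.b ^ j')⁻¹ *
      (D.a ^ i * D.b ^ j)⁻¹ = D.a ^ (i' + i * D.r ^ j') * (D.a ^ (i + i' * D.r ^ j))⁻¹ := by
    have : (D.a ^ i' * D.b ^ j') * (D.a ^ i * D.b ^ j) * (D.a ^ i' * D.b ^ j')⁻¹ *
        (D.a ^ i * D.b ^ j)⁻¹ = ((D.a ^ i' * D.b ^ j') * (D.a ^ i * D.b ^ j)) *
        ((D.a ^ i * D.b ^ j) * (D.a ^ i' * D.b ^ j'))⁻¹ := by group
    rw [this, h1, h2, add_comm j' j]; group
  rw [e1]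
  have e2 : i' + i * D.r ^ j' = (i + i') + i * (D.r ^ j' - 1) := by
    conv_lhs => rw [D.r_pow_split j']
    ring
  have e3 : i + i' * D.r ^ j = (i + i') + i' * (D.r ^ j - 1) := by
    conv_lhs => rw [D.r_pow_split j]
    ring
  obtain ⟨u, hu⟩ : p ^ (D.σ + e) ∣ i * (D.r ^ j' - 1) :=
    mc_dvd_mul_of (by omega) hi (D.sigma_dvd j')
  obtain ⟨v, hv⟩ : p ^ (D.σ + e) ∣ i' * (D.r ^ j - 1) :=
    Dvd.dvd.mul_left ((D.dvd_r_pow_sub_iff e j).mpr hj) i'
  rw [e2, e3, hu, hv]
  have e4 : D.a ^ (i + i' + p ^ (D.σ + e) * u) * (D.a ^ (i + i' + p ^ (D.σ + e) * v))⁻¹ =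
      (D.a ^ (p ^ (D.σ + e))) ^ ((u : ℤ) - v) := by
    rw [← zpow_natCast D.a (i + i' + p ^ (D.σ + e) * u),
      ← zpow_natCast D.a (i + i' + p ^ (D.σ + e) * v), ← zpow_natCast D.a (p ^ (D.σ + e)),
      ← zpow_neg, ← zpow_add, ← zpow_mul]
    congr 1
    push_cast
    ring
  rw [e4]
  exact Subgroup.zpow_mem _ (Subgroup.mem_zpowers _) _

theorem card_zpowers_a_pow (e : ℕ) (he : e ≤ D.m) :
    Nat.card (Subgroup.zpowers (D.a ^ (p ^ e))) = p ^ (D.m - e) := by
  rw [Nat.card_zpowers, orderOf_pow_of_dvd (pow_pos D.hp.pos _).ne'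
    (by rw [D.ha]; exact pow_dvd_pow p he), D.ha, Nat.pow_div he D.hp.pos]

theorem index_centralizer_le_of_mem (e : ℕ) (he : e ≤ D.n) {g : G} (hg : g ∈ D.V e e) :
    (Subgroup.centralizer ({g} : Set G)).index ≤ p ^ (D.n - e) := by
  have h1 := index_centralizer_le g _ (D.comm_mem e hg)
  by_cases hσ : D.σ ≤ D.m
  · rw [D.card_zpowers_a_pow (D.σ + e) (by unfold n at he; omega)] at h1
    have : D.m - (D.σ + e) = D.n - e := by unfold n; omega
    rwa [this] at h1
  · have : D.a ^ (p ^ (D.σ + e)) = 1 := by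
      rw [D.a_pow_eq_one_iff]; exact pow_dvd_pow p (by omega)
    rw [this, Subgroup.zpowers_one_eq_bot, Subgroup.card_bot] at h1
    exact le_trans h1 (Nat.one_le_pow _ _ D.hp.pos)

theorem lt_index_centralizer (s : ℕ) (hs : s ≤ D.n) {g : G} (hg : g ∉ D.V s s) :
    p ^ (D.n - s) < (Subgroup.centralizer ({g} : Set G)).index := by
  obtain ⟨i, j, rfl⟩ := D.hgen g
  have hs1 : 1 ≤ s := by
    by_contra h
    have : s = 0 := by omega
    subst this
    exact hg ⟨i, j, rfl, by simp, by simp⟩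
  have hm : D.m = D.σ + D.n := by unfold n at *; omega
  have hij : ¬ (p ^ s ∣ i ∧ p ^ s ∣ j) := fun h => hg ⟨i, j, rfl, h.1, h.2⟩
  have hlt : p ^ (D.n - s) < p ^ (D.n - s + 1) := Nat.pow_lt_pow_right D.hp.one_lt (by omega)
  refine lt_of_lt_of_le hlt ?_
  by_cases hj : p ^ s ∣ j
  · have hi : ¬ p ^ s ∣ i := fun h => hij ⟨h, hj⟩
    apply le_index_centralizer _ D.b
    intro d hd0 hdlt hcomm
    rw [D.comm_b_iff] at hcomm
    have h1 : ¬ p ^ (D.σ + (D.n - s + 1)) ∣ D.r ^ d - 1 := by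
      rw [D.dvd_r_pow_sub_iff]
      intro h
      exact absurd (Nat.le_of_dvd hd0 h) (by omega)
    exact mc_not_dvd_mul D.hp hi h1 (by omega) hcomm
  · apply le_index_centralizer _ D.a
    intro d hd0 hdlt hcomm
    rw [D.comm_a_iff] at hcomm
    have h1 : ¬ p ^ (D.σ + s) ∣ D.r ^ j - 1 := by
      rw [D.dvd_r_pow_sub_iff]; exact hj
    have h2 : ¬ p ^ (D.n - s + 1) ∣ d := fun h => absurd (Nat.le_of_dvd hd0 h) (by omega)
    exact mc_not_dvd_mul D.hp h2 h1 (by omega) hcomm

/-- class sizes: `|G : C_G(g)| ≤ p ^ (n - s)` iff `g ∈ ⟨a ^ (p ^ s)⟩ ⟨b ^ (p ^ s)⟩` -/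
theorem index_centralizer_le_iff (s : ℕ) (hs : s ≤ D.n) (g : G) :
    (Subgroup.centralizer ({g} : Set G)).index ≤ p ^ (D.n - s) ↔ g ∈ D.V s s :=
  ⟨fun h => by
    by_contra hg
    exact absurd (D.lt_index_centralizer s hs hg) (not_lt.mpr h),
    D.index_centralizer_le_of_mem s hs⟩

theorem center_eq : Subgroup.center G = D.V D.n D.n := by
  ext g
  rw [← D.index_centralizer_le_iff D.n le_rfl g, Nat.sub_self, pow_zero]
  constructor
  · intro hg
    have : Subgroup.centralizer ({g} : Set G) = ⊤ := by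
      rw [eq_top_iff]
      intro x _
      rw [Subgroup.mem_centralizer_iff]
      intro h hh
      rw [Set.mem_singleton_iff] at hh
      subst hh
      exact (Subgroup.mem_center_iff.mp hg x).symm
    rw [this, Subgroup.index_top]
  · intro h
    have h1 : (Subgroup.centralizer ({g} : Set G)).index = 1 :=
      le_antisymm h (Nat.one_le_iff_ne_zero.mpr Subgroup.index_ne_zero_of_finite)
    rw [Subgroup.index_eq_one] at h1
    rw [Subgroup.mem_center_iff]
    intro x
    have hx : x ∈ Subgroup.centralizer ({g} : Set G) := by rw [h1]; trivial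
    rw [Subgroup.mem_centralizer_iff] at hx
    exact (hx g rfl).symm

theorem card_center : Nat.card (Subgroup.center G) = p ^ (D.m - D.n) * p ^ (D.k - D.n) := by
  rw [D.center_eq, D.card_V le_rfl D.n_le_k]

theorem card_commutator : Nat.card (commutator G) = p ^ D.n := by
  apply le_antisymm
  · have h1 : commutator G ≤ Subgroup.zpowers (D.a ^ (p ^ (D.σ + 0))) := by
      rw [commutator_def, Subgroup.commutator_le]
      intro x _ g _
      exact D.comm_mem 0 (by rw [D.V_zero_zero]; trivial) x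
    have h2 := Subgroup.card_le_of_le h1
    by_cases hσ : D.σ ≤ D.m
    · rw [D.card_zpowers_a_pow _ (by omega)] at h2
      exact h2
    · have : D.a ^ (p ^ (D.σ + 0)) = 1 := by
        rw [D.a_pow_eq_one_iff]; exact pow_dvd_pow p (by omega)
      rw [this, Subgroup.zpowers_one_eq_bot, Subgroup.card_bot] at h2
      exact le_trans h2 (Nat.one_le_pow _ _ D.hp.pos)
  · have h1 : p ^ D.n ≤ (Subgroup.centralizer ({D.a} : Set G)).index := by
      apply le_index_centralizer _ D.b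
      intro d hd0 hdlt hcomm
      have h := D.comm_b_iff d 1 0
      rw [pow_one, pow_zero, mul_one] at h
      rw [h, one_mul] at hcomm
      by_cases hσ : D.σ ≤ D.m
      · have h3 : p ^ (D.σ + D.n) ∣ D.r ^ d - 1 := by
          rwa [show D.σ + D.n = D.m by unfold n; omega]
        rw [D.dvd_r_pow_sub_iff] at h3
        exact absurd (Nat.le_of_dvd hd0 h3) (by omega)
      · have h3 : D.n = 0 := by unfold n; omega
        rw [h3, pow_zero] at hdlt
        omega
    have h2 := index_centralizer_le D.a (commutator G) (fun x => by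
      rw [← commutatorElement_def, commutator_def]
      exact Subgroup.commutator_mem_commutator (Subgroup.mem_top x) (Subgroup.mem_top _))
    exact le_trans h1 h2

theorem index_commutator : (commutator G).index = p ^ (D.m + D.k - D.n) := by
  have h1 := Subgroup.card_mul_index (commutator G)
  rw [D.card_commutator, D.card_G] at h1
  have h2 : p ^ D.m * p ^ D.k = p ^ D.n * p ^ (D.m + D.k - D.n) := by
    rw [← pow_add, ← pow_add]
    congr 1
    have := D.n_le_m
    omega
  rw [h2] at h1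
  exact Nat.eq_of_mul_eq_mul_left (pow_pos D.hp.pos _) h1

include D in
theorem index_eq_pow (H : Subgroup G) : ∃ e : ℕ, H.index = p ^ e := by
  have h1 := Subgroup.index_dvd_card H
  rw [D.card_G, ← pow_add] at h1
  obtain ⟨e, -, he⟩ := (Nat.dvd_prime_pow D.hp).mp h1
  exact ⟨e, he⟩

include D in
theorem card_eq_pow (H : Subgroup G) : ∃ e : ℕ, Nat.card H = p ^ e := by
  have h1 := Subgroup.card_subgroup_dvd_card H
  rw [D.card_G, ← pow_add] at h1
  obtain ⟨e, -, he⟩ := (Nat.dvd_prime_pow D.hp).mp h1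
  exact ⟨e, he⟩

theorem index_centralizer_eq_iff (i : ℕ) (hi : 1 ≤ i) (hin : i ≤ D.n) (g : G) :
    (Subgroup.centralizer ({g} : Set G)).index = p ^ i ↔
      g ∈ D.V (D.n - i) (D.n - i) ∧ g ∉ D.V (D.n - i + 1) (D.n - i + 1) := by
  rw [← D.index_centralizer_le_iff (D.n - i) (Nat.sub_le _ _) g,
    ← D.index_centralizer_le_iff (D.n - i + 1) (by omega) g]
  have e1 : D.n - (D.n - i) = i := by omega
  have e2 : D.n - (D.n - i + 1) = i - 1 := by omega
  rw [e1, e2]
  obtain ⟨e, hidx⟩ := D.index_eq_pow (Subgroup.centralizer ({g} : Set G))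
  rw [hidx, Nat.pow_le_pow_iff_right D.hp.one_lt, Nat.pow_le_pow_iff_right D.hp.one_lt]
  constructor
  · intro h
    have := Nat.pow_right_injective D.hp.two_le h
    omega
  · rintro ⟨h1, h2⟩
    congr 1
    omega

theorem comm_all_iff : (∀ x y : G, x * y = y * x) ↔ D.n = 0 := by
  constructor
  · intro h
    have h1 := h (D.b ^ 1) (D.a ^ 1 * D.b ^ 0)
    rw [D.comm_b_iff, one_mul, pow_one] at h1
    have : Fact p.Prime := ⟨D.hp⟩
    have hr1 : D.r - 1 ≠ 0 := by have := D.hr; omega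
    rw [padicValNat_dvd_iff_le hr1, D.hσ] at h1
    unfold n; omega
  · intro h x y
    have hx : x ∈ Subgroup.center G := by
      rw [D.center_eq, h, D.V_zero_zero]; trivial
    exact (Subgroup.mem_center_iff.mp hx y).symm

theorem closure_pow_eq (s : ℕ) :
    Subgroup.closure {x : G | ∃ y : G, y ^ p ^ s = x} = D.V s s := by
  apply le_antisymm
  · rw [Subgroup.closure_le]
    rintro _ ⟨y, rfl⟩
    obtain ⟨i, j, rfl⟩ := D.hgen y
    rw [D.pow]
    exact ⟨_, _, rfl, Dvd.dvd.mul_left ((D.dvd_geomS_iff s j (p ^ s)).mpr dvd_rfl) i,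
      Dvd.intro_left _ rfl⟩
  · rintro g ⟨i, j, rfl, ⟨i', rfl⟩, ⟨j', rfl⟩⟩
    apply Subgroup.mul_mem
    · apply Subgroup.subset_closure; exact ⟨D.a ^ i', by rw [← pow_mul, mul_comm]⟩
    · apply Subgroup.subset_closure; exact ⟨D.b ^ j', by rw [← pow_mul, mul_comm]⟩

end fin

end MC

end Cfsg.Agent.H15
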