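import Mathlib
import Cfsg.Agent.H15.Metacyclic2
import Cfsg.Agent.H3.PGroup

set_option autoImplicit false

namespace Cfsg.Agent.H15

open Cfsg

theorem isCoatom_of_index_prime' {G : Type*} [Group G] [Finite G] {p : ℕ} (hp : p.Prime)
    {H : Subgroup G} (h : H.index = p) : IsCoatom H := by
  constructor
  · intro ht
    rw [ht, Subgroup.index_top] at h
    exact hp.one_lt.ne h
  · intro K hK
    have h1 : K.index ∣ H.index := Subgroup.index_dvd_of_le hK.le
    rw [h] at h1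
    rcases (Nat.dvd_prime hp).mp h1 with h2 | h2
    · exact Subgroup.index_eq_one.mp h2
    · exfalso
      have h3 := Subgroup.relIndex_mul_index hK.le
      rw [h, h2] at h3
      have h4 : H.relIndex K = 1 := by
        have : H.relIndex K * p = 1 * p := by rw [one_mul]; exact h3
        exact Nat.eq_of_mul_eq_mul_right hp.pos this
      exact absurd (Subgroup.relIndex_eq_one.mp h4) (not_le_of_gt hK)

namespace MC

variable {G : Type*} [Group G] {p : ℕ} (D : MC G p)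

/-- parameters of a subgroup `L`: `L ∩ ⟨a⟩ = ⟨a ^ (p ^ α)⟩`, the image of `L` modulo `⟨a⟩` is
generated by `b ^ (p ^ β)`, and `a ^ c b ^ (p ^ β) ∈ L` -/
structure SubData (L : Subgroup G) where
  α : ℕ
  β : ℕ
  c : ℕ
  hα : α ≤ D.m
  hβ : β ≤ D.k
  ha : D.a ^ (p ^ α) ∈ L
  hh : D.a ^ c * D.b ^ (p ^ β) ∈ L
  hmin_a : ∀ i : ℕ, D.a ^ i ∈ L → p ^ α ∣ i
  hmin_b : ∀ i j : ℕ, D.a ^ i * D.b ^ j ∈ L → p ^ β ∣ j

theorem sub_conj (c β α : ℕ) :
    (D.a ^ c * D.b ^ (p ^ β)) * D.a ^ (p ^ α) * (D.a ^ c * D.b ^ (p ^ β))⁻¹ =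
      (D.a ^ (p ^ α)) ^ (D.r ^ (p ^ β)) := by
  rw [mul_inv_eq_iff_eq_mul, ← pow_mul]
  have h1 := D.mul c (p ^ β) (p ^ α) 0
  have h2 := D.mul (p ^ α * D.r ^ (p ^ β)) 0 c (p ^ β)
  rw [pow_zero, mul_one, add_zero] at h1
  rw [pow_zero, mul_one, pow_zero, mul_one, zero_add] at h2
  rw [h1, h2, add_comm]

section fin
variable [Finite G]

theorem exists_subData (L : Subgroup G) : Nonempty (D.SubData L) := by
  classical
  have hA0 : D.a ^ (p ^ D.m) ∈ L := by
    rw [(D.a_pow_eq_one_iff _).mpr dvd_rfl]; exact L.one_mem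
  have hA : ∃ α, D.a ^ (p ^ α) ∈ L := ⟨D.m, hA0⟩
  obtain ⟨t, ht, -⟩ := D.exists_t
  have hB0 : ∃ c, D.a ^ c * D.b ^ (p ^ D.k) ∈ L := by
    refine ⟨t * (p ^ D.m - 1), ?_⟩
    rw [ht, ← pow_add]
    have h1 : t * (p ^ D.m - 1) + t = p ^ D.m * t := by
      obtain ⟨P', hP'⟩ := Nat.exists_eq_succ_of_ne_zero (pow_pos D.hp.pos D.m).ne'
      rw [hP', Nat.succ_sub_one, Nat.succ_mul, mul_comm]
    rw [h1, (D.a_pow_eq_one_iff _).mpr (Dvd.intro _ rfl)]
    exact L.one_mem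
  have hB : ∃ β, ∃ c, D.a ^ c * D.b ^ (p ^ β) ∈ L := ⟨D.k, hB0⟩
  have hαm : Nat.find hA ≤ D.m := Nat.find_min' hA hA0
  have hβk : Nat.find hB ≤ D.k := Nat.find_min' hB hB0
  obtain ⟨c, hc⟩ := Nat.find_spec hB
  refine ⟨⟨Nat.find hA, Nat.find hB, c, hαm, hβk, Nat.find_spec hA, hc, ?_, ?_⟩⟩
  · intro i hi
    obtain ⟨γ, -, hγ⟩ := (Nat.dvd_prime_pow D.hp).mp (Nat.gcd_dvd_right i (p ^ D.m))
    have h1 : D.a ^ (p ^ γ) ∈ L := by
      have h2 : (D.a ^ (p ^ γ) : G) = (D.a ^ i) ^ (Nat.gcdA i (p ^ D.m)) *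
          (D.a ^ (p ^ D.m)) ^ (Nat.gcdB i (p ^ D.m)) := by
        rw [← zpow_natCast D.a (p ^ γ), ← zpow_natCast D.a i, ← zpow_natCast D.a (p ^ D.m),
          ← zpow_mul, ← zpow_mul, ← zpow_add]
        congr 1
        rw [← hγ]
        exact Nat.gcd_eq_gcd_ab i (p ^ D.m)
      rw [h2, (D.a_pow_eq_one_iff _).mpr dvd_rfl, one_zpow, mul_one]
      exact L.zpow_mem hi _
    have h3 : Nat.find hA ≤ γ := Nat.find_min' hA h1
    have h4 : p ^ γ ∣ i := by rw [← hγ]; exact Nat.gcd_dvd_left _ _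
    exact dvd_trans (pow_dvd_pow p h3) h4
  · intro i j hij
    by_cases hlt : Nat.gcd j (p ^ D.k) < p ^ D.k
    · obtain ⟨x, -, hx⟩ := Nat.exists_mul_mod_eq_gcd hlt
      obtain ⟨γ, -, hγ⟩ := (Nat.dvd_prime_pow D.hp).mp (Nat.gcd_dvd_right j (p ^ D.k))
      rw [hγ] at hx
      have h1 := L.pow_mem hij x
      rw [D.pow] at h1
      have h2 : D.b ^ (j * x) = D.a ^ (t * (j * x / p ^ D.k)) * D.b ^ (p ^ γ) := by
        conv_lhs => rw [← Nat.div_add_mod (j * x) (p ^ D.k), hx]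
        rw [pow_add, pow_mul, ht, ← pow_mul]
      rw [h2, ← mul_assoc, ← pow_add] at h1
      have h3 : Nat.find hB ≤ γ := Nat.find_min' hB ⟨_, h1⟩
      have h4 : p ^ γ ∣ j := by rw [← hγ]; exact Nat.gcd_dvd_left _ _
      exact dvd_trans (pow_dvd_pow p h3) h4
    · have h1 : Nat.gcd j (p ^ D.k) = p ^ D.k :=
        le_antisymm (Nat.le_of_dvd (pow_pos D.hp.pos _) (Nat.gcd_dvd_right _ _)) (not_lt.mp hlt)
      have h4 : p ^ D.k ∣ j := by rw [← h1]; exact Nat.gcd_dvd_left _ _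
      exact dvd_trans (pow_dvd_pow p hβk) h4

variable {D}

theorem SubData.gen {L : Subgroup G} (S : D.SubData L) {g : G} (hg : g ∈ L) :
    ∃ x y : ℕ, g = (D.a ^ (p ^ S.α)) ^ x * (D.a ^ S.c * D.b ^ (p ^ S.β)) ^ y := by
  obtain ⟨i, j, rfl⟩ := D.hgen g
  obtain ⟨y, rfl⟩ := S.hmin_b i j hg
  have h1 := D.pow S.c (p ^ S.β) y
  have h2 : D.a ^ i * D.b ^ (p ^ S.β * y) * ((D.a ^ S.c * D.b ^ (p ^ S.β)) ^ y)⁻¹ ∈ L :=
    L.mul_mem hg (L.inv_mem (L.pow_mem S.hh y))
  have h3 : D.a ^ i * D.b ^ (p ^ S.β * y) * ((D.a ^ S.c * D.b ^ (p ^ S.β)) ^ y)⁻¹ ∈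
      Subgroup.zpowers D.a := by
    rw [h1]
    have : D.a ^ i * D.b ^ (p ^ S.β * y) *
        (D.a ^ (S.c * geomS D.r (p ^ S.β) y) * D.b ^ (p ^ S.β * y))⁻¹ =
        D.a ^ i * (D.a ^ (S.c * geomS D.r (p ^ S.β) y))⁻¹ := by group
    rw [this]
    exact Subgroup.mul_mem _ (Subgroup.pow_mem _ (Subgroup.mem_zpowers _) _)
      (Subgroup.inv_mem _ (Subgroup.pow_mem _ (Subgroup.mem_zpowers _) _))
  obtain ⟨t, ht⟩ := D.mem_zpowers_a h3
  rw [ht] at h2
  obtain ⟨x, rfl⟩ := S.hmin_a t h2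
  refine ⟨x, y, ?_⟩
  rw [← pow_mul, ← ht]
  group

theorem SubData.pow_mem_iff {L : Subgroup G} (S : D.SubData L) (j : ℕ) :
    (D.a ^ S.c * D.b ^ (p ^ S.β)) ^ j ∈ Subgroup.zpowers (D.a ^ (p ^ S.α)) ↔
      p ^ (D.k - S.β) ∣ j := by
  have hk : p ^ D.k = p ^ S.β * p ^ (D.k - S.β) := by
    rw [← pow_add, Nat.add_sub_cancel' S.hβ]
  have key : (D.a ^ S.c * D.b ^ (p ^ S.β)) ^ j ∈ Subgroup.zpowers D.a ↔
      p ^ (D.k - S.β) ∣ j := by
    rw [D.pow]
    have h1 : D.a ^ (S.c * geomS D.r (p ^ S.β) j) * D.b ^ (p ^ S.β * j) ∈ Subgroup.zpowers D.a ↔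
        D.b ^ (p ^ S.β * j) ∈ Subgroup.zpowers D.a :=
      Subgroup.mul_mem_cancel_left _ (Subgroup.pow_mem _ (Subgroup.mem_zpowers _) _)
    rw [h1, D.hk, hk]
    exact Nat.mul_dvd_mul_iff_left (pow_pos D.hp.pos _)
  constructor
  · intro h
    apply key.mp
    exact (Subgroup.zpowers_le.mpr (Subgroup.pow_mem _ (Subgroup.mem_zpowers _) _)) h
  · intro h
    obtain ⟨t, ht⟩ := D.mem_zpowers_a (key.mpr h)
    have h2 : D.a ^ t ∈ L := by rw [← ht]; exact L.pow_mem S.hh j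
    obtain ⟨x, rfl⟩ := S.hmin_a t h2
    rw [ht, pow_mul]
    exact Subgroup.pow_mem _ (Subgroup.mem_zpowers _) _

variable (D)

/-- the coordinate data of a subgroup -/
def subMC {L : Subgroup G} (S : D.SubData L) : MC ↥L p where
  a := ⟨D.a ^ (p ^ S.α), S.ha⟩
  b := ⟨D.a ^ S.c * D.b ^ (p ^ S.β), S.hh⟩
  m := D.m - S.α
  k := D.k - S.β
  r := D.r ^ (p ^ S.β)
  σ := D.σ + S.β
  hp := D.hp
  hodd := D.hodd
  ha := by
    rw [Subgroup.orderOf_mk, orderOf_pow_of_dvd (pow_pos D.hp.pos _).ne'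
      (by rw [D.ha]; exact pow_dvd_pow p S.hα), D.ha, Nat.pow_div S.hα D.hp.pos]
  hconj := by
    apply Subtype.ext
    simp only [Subgroup.coe_mul, Subgroup.coe_inv, Subgroup.coe_pow]
    exact D.sub_conj S.c S.β S.α
  hr := le_trans D.hr (Nat.le_self_pow (pow_pos D.hp.pos _).ne' _)
  hσ := by
    have : Fact p.Prime := ⟨D.hp⟩
    rw [mc_lte D.hp D.hodd D.hr D.pr (pow_pos D.hp.pos _).ne', D.hσ, padicValNat.prime_pow]
  hσ1 := le_trans D.hσ1 (Nat.le_add_right _ _)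
  hgen := by
    rintro ⟨g, hg⟩
    obtain ⟨x, y, h⟩ := S.gen hg
    exact ⟨x, y, Subtype.ext (by simpa using h)⟩
  hk := by
    intro j
    rw [← S.pow_mem_iff j]
    constructor
    · intro h
      obtain ⟨z, hz⟩ := Subgroup.mem_zpowers_iff.mp h
      refine Subgroup.mem_zpowers_iff.mpr ⟨z, ?_⟩
      have := congrArg Subtype.val hz
      simpa using this
    · intro h
      obtain ⟨z, hz⟩ := Subgroup.mem_zpowers_iff.mp h
      refine Subgroup.mem_zpowers_iff.mpr ⟨z, Subtype.ext ?_⟩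
      simpa using hz

variable {D}

theorem SubData.card {L : Subgroup G} (S : D.SubData L) :
    Nat.card L = p ^ (D.m - S.α) * p ^ (D.k - S.β) :=
  (D.subMC S).card_G

theorem SubData.comm_iff {L : Subgroup G} (S : D.SubData L) :
    IsMulCommutative L ↔ D.m - S.α ≤ D.σ + S.β := by
  have h := (D.subMC S).comm_all_iff
  constructor
  · intro hc
    have h1 : (D.subMC S).n = 0 := h.mp (fun x y => hc.is_comm.comm x y)
    exact Nat.sub_eq_zero_iff_le.mp h1
  · intro hle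
    have h1 : (D.subMC S).n = 0 := Nat.sub_eq_zero_iff_le.mpr hle
    exact ⟨⟨h.mpr h1⟩⟩

theorem SubData.card_mul_card_center {L : Subgroup G} (S : D.SubData L) :
    Nat.card L * Nat.card (Subgroup.center ↥L) =
      p ^ (2 * ((D.m - S.α) + (D.k - S.β) - ((D.m - S.α) - (D.σ + S.β)))) := by
  have h1 := (D.subMC S).card_center
  have h2 := (D.subMC S).n_le_k
  have h3 := (D.subMC S).n_le_m
  have e1 : (D.subMC S).n = (D.m - S.α) - (D.σ + S.β) := rfl
  have e2 : (D.subMC S).m = D.m - S.α := rfl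
  have e3 : (D.subMC S).k = D.k - S.β := rfl
  rw [e1, e2, e3] at h1
  rw [e1, e3] at h2
  rw [e1, e2] at h3
  rw [S.card, h1, ← pow_add, ← pow_add, ← pow_add]
  congr 1
  omega

variable (D)

include D in
theorem isMulCommutative_iff_card_le (L : Subgroup G) :
    IsMulCommutative L ↔ Nat.card L ≤ (commutator G).index := by
  obtain ⟨S⟩ := D.exists_subData L
  rw [S.comm_iff, S.card, D.index_commutator, ← pow_add, Nat.pow_le_pow_iff_right D.hp.one_lt]
  have := S.hα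
  have := S.hβ
  have := D.n_le_m
  have := D.n_le_k
  have hn : D.n = D.m - D.σ := rfl
  omega

include D in
theorem maximal_iff (L : Subgroup G) :
    Maximal (fun K : Subgroup G => IsMulCommutative ↥K) L ↔
      Nat.card L = (commutator G).index := by
  constructor
  · intro hmax
    obtain ⟨S⟩ := D.exists_subData L
    have hab : IsMulCommutative L := hmax.prop
    have h1 := S.comm_iff.mp hab
    have hα := S.hα
    have hβ := S.hβ
    have hnm := D.n_le_m
    have hnk := D.n_le_k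
    have hn : D.n = D.m - D.σ := rfl
    by_contra hne
    have hlt : D.n < S.α + S.β := by
      by_contra hge
      apply hne
      rw [S.card, D.index_commutator, ← pow_add]
      congr 1
      omega
    obtain ⟨x, hxL, hxc⟩ : ∃ x : G, x ∉ L ∧ ∀ y ∈ L, x * y = y * x := by
      rcases Nat.eq_zero_or_pos S.α with hα0 | hα0
      · have hβ1 : 1 ≤ S.β := by omega
        refine ⟨D.b ^ (p ^ (S.β - 1)), ?_, ?_⟩
        · intro hmem
          have h2 := S.hmin_b 0 (p ^ (S.β - 1)) (by simpa using hmem)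
          have h3 := (Nat.pow_dvd_pow_iff_le_right D.hp.one_lt).mp h2
          omega
        · intro y hy
          obtain ⟨i, j, rfl⟩ := D.hgen y
          rw [D.comm_b_iff]
          apply Dvd.dvd.mul_left
          have h2 : p ^ (D.σ + (S.β - 1)) ∣ D.r ^ (p ^ (S.β - 1)) - 1 :=
            (D.dvd_r_pow_sub_iff _ _).mpr dvd_rfl
          exact dvd_trans (pow_dvd_pow p (by omega)) h2
      · refine ⟨D.a ^ (p ^ (S.α - 1)), ?_, ?_⟩
        · intro hmem
          have h3 := (Nat.pow_dvd_pow_iff_le_right D.hp.one_lt).mp (S.hmin_a _ hmem)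
          omega
        · intro y hy
          obtain ⟨i, j, rfl⟩ := D.hgen y
          rw [D.comm_a_iff]
          have hj := S.hmin_b i j hy
          have h2 : p ^ (D.σ + S.β) ∣ D.r ^ j - 1 := (D.dvd_r_pow_sub_iff _ _).mpr hj
          exact mc_dvd_mul_of (by omega) dvd_rfl h2
    have hK : IsMulCommutative (Subgroup.closure ((L : Set G) ∪ {x})) := by
      apply Subgroup.isMulCommutative_closure
      intro y hy z hz
      rcases hy with hy | hy <;> rcases hz with hz | hz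
      · have := hab.is_comm.comm (⟨y, hy⟩ : L) ⟨z, hz⟩
        exact congrArg Subtype.val this
      · rw [Set.mem_singleton_iff] at hz; subst hz; exact (hxc y hy).symm
      · rw [Set.mem_singleton_iff] at hy; subst hy; exact hxc z hz
      · rw [Set.mem_singleton_iff] at hy hz; rw [hy, hz]
    have hle : L ≤ Subgroup.closure ((L : Set G) ∪ {x}) :=
      fun y hy => Subgroup.subset_closure (Or.inl hy)
    have h5 := hmax.le_of_ge hK hle
    exact hxL (h5 (Subgroup.subset_closure (Or.inr rfl)))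
  · intro hcard
    refine ⟨(D.isMulCommutative_iff_card_le L).mpr hcard.le, ?_⟩
    intro K hK hLK
    have h1 := (D.isMulCommutative_iff_card_le K).mp hK
    exact (Subgroup.eq_of_le_of_card_ge hLK (by rw [hcard]; exact h1)).ge

theorem frattini_eq (hn : 1 ≤ D.n) (hG : IsPGroup p G) : frattini G = D.V 1 1 := by
  have : Fact p.Prime := ⟨D.hp⟩
  have hnm := D.n_le_m
  have hnk := D.n_le_k
  apply le_antisymm
  · have c1 : IsCoatom (D.V 1 0) := by
      apply isCoatom_of_index_prime' D.hp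
      have h1 := Subgroup.card_mul_index (D.V 1 0)
      rw [D.card_V hn (Nat.zero_le _), D.card_G] at h1
      have h2 : p ^ D.m * p ^ D.k = p ^ (D.m - 1) * p ^ (D.k - 0) * p := by
        rw [Nat.sub_zero, mul_right_comm, ← pow_succ, Nat.sub_add_cancel (by omega)]
      rw [h2] at h1
      exact Nat.eq_of_mul_eq_mul_left (Nat.mul_pos (pow_pos D.hp.pos _) (pow_pos D.hp.pos _)) h1
    have c2 : IsCoatom (D.V 0 1) := by
      apply isCoatom_of_index_prime' D.hp
      have h1 := Subgroup.card_mul_index (D.V 0 1)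
      rw [D.card_V (Nat.zero_le _) (by omega), D.card_G] at h1
      have h2 : p ^ D.m * p ^ D.k = p ^ (D.m - 0) * p ^ (D.k - 1) * p := by
        rw [Nat.sub_zero, mul_assoc, ← pow_succ, Nat.sub_add_cancel (by omega)]
      rw [h2] at h1
      exact Nat.eq_of_mul_eq_mul_left (Nat.mul_pos (pow_pos D.hp.pos _) (pow_pos D.hp.pos _)) h1
    intro g hg
    have h1 := frattini_le_coatom c1 hg
    have h2 := frattini_le_coatom c2 hg
    obtain ⟨i, j, rfl⟩ := D.hgen g
    rw [D.mem_V_iff hn (Nat.zero_le _)] at h1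
    rw [D.mem_V_iff (Nat.zero_le _) (by omega)] at h2
    exact ⟨i, j, rfl, h1.1, h2.2⟩
  · rintro g ⟨i, j, rfl, ⟨i', rfl⟩, ⟨j', rfl⟩⟩
    apply Subgroup.mul_mem
    · rw [pow_one, mul_comm, pow_mul]
      exact Cfsg.Agent.H3.pow_mem_frattini hG (D.a ^ i')
    · rw [pow_one, mul_comm, pow_mul]
      exact Cfsg.Agent.H3.pow_mem_frattini hG (D.b ^ j')

theorem centralizer_comm_iff (hn : 1 ≤ D.n) (g : G) :
    IsMulCommutative (Subgroup.centralizer ({g} : Set G)) ↔ g ∉ D.V 1 1 := by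
  rw [D.isMulCommutative_iff_card_le, ← D.index_centralizer_le_iff 1 hn g, D.index_commutator]
  obtain ⟨e, he⟩ := D.index_eq_pow (Subgroup.centralizer ({g} : Set G))
  have h1 := Subgroup.card_mul_index (Subgroup.centralizer ({g} : Set G))
  rw [he, D.card_G, ← pow_add] at h1
  have hle : e ≤ D.m + D.k := by
    have : p ^ e ∣ p ^ (D.m + D.k) := Dvd.intro_left _ h1
    exact (Nat.pow_dvd_pow_iff_le_right D.hp.one_lt).mp this
  have hc : Nat.card (Subgroup.centralizer ({g} : Set G)) = p ^ (D.m + D.k - e) := by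
    have h2 : p ^ (D.m + D.k) = p ^ (D.m + D.k - e) * p ^ e := by
      rw [← pow_add]; congr 1; omega
    rw [h2] at h1
    exact Nat.eq_of_mul_eq_mul_right (pow_pos D.hp.pos _) h1
  rw [hc, he, Nat.pow_le_pow_iff_right D.hp.one_lt, Nat.pow_le_pow_iff_right D.hp.one_lt]
  have := D.n_le_m
  omega

end fin

end MC

end Cfsg.Agent.H15
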