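import Mathlib
import Cfsg.Agent.H15.Metacyclic3

set_option autoImplicit false

namespace Cfsg.Agent.H15

open Cfsg

theorem zpowers_inf_eq_bot' {G : Type*} [Group G] [Finite G] (x : G) (B : Subgroup G)
    (h : ∀ j : ℕ, x ^ j ∈ B → x ^ j = 1) : Subgroup.zpowers x ⊓ B = ⊥ := by
  rw [eq_bot_iff]
  intro y hy
  rw [Subgroup.mem_inf] at hy
  obtain ⟨hy1, hy2⟩ := hy
  rw [← mem_powers_iff_mem_zpowers] at hy1
  obtain ⟨j, rfl⟩ := hy1
  rw [Subgroup.mem_bot]
  exact h j hy2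

theorem mc_mul_pred_add (t P : ℕ) (hP : 0 < P) : t * (P - 1) + t = P * t := by
  obtain ⟨P', rfl⟩ := Nat.exists_eq_succ_of_ne_zero hP.ne'
  rw [Nat.succ_sub_one, Nat.succ_mul, mul_comm]

namespace MC

variable {G : Type*} [Group G] {p : ℕ} (D : MC G p)

section fin
variable [Finite G]

/-! ### `|R| |Z(R)|` -/

include D in
theorem card_mul_card_center_le (R : Subgroup G) :
    Nat.card R * Nat.card (Subgroup.center ↥R) ≤ (commutator G).index ^ 2 ∧
      (Nat.card R * Nat.card (Subgroup.center ↥R) = (commutator G).index ^ 2 ↔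
        (¬ IsMulCommutative ↥R ∨ Maximal (fun K : Subgroup G => IsMulCommutative ↥K) R)) := by
  obtain ⟨S⟩ := D.exists_subData R
  rw [S.card_mul_card_center, D.maximal_iff, D.index_commutator, ← pow_mul, S.comm_iff, S.card,
    ← pow_add]
  have := S.hα
  have := S.hβ
  have := D.n_le_m
  have := D.n_le_k
  have hn : D.n = D.m - D.σ := rfl
  constructor
  · apply Nat.pow_le_pow_right D.hp.pos
    omega
  · rw [(Nat.pow_right_injective D.hp.two_le).eq_iff, (Nat.pow_right_injective D.hp.two_le).eq_iff]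
    omega

include D in
theorem exists_card_mul_card_center_eq :
    ∃ R : Subgroup G, Nat.card R * Nat.card (Subgroup.center ↥R) = (commutator G).index ^ 2 := by
  obtain ⟨S⟩ := D.exists_subData (⊤ : Subgroup G)
  refine ⟨⊤, ?_⟩
  have hα : S.α = 0 := by
    have h1 := S.hmin_a 1 (Subgroup.mem_top _)
    have h2 := (Nat.pow_dvd_pow_iff_le_right D.hp.one_lt).mp (by simpa using h1 : p ^ S.α ∣ p ^ 0)
    omega
  have hβ : S.β = 0 := by
    have h1 := S.hmin_b 0 1 (Subgroup.mem_top _)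
    have h2 := (Nat.pow_dvd_pow_iff_le_right D.hp.one_lt).mp (by simpa using h1 : p ^ S.β ∣ p ^ 0)
    omega
  rw [S.card_mul_card_center, D.index_commutator, ← pow_mul, hα, hβ]
  have := D.n_le_m
  have := D.n_le_k
  have hn : D.n = D.m - D.σ := rfl
  congr 1
  omega

/-! ### Duality `|R| |C_G(R)| = |G| |Z(G)|` -/

variable {D}

theorem SubData.mem_centralizer_iff {L : Subgroup G} (S : D.SubData L) (x : G) :
    x ∈ Subgroup.centralizer (L : Set G) ↔
      (D.a ^ (p ^ S.α) * x = x * D.a ^ (p ^ S.α) ∧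
        (D.a ^ S.c * D.b ^ (p ^ S.β)) * x = x * (D.a ^ S.c * D.b ^ (p ^ S.β))) := by
  rw [Subgroup.mem_centralizer_iff]
  constructor
  · intro h
    exact ⟨h _ S.ha, h _ S.hh⟩
  · rintro ⟨h1, h2⟩ g hg
    obtain ⟨u, v, rfl⟩ := S.gen hg
    have c1 : Commute (D.a ^ (p ^ S.α)) x := h1
    have c2 : Commute (D.a ^ S.c * D.b ^ (p ^ S.β)) x := h2
    exact ((c1.pow_left u).mul_left (c2.pow_left v)).eq

/-- the parameters of the centralizer of a subgroup containing the center -/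
theorem SubData.exists_centralizer {R : Subgroup G} (S : D.SubData R)
    (hZ : Subgroup.center G ≤ R) :
    ∃ T : D.SubData (Subgroup.centralizer (R : Set G)), T.α = D.n - S.β ∧ T.β = D.n - S.α := by
  have hnm := D.n_le_m
  have hnk := D.n_le_k
  have hmle := D.m_le
  have hn : D.n = D.m - D.σ := rfl
  have hαn : S.α ≤ D.n := by
    have h1 : D.a ^ (p ^ D.n) ∈ Subgroup.center G := by
      rw [D.center_eq]
      exact ⟨p ^ D.n, 0, by simp, dvd_rfl, dvd_zero _⟩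
    exact (Nat.pow_dvd_pow_iff_le_right D.hp.one_lt).mp (S.hmin_a _ (hZ h1))
  have hbn : D.b ^ (p ^ D.n) ∈ R := by
    apply hZ
    rw [D.center_eq]
    exact ⟨0, p ^ D.n, by simp, dvd_zero _, dvd_rfl⟩
  have hβn : S.β ≤ D.n := by
    have h1 : D.a ^ 0 * D.b ^ (p ^ D.n) ∈ R := by simpa using hbn
    exact (Nat.pow_dvd_pow_iff_le_right D.hp.one_lt).mp (S.hmin_b _ _ h1)
  -- `p ^ α ∣ c * p ^ (n - β)`
  have hc : p ^ S.α ∣ S.c * p ^ (D.n - S.β) := by
    have h1 := R.pow_mem S.hh (p ^ (D.n - S.β))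
    rw [D.pow, ← pow_add, Nat.add_sub_cancel' hβn] at h1
    have h2 : D.a ^ (S.c * geomS D.r (p ^ S.β) (p ^ (D.n - S.β))) ∈ R :=
      (Subgroup.mul_mem_cancel_right _ hbn).mp h1
    have h3 := S.hmin_a _ h2
    obtain ⟨u, hu⟩ : p ^ (D.n - S.β) ∣ geomS D.r (p ^ S.β) (p ^ (D.n - S.β)) :=
      (D.dvd_geomS_iff _ _ _).mpr dvd_rfl
    have hu' : ¬ p ∣ u := by
      intro hd
      have h4 : p ^ (D.n - S.β + 1) ∣ geomS D.r (p ^ S.β) (p ^ (D.n - S.β)) := by
        rw [hu, pow_succ]; exact Nat.mul_dvd_mul_left _ hd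
      rw [D.dvd_geomS_iff] at h4
      exact absurd ((Nat.pow_dvd_pow_iff_le_right D.hp.one_lt).mp h4) (by omega)
    rw [hu, ← mul_assoc] at h3
    exact mc_pow_dvd_of_dvd_mul D.hp hu' h3
  -- the element `a ^ c' b ^ (p ^ (n - α))`
  obtain ⟨x', hx'⟩ : p ^ (D.σ + S.β) ∣ D.r ^ (p ^ S.β) - 1 :=
    (D.dvd_r_pow_sub_iff _ _).mpr dvd_rfl
  have hx'p : ¬ p ∣ x' := by
    intro hd
    have h4 : p ^ (D.σ + (S.β + 1)) ∣ D.r ^ (p ^ S.β) - 1 := by
      rw [hx', ← add_assoc, pow_succ]; exact Nat.mul_dvd_mul_left _ hd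
    rw [D.dvd_r_pow_sub_iff] at h4
    exact absurd ((Nat.pow_dvd_pow_iff_le_right D.hp.one_lt).mp h4) (by omega)
  obtain ⟨w, hw⟩ : p ^ (D.σ + (D.n - S.α)) ∣ D.r ^ (p ^ (D.n - S.α)) - 1 :=
    (D.dvd_r_pow_sub_iff _ _).mpr dvd_rfl
  obtain ⟨z, hz⟩ := hc
  have hY : S.c * (D.r ^ (p ^ (D.n - S.α)) - 1) = p ^ (D.σ + S.β) * (z * w) := by
    rw [hw]
    have e1 : p ^ S.α * (S.c * (p ^ (D.σ + (D.n - S.α)) * w)) =
        p ^ S.α * (p ^ (D.σ + S.β) * (z * w)) := by
      have e2 : p ^ S.α * (S.c * (p ^ (D.σ + (D.n - S.α)) * w)) =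
          (S.c * p ^ (D.n - S.β)) * (p ^ (D.σ + S.β) * w) := by
        have e3 : p ^ S.α * p ^ (D.σ + (D.n - S.α)) = p ^ (D.n - S.β) * p ^ (D.σ + S.β) := by
          rw [← pow_add, ← pow_add]; congr 1; omega
        calc p ^ S.α * (S.c * (p ^ (D.σ + (D.n - S.α)) * w))
            = S.c * w * (p ^ S.α * p ^ (D.σ + (D.n - S.α))) := by ring
          _ = S.c * w * (p ^ (D.n - S.β) * p ^ (D.σ + S.β)) := by rw [e3]
          _ = (S.c * p ^ (D.n - S.β)) * (p ^ (D.σ + S.β) * w) := by ring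
      rw [e2, hz]
      ring
    exact Nat.eq_of_mul_eq_mul_left (pow_pos D.hp.pos _) e1
  have hcop : Nat.Coprime x' (p ^ D.m) :=
    Nat.Coprime.pow_right _ ((Nat.Prime.coprime_iff_not_dvd D.hp).mpr hx'p).symm
  obtain ⟨c', -, hc'⟩ := Nat.exists_mul_mod_eq_of_coprime (z * w) hcop (pow_pos D.hp.pos _).ne'
  have hc'' : c' * (D.r ^ (p ^ S.β) - 1) ≡ S.c * (D.r ^ (p ^ (D.n - S.α)) - 1) [MOD p ^ D.m] := by
    rw [hY, hx']
    have h1 : x' * c' ≡ z * w [MOD p ^ D.m] := hc'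
    have h2 := h1.mul_left (p ^ (D.σ + S.β))
    have e : c' * (p ^ (D.σ + S.β) * x') = p ^ (D.σ + S.β) * (x' * c') := by ring
    rw [e]
    exact h2
  refine ⟨⟨D.n - S.β, D.n - S.α, c', by omega, by omega, ?_, ?_, ?_, ?_⟩, rfl, rfl⟩
  · -- `a ^ (p ^ (n - β))` centralizes `R`
    rw [S.mem_centralizer_iff]
    refine ⟨by rw [← pow_add, ← pow_add, add_comm], ?_⟩
    rw [eq_comm, D.comm_a_iff]
    exact mc_dvd_mul_of (by omega) dvd_rfl ((D.dvd_r_pow_sub_iff S.β (p ^ S.β)).mpr dvd_rfl)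
  · rw [S.mem_centralizer_iff]
    refine ⟨?_, ?_⟩
    · rw [D.comm_a_iff]
      exact mc_dvd_mul_of (by omega) dvd_rfl
        ((D.dvd_r_pow_sub_iff (D.n - S.α) (p ^ (D.n - S.α))).mpr dvd_rfl)
    · rw [D.comm_iff]
      exact hc''
  · intro i hi
    rw [S.mem_centralizer_iff] at hi
    have h1 := hi.2
    rw [eq_comm, D.comm_a_iff] at h1
    by_contra hni
    have h2 : 1 ≤ D.n - S.β := by
      by_contra h0
      have h3 : D.n - S.β = 0 := by omega
      rw [h3, pow_zero] at hni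
      exact hni (one_dvd _)
    have h4 : ¬ p ^ (D.σ + (S.β + 1)) ∣ D.r ^ (p ^ S.β) - 1 := by
      rw [D.dvd_r_pow_sub_iff]
      intro h5
      exact absurd ((Nat.pow_dvd_pow_iff_le_right D.hp.one_lt).mp h5) (by omega)
    exact mc_not_dvd_mul D.hp hni h4 (by omega) h1
  · intro i j hij
    rw [S.mem_centralizer_iff] at hij
    have h1 := hij.1
    rw [D.comm_a_iff] at h1
    by_contra hnj
    have h2 : 1 ≤ D.n - S.α := by
      by_contra h0
      have h3 : D.n - S.α = 0 := by omega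
      rw [h3, pow_zero] at hnj
      exact hnj (one_dvd _)
    have h4 : ¬ p ^ (D.σ + (D.n - S.α)) ∣ D.r ^ j - 1 := by
      rw [D.dvd_r_pow_sub_iff]; exact hnj
    have h5 : ¬ p ^ (S.α + 1) ∣ p ^ S.α := by
      intro h6
      exact absurd ((Nat.pow_dvd_pow_iff_le_right D.hp.one_lt).mp h6) (by omega)
    exact mc_not_dvd_mul D.hp h5 h4 (by omega) h1

variable (D)

include D in
theorem card_mul_card_centralizer (R : Subgroup G) (hZ : Subgroup.center G ≤ R) :
    Nat.card R * Nat.card (Subgroup.centralizer (R : Set G)) =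
      Nat.card G * Nat.card (Subgroup.center G) := by
  obtain ⟨S⟩ := D.exists_subData R
  obtain ⟨T, hTα, hTβ⟩ := S.exists_centralizer hZ
  have hnm := D.n_le_m
  have hnk := D.n_le_k
  have h1 := T.hα
  have h2 := T.hβ
  have h3 := S.hα
  have h4 := S.hβ
  rw [S.card, T.card, D.card_G, D.card_center, hTα, hTβ]
  rw [hTα] at h1
  rw [hTβ] at h2
  have hαn : S.α ≤ D.n := by
    have h5 : D.a ^ (p ^ D.n) ∈ Subgroup.center G := by
      rw [D.center_eq]
      exact ⟨p ^ D.n, 0, by simp, dvd_rfl, dvd_zero _⟩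
    exact (Nat.pow_dvd_pow_iff_le_right D.hp.one_lt).mp (S.hmin_a _ (hZ h5))
  have hβn : S.β ≤ D.n := by
    have h5 : D.a ^ 0 * D.b ^ (p ^ D.n) ∈ R := by
      apply hZ
      rw [D.center_eq]
      exact ⟨0, p ^ D.n, rfl, dvd_zero _, dvd_rfl⟩
    exact (Nat.pow_dvd_pow_iff_le_right D.hp.one_lt).mp (S.hmin_b _ _ h5)
  simp only [← pow_add]
  congr 1
  omega

include D in
theorem card_mul_card_centralizer_le (R : Subgroup G) :
    Nat.card R * Nat.card (Subgroup.centralizer (R : Set G)) ≤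
        Nat.card G * Nat.card (Subgroup.center G) ∧
      (Nat.card R * Nat.card (Subgroup.centralizer (R : Set G)) =
        Nat.card G * Nat.card (Subgroup.center G) ↔ Subgroup.center G ≤ R) := by
  have hcent : Subgroup.centralizer ((R ⊔ Subgroup.center G : Subgroup G) : Set G) =
      Subgroup.centralizer (R : Set G) := by
    apply le_antisymm
    · exact Subgroup.centralizer_le (show (R : Set G) ⊆ (R ⊔ Subgroup.center G : Subgroup G) from
        (le_sup_left : R ≤ R ⊔ Subgroup.center G))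
    · rw [Subgroup.le_centralizer_iff]
      exact sup_le (Subgroup.le_centralizer_iff.mp le_rfl) (Subgroup.center_le_centralizer _)
  have h1 := D.card_mul_card_centralizer (R ⊔ Subgroup.center G) le_sup_right
  rw [hcent] at h1
  have h2 : Nat.card R ≤ Nat.card (R ⊔ Subgroup.center G : Subgroup G) :=
    Subgroup.card_le_of_le le_sup_left
  refine ⟨?_, ?_⟩
  · rw [← h1]
    exact Nat.mul_le_mul_right _ h2
  · constructor
    · intro h
      rw [← h1] at h
      have h3 : Nat.card R = Nat.card (R ⊔ Subgroup.center G : Subgroup G) :=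
        Nat.eq_of_mul_eq_mul_right Nat.card_pos h
      have h4 : R = R ⊔ Subgroup.center G :=
        Subgroup.eq_of_le_of_card_ge le_sup_left h3.ge
      rw [h4]
      exact le_sup_right
    · intro h
      exact D.card_mul_card_centralizer R h

/-! ### Factorization into two cyclic subgroups with trivial intersection -/

include D in
theorem exists_split : ∃ A B : Subgroup G, IsCyclic ↥A ∧ IsCyclic ↥B ∧ A ⊓ B = ⊥ ∧
    Nat.card ↥A * Nat.card ↥B = Nat.card G := by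
  have : Fact p.Prime := ⟨D.hp⟩
  obtain ⟨t, ht, -⟩ := D.exists_t
  have hpm : 0 < p ^ D.m := pow_pos D.hp.pos _
  by_cases h : p ^ D.k ∣ t ∨ p ^ D.m ∣ t
  · -- split case
    obtain ⟨t₁, ht₁⟩ : ∃ t₁, D.b ^ (p ^ D.k) = D.a ^ (p ^ D.k * t₁) := by
      rcases h with h | h
      · obtain ⟨t₁, rfl⟩ := h
        exact ⟨t₁, ht⟩
      · refine ⟨0, ?_⟩
        rw [ht, mul_zero, pow_zero, D.a_pow_eq_one_iff]
        exact h
    obtain ⟨u, hu⟩ : p ^ D.k ∣ geomS D.r 1 (p ^ D.k) := (D.dvd_geomS_iff _ _ _).mpr dvd_rfl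
    have hu' : ¬ p ∣ u := by
      intro hd
      have h4 : p ^ (D.k + 1) ∣ geomS D.r 1 (p ^ D.k) := by
        rw [hu, pow_succ]; exact Nat.mul_dvd_mul_left _ hd
      rw [D.dvd_geomS_iff] at h4
      exact absurd ((Nat.pow_dvd_pow_iff_le_right D.hp.one_lt).mp h4) (by omega)
    have hcop : Nat.Coprime u (p ^ D.m) :=
      Nat.Coprime.pow_right _ ((Nat.Prime.coprime_iff_not_dvd D.hp).mpr hu').symm
    obtain ⟨c, -, hc⟩ := Nat.exists_mul_mod_eq_of_coprime (t₁ * (p ^ D.m - 1)) hcop hpm.ne'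
    have key1 : p ^ D.m ∣ u * c + t₁ := by
      have h1 : u * c ≡ t₁ * (p ^ D.m - 1) [MOD p ^ D.m] := hc
      have h2 : u * c + t₁ ≡ t₁ * (p ^ D.m - 1) + t₁ [MOD p ^ D.m] := h1.add_right t₁
      rw [mc_mul_pred_add t₁ _ hpm] at h2
      exact (Nat.modEq_zero_iff_dvd).mp
        (h2.trans ((Nat.modEq_zero_iff_dvd).mpr (Dvd.intro _ rfl)))
    have hxpow : ∀ j, (D.a ^ c * D.b ^ 1) ^ j = D.a ^ (c * geomS D.r 1 j) * D.b ^ (1 * j) :=
      fun j => D.pow _ _ j
    have hx1 : (D.a ^ c * D.b ^ 1) ^ (p ^ D.k) = 1 := by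
      rw [hxpow, one_mul, ht₁, ← pow_add, hu, D.a_pow_eq_one_iff]
      have e : c * (p ^ D.k * u) + p ^ D.k * t₁ = p ^ D.k * (u * c + t₁) := by ring
      rw [e]
      exact Dvd.dvd.mul_left key1 _
    have hxa : ∀ j, (D.a ^ c * D.b ^ 1) ^ j ∈ Subgroup.zpowers D.a → p ^ D.k ∣ j := by
      intro j hj
      rw [hxpow, one_mul] at hj
      have h1 : D.b ^ j ∈ Subgroup.zpowers D.a :=
        (Subgroup.mul_mem_cancel_left _ (Subgroup.pow_mem _ (Subgroup.mem_zpowers _) _)).mp hj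
      exact (D.hk j).mp h1
    refine ⟨Subgroup.zpowers (D.a ^ c * D.b ^ 1), Subgroup.zpowers D.a, inferInstance,
      inferInstance, ?_, ?_⟩
    · apply zpowers_inf_eq_bot'
      intro j hj
      obtain ⟨q, rfl⟩ := hxa j hj
      rw [pow_mul, hx1, one_pow]
    · have ho : orderOf (D.a ^ c * D.b ^ 1) = p ^ D.k :=
        Nat.dvd_antisymm (orderOf_dvd_of_pow_eq_one hx1)
          (hxa _ (by rw [pow_orderOf_eq_one]; exact Subgroup.one_mem _))
      rw [Nat.card_zpowers, Nat.card_zpowers, ho, D.ha, D.card_G, mul_comm]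
  · -- non-split case
    push Not at h
    obtain ⟨h1, h2⟩ := h
    have ht0 : t ≠ 0 := by rintro rfl; exact h1 (dvd_zero _)
    obtain ⟨τ, hτ⟩ : ∃ τ, τ = padicValNat p t := ⟨_, rfl⟩
    have hτt : p ^ τ ∣ t := by rw [hτ]; exact pow_padicValNat_dvd
    have hτt' : ¬ p ^ (τ + 1) ∣ t := by rw [hτ]; exact pow_succ_padicValNat_not_dvd ht0
    have hτk : τ < D.k := by
      by_contra hc
      exact h1 (dvd_trans (pow_dvd_pow p (not_lt.mp hc)) hτt)
    have hτm : τ < D.m := by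
      by_contra hc
      exact h2 (dvd_trans (pow_dvd_pow p (not_lt.mp hc)) hτt)
    obtain ⟨t', rfl⟩ := hτt
    have ht' : ¬ p ∣ t' := by
      intro hd
      apply hτt'
      rw [pow_succ]
      exact Nat.mul_dvd_mul_left _ hd
    obtain ⟨u, hu⟩ : p ^ τ ∣ geomS D.r (p ^ (D.k - τ)) (p ^ τ) :=
      (D.dvd_geomS_iff _ _ _).mpr dvd_rfl
    have hu' : ¬ p ∣ u := by
      intro hd
      have h4 : p ^ (τ + 1) ∣ geomS D.r (p ^ (D.k - τ)) (p ^ τ) := by
        rw [hu, pow_succ]; exact Nat.mul_dvd_mul_left _ hd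
      rw [D.dvd_geomS_iff] at h4
      exact absurd ((Nat.pow_dvd_pow_iff_le_right D.hp.one_lt).mp h4) (by omega)
    have hcop : Nat.Coprime u (p ^ D.m) :=
      Nat.Coprime.pow_right _ ((Nat.Prime.coprime_iff_not_dvd D.hp).mpr hu').symm
    obtain ⟨i₁, -, hi₁⟩ := Nat.exists_mul_mod_eq_of_coprime (t' * (p ^ D.m - 1)) hcop hpm.ne'
    have key1 : p ^ D.m ∣ u * i₁ + t' := by
      have h3 : u * i₁ ≡ t' * (p ^ D.m - 1) [MOD p ^ D.m] := hi₁
      have h4 : u * i₁ + t' ≡ t' * (p ^ D.m - 1) + t' [MOD p ^ D.m] := h3.add_right t'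
      rw [mc_mul_pred_add t' _ hpm] at h4
      exact (Nat.modEq_zero_iff_dvd).mp
        (h4.trans ((Nat.modEq_zero_iff_dvd).mpr (Dvd.intro _ rfl)))
    have hi₁p : ¬ p ∣ i₁ := by
      intro hd
      have h3 : p ∣ u * i₁ + t' := dvd_trans (dvd_pow_self p (by omega)) key1
      exact ht' ((Nat.dvd_add_right (Dvd.dvd.mul_left hd u)).mp h3)
    have hxpow : ∀ j, (D.a ^ i₁ * D.b ^ (p ^ (D.k - τ))) ^ j =
        D.a ^ (i₁ * geomS D.r (p ^ (D.k - τ)) j) * D.b ^ (p ^ (D.k - τ) * j) :=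
      fun j => D.pow _ _ j
    have hx1 : (D.a ^ i₁ * D.b ^ (p ^ (D.k - τ))) ^ (p ^ τ) = 1 := by
      rw [hxpow, ← pow_add, Nat.sub_add_cancel hτk.le, ht, ← pow_add, hu, D.a_pow_eq_one_iff]
      have e : i₁ * (p ^ τ * u) + p ^ τ * t' = p ^ τ * (u * i₁ + t') := by ring
      rw [e]
      exact Dvd.dvd.mul_left key1 _
    have hxb : ∀ j, (D.a ^ i₁ * D.b ^ (p ^ (D.k - τ))) ^ j ∈ Subgroup.zpowers D.b → p ^ τ ∣ j := by
      intro j hj
      rw [hxpow] at hj
      have h3 : D.a ^ (i₁ * geomS D.r (p ^ (D.k - τ)) j) ∈ Subgroup.zpowers D.b :=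
        (Subgroup.mul_mem_cancel_right _ (Subgroup.pow_mem _ (Subgroup.mem_zpowers _) _)).mp hj
      rw [← mem_powers_iff_mem_zpowers] at h3
      obtain ⟨z, hz⟩ := h3
      have hz' : D.b ^ z = D.a ^ (i₁ * geomS D.r (p ^ (D.k - τ)) j) := hz
      have h4 : D.b ^ z ∈ Subgroup.zpowers D.a := by
        rw [hz']; exact Subgroup.pow_mem _ (Subgroup.mem_zpowers _) _
      rw [D.hk] at h4
      obtain ⟨q, rfl⟩ := h4
      rw [pow_mul, ht, ← pow_mul, D.a_pow_eq_iff] at hz'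
      have h5 : p ^ τ ∣ i₁ * geomS D.r (p ^ (D.k - τ)) j :=
        (Nat.ModEq.dvd_iff (hz'.of_dvd (pow_dvd_pow p hτm.le)) dvd_rfl).mp
          (Dvd.dvd.mul_right (Dvd.intro _ rfl) q)
      have h6 : p ^ τ ∣ geomS D.r (p ^ (D.k - τ)) j :=
        mc_pow_dvd_of_dvd_mul D.hp hi₁p (by rw [mul_comm]; exact h5)
      exact (D.dvd_geomS_iff _ _ _).mp h6
    refine ⟨Subgroup.zpowers (D.a ^ i₁ * D.b ^ (p ^ (D.k - τ))), Subgroup.zpowers D.b,
      inferInstance, inferInstance, ?_, ?_⟩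
    · apply zpowers_inf_eq_bot'
      intro j hj
      obtain ⟨q, rfl⟩ := hxb j hj
      rw [pow_mul, hx1, one_pow]
    · have ho : orderOf (D.a ^ i₁ * D.b ^ (p ^ (D.k - τ))) = p ^ τ :=
        Nat.dvd_antisymm (orderOf_dvd_of_pow_eq_one hx1)
          (hxb _ (by rw [pow_orderOf_eq_one]; exact Subgroup.one_mem _))
      have hm : p ^ D.m = p ^ τ * p ^ (D.m - τ) := by
        rw [← pow_add, Nat.add_sub_cancel' hτm.le]
      have hob : orderOf D.b = p ^ D.k * p ^ (D.m - τ) := by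
        apply Nat.dvd_antisymm
        · apply orderOf_dvd_of_pow_eq_one
          rw [pow_mul, ht, ← pow_mul, D.a_pow_eq_one_iff, hm]
          exact Dvd.intro_left t' (by ring)
        · have h3 : D.b ^ orderOf D.b ∈ Subgroup.zpowers D.a := by
            rw [pow_orderOf_eq_one]; exact Subgroup.one_mem _
          rw [D.hk] at h3
          obtain ⟨q, hq⟩ := h3
          have h4 := pow_orderOf_eq_one D.b
          rw [hq, pow_mul, ht, ← pow_mul, D.a_pow_eq_one_iff, hm, mul_assoc] at h4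
          have h5 : p ^ (D.m - τ) ∣ t' * q :=
            Nat.dvd_of_mul_dvd_mul_left (pow_pos D.hp.pos _) h4
          have h6 : p ^ (D.m - τ) ∣ q :=
            mc_pow_dvd_of_dvd_mul D.hp ht' (by rw [mul_comm]; exact h5)
          rw [hq]
          exact Nat.mul_dvd_mul_left _ h6
      rw [Nat.card_zpowers, Nat.card_zpowers, ho, hob, D.card_G, hm]
      ring

end fin

end MC

end Cfsg.Agent.H15
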