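import Mathlib
import Cfsg.Agent.H15.Metacyclic4
import Cfsg.Agent.H1.Coprime
import Cfsg.Agent.S0638

set_option autoImplicit false

namespace Cfsg.Agent.H15

open Cfsg
open scoped commutatorElement

/-! ### Groups whose commutators are central -/

section class2
variable {S : Type*} [Group S]

theorem c2_mul_left (hc : ∀ x y g : S, g * ⁅x, y⁆ = ⁅x, y⁆ * g) (x y z : S) :
    ⁅x * y, z⁆ = ⁅x, z⁆ * ⁅y, z⁆ := by
  have h1 := hc y z x
  have h2 := hc y z ⁅x, z⁆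
  rw [h2]
  simp only [commutatorElement_def] at h1 ⊢
  calc x * y * z * (x * y)⁻¹ * z⁻¹ = (x * (y * z * y⁻¹ * z⁻¹)) * z * x⁻¹ * z⁻¹ := by group
    _ = (y * z * y⁻¹ * z⁻¹ * x) * z * x⁻¹ * z⁻¹ := by rw [h1]
    _ = (y * z * y⁻¹ * z⁻¹) * (x * z * x⁻¹ * z⁻¹) := by group

theorem c2_mul_right (hc : ∀ x y g : S, g * ⁅x, y⁆ = ⁅x, y⁆ * g) (x y z : S) :
    ⁅x, y * z⁆ = ⁅x, y⁆ * ⁅x, z⁆ := by
  have h1 := hc x z y⁻¹
  simp only [commutatorElement_def] at h1 ⊢
  calc x * (y * z) * x⁻¹ * (y * z)⁻¹ = x * y * x⁻¹ * ((x * z * x⁻¹ * z⁻¹) * y⁻¹) := by group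
    _ = x * y * x⁻¹ * (y⁻¹ * (x * z * x⁻¹ * z⁻¹)) := by rw [h1]
    _ = x * y * x⁻¹ * y⁻¹ * (x * z * x⁻¹ * z⁻¹) := by group

theorem c2_pow_right (hc : ∀ x y g : S, g * ⁅x, y⁆ = ⁅x, y⁆ * g) (x y : S) (k : ℕ) :
    ⁅x, y ^ k⁆ = ⁅x, y⁆ ^ k := by
  induction k with
  | zero => simp
  | succ k ih => rw [pow_succ, c2_mul_right hc, ih, pow_succ]

theorem c2_pow_left (hc : ∀ x y g : S, g * ⁅x, y⁆ = ⁅x, y⁆ * g) (x y : S) (k : ℕ) :
    ⁅x ^ k, y⁆ = ⁅x, y⁆ ^ k := by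
  induction k with
  | zero => simp
  | succ k ih => rw [pow_succ, c2_mul_left hc, ih, pow_succ]

theorem c2_inv_left (hc : ∀ x y g : S, g * ⁅x, y⁆ = ⁅x, y⁆ * g) (x y : S) :
    ⁅x⁻¹, y⁆ = ⁅x, y⁆⁻¹ := by
  have h := c2_mul_left hc x⁻¹ x y
  rw [inv_mul_cancel, commutatorElement_one_left] at h
  exact eq_inv_of_mul_eq_one_left h.symm

theorem c2_inv_right (hc : ∀ x y g : S, g * ⁅x, y⁆ = ⁅x, y⁆ * g) (x y : S) :
    ⁅x, y⁻¹⁆ = ⁅x, y⁆⁻¹ := by
  have h := c2_mul_right hc x y⁻¹ y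
  rw [inv_mul_cancel, commutatorElement_one_right] at h
  exact eq_inv_of_mul_eq_one_left h.symm

/-- the elements whose commutator with `u` lies in `T` -/
def c2perp (hc : ∀ x y g : S, g * ⁅x, y⁆ = ⁅x, y⁆ * g) (T : Subgroup S) (u : S) : Subgroup S where
  carrier := {y | ⁅y, u⁆ ∈ T}
  one_mem' := by
    show ⁅(1 : S), u⁆ ∈ T
    rw [commutatorElement_one_left]; exact T.one_mem
  mul_mem' := by
    intro a b ha hb
    show ⁅a * b, u⁆ ∈ T
    rw [c2_mul_left hc]; exact T.mul_mem ha hb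
  inv_mem' := by
    intro a ha
    show ⁅a⁻¹, u⁆ ∈ T
    rw [c2_inv_left hc]; exact T.inv_mem ha

theorem mem_c2perp (hc : ∀ x y g : S, g * ⁅x, y⁆ = ⁅x, y⁆ * g) (T : Subgroup S) (u y : S) :
    y ∈ c2perp hc T u ↔ ⁅y, u⁆ ∈ T := Iff.rfl

theorem c2_pow_comm (hc : ∀ x y g : S, g * ⁅x, y⁆ = ⁅x, y⁆ * g) (x y : S) (k : ℕ) :
    y ^ k * x = ⁅y, x⁆ ^ k * x * y ^ k := by
  induction k with
  | zero => simp
  | succ k ih =>
    have hcen : ∀ g : S, g * ⁅y, x⁆ ^ k = ⁅y, x⁆ ^ k * g := fun g =>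
      ((show Commute g ⁅y, x⁆ from hc y x g).pow_right k).eq
    have hyx : y * x = ⁅y, x⁆ * x * y := by rw [commutatorElement_def]; group
    calc y ^ (k + 1) * x = y * (y ^ k * x) := by rw [pow_succ', mul_assoc]
      _ = y * (⁅y, x⁆ ^ k * x * y ^ k) := by rw [ih]
      _ = (y * ⁅y, x⁆ ^ k) * x * y ^ k := by simp [mul_assoc]
      _ = ⁅y, x⁆ ^ k * (y * x) * y ^ k := by rw [hcen y]; simp [mul_assoc]
      _ = ⁅y, x⁆ ^ k * (⁅y, x⁆ * x * y) * y ^ k := by rw [hyx]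
      _ = ⁅y, x⁆ ^ (k + 1) * x * y ^ (k + 1) := by rw [pow_succ, pow_succ']; simp [mul_assoc]

theorem c2_mul_pow (hc : ∀ x y g : S, g * ⁅x, y⁆ = ⁅x, y⁆ * g) (x y : S) (N : ℕ) :
    (x * y) ^ N = x ^ N * y ^ N * ⁅y, x⁆ ^ (N.choose 2) := by
  induction N with
  | zero => simp
  | succ N ih =>
    have hch : (N + 1).choose 2 = N + N.choose 2 := by
      rw [Nat.choose_succ_succ, Nat.choose_one_right]
    have hcen : ∀ (k : ℕ) (g : S), g * ⁅y, x⁆ ^ k = ⁅y, x⁆ ^ k * g := fun k g =>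
      ((show Commute g ⁅y, x⁆ from hc y x g).pow_right k).eq
    have h1 := c2_pow_comm hc x y N
    calc (x * y) ^ (N + 1) = (x * y) ^ N * (x * y) := pow_succ _ _
      _ = x ^ N * y ^ N * ⁅y, x⁆ ^ (N.choose 2) * (x * y) := by rw [ih]
      _ = x ^ N * (y ^ N * x) * y * ⁅y, x⁆ ^ (N.choose 2) := by
        rw [mul_assoc (x ^ N * y ^ N), ← hcen]; simp [mul_assoc]
      _ = x ^ N * (⁅y, x⁆ ^ N * x * y ^ N) * y * ⁅y, x⁆ ^ (N.choose 2) := by rw [h1]
      _ = x ^ N * x * y ^ N * y * (⁅y, x⁆ ^ N * ⁅y, x⁆ ^ (N.choose 2)) := by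
        rw [mul_assoc (⁅y, x⁆ ^ N), ← hcen N (x * y ^ N)]; simp [mul_assoc]
        rw [← mul_assoc (⁅y, x⁆ ^ N), ← hcen N y]; simp [mul_assoc]
      _ = x ^ (N + 1) * y ^ (N + 1) * ⁅y, x⁆ ^ ((N + 1).choose 2) := by
        rw [hch, pow_add ⁅y, x⁆ N, pow_succ x, pow_succ y]; simp only [mul_assoc]

end class2

/-! ### Averaging over a group of automorphisms -/

theorem exists_proper_of_fixed {S : Type*} [Group S] [Finite S] (X : Subgroup (MulAut S))
    (N : Subgroup S) (hN : commutator S ≤ N) (k₀ : S) (hk : k₀ ∉ N) (q : ℕ) (hq : k₀ ^ q ∈ N)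
    (hcop : (Nat.card X).Coprime q) (hfix : ∀ φ ∈ X, φ k₀ * k₀⁻¹ ∈ N) :
    ∃ H : Subgroup S, H ≠ ⊤ ∧ ∀ φ ∈ X, ∀ s : S, φ s * s⁻¹ ∈ H := by
  classical
  let _ : Fintype X := Fintype.ofFinite X
  let N' : Subgroup (Abelianization S) := N.map Abelianization.of
  let ρ : S →* (Abelianization S ⧸ N') := (QuotientGroup.mk' N').comp Abelianization.of
  have hρN : ∀ x : S, ρ x = 1 ↔ x ∈ N := by
    intro x
    show QuotientGroup.mk' N' (Abelianization.of x) = 1 ↔ _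
    rw [QuotientGroup.mk'_apply, QuotientGroup.eq_one_iff]
    constructor
    · rintro ⟨n, hn, hnx⟩
      have h1 : n⁻¹ * x ∈ (Abelianization.of : S →* Abelianization S).ker := by
        rw [MonoidHom.mem_ker, map_mul, map_inv, hnx, inv_mul_cancel]
      rw [Abelianization.ker_of] at h1
      have h2 := N.mul_mem hn (hN h1)
      rwa [mul_inv_cancel_left] at h2
    · intro hx
      exact ⟨x, hx, rfl⟩
  let τ : S →* (Abelianization S ⧸ N') := ∏ φ : X, ρ.comp (φ : MulAut S).toMonoidHom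
  have hτ : ∀ s : S, τ s = ∏ φ : X, ρ ((φ : MulAut S) s) := by
    intro s
    show (∏ φ : X, ρ.comp (φ : MulAut S).toMonoidHom) s = _
    rw [MonoidHom.finsetProd_apply]
    rfl
  refine ⟨τ.ker, ?_, ?_⟩
  · intro htop
    have h1 : τ k₀ = 1 := by
      rw [← MonoidHom.mem_ker, htop]; trivial
    rw [hτ] at h1
    have h2 : ∀ φ : X, ρ ((φ : MulAut S) k₀) = ρ k₀ := by
      intro φ
      have h3 := (hρN _).mpr (hfix φ φ.2)
      rw [map_mul, map_inv] at h3
      exact mul_inv_eq_one.mp h3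
    rw [Finset.prod_congr rfl (fun φ _ => h2 φ), Finset.prod_const, Finset.card_univ,
      ← Nat.card_eq_fintype_card] at h1
    have h4 : ρ k₀ ^ q = 1 := by rw [← map_pow]; exact (hρN _).mpr hq
    have h5 : orderOf (ρ k₀) ∣ 1 := by
      rw [← Nat.Coprime.gcd_eq_one hcop]
      exact Nat.dvd_gcd (orderOf_dvd_of_pow_eq_one h1) (orderOf_dvd_of_pow_eq_one h4)
    have h6 : ρ k₀ = 1 := by
      rw [← orderOf_eq_one_iff]; exact Nat.dvd_one.mp h5
    exact hk ((hρN _).mp h6)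
  · intro ψ hψ s
    rw [MonoidHom.mem_ker, map_mul, map_inv, mul_inv_eq_one, hτ, hτ]
    exact Equiv.prod_comp (Equiv.mulRight (⟨ψ, hψ⟩ : X)) (fun φ : X => ρ ((φ : MulAut S) s))

theorem mc_dvd_choose_two {p : ℕ} (hp : p.Prime) (hodd : p ≠ 2) {n s : ℕ} (h : n ≤ s) :
    p ^ n ∣ (p ^ s).choose 2 := by
  have h2 : 2 ∣ p ^ s - 1 := by
    have hoddp : Odd p := hp.odd_of_ne_two hodd
    exact even_iff_two_dvd.mp (Nat.Odd.sub_odd hoddp.pow odd_one)
  rw [Nat.choose_two_right, Nat.mul_div_assoc _ h2]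
  exact Dvd.dvd.mul_right (pow_dvd_pow p h) _

theorem mc_card_lt_of_lt {S : Type*} [Group S] [Finite S] {A B : Subgroup S} (h : A < B) :
    Nat.card A < Nat.card B := by
  by_contra hle
  push Not at hle
  exact h.ne (Subgroup.eq_of_le_of_card_ge h.le hle)

namespace MC

variable {S : Type*} [Group S] {p : ℕ} (D : MC S p)

section fin
variable [Finite S]

theorem commutator_eq_zpowers (hn : 1 ≤ D.n) :
    commutator S = Subgroup.zpowers (D.a ^ (p ^ D.σ)) := by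
  have hσm : D.σ ≤ D.m := by have := hn; unfold n at this; omega
  have h1 : commutator S ≤ Subgroup.zpowers (D.a ^ (p ^ D.σ)) := by
    rw [commutator_def, Subgroup.commutator_le]
    intro x _ g _
    have := D.comm_mem 0 (g := g) (by rw [D.V_zero_zero]; trivial) x
    rwa [add_zero, ← commutatorElement_def] at this
  exact Subgroup.eq_of_le_of_card_ge h1
    (by rw [D.card_zpowers_a_pow _ hσm, D.card_commutator]; exact le_refl _)

/-- A group of automorphisms of order prime to `p` of a non-abelian metacyclic `p`-group, `p`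
odd, moves every element inside a fixed proper subgroup. -/
theorem exists_proper_of_coprime (hn : 1 ≤ D.n) (X : Subgroup (MulAut S))
    (hX : (Nat.card X).Coprime p) :
    ∃ H : Subgroup S, H ≠ ⊤ ∧ ∀ φ ∈ X, ∀ s : S, φ s * s⁻¹ ∈ H := by
  have hσm : D.σ + 1 ≤ D.m := by have := hn; unfold n at this; omega
  obtain ⟨c, hc_def⟩ : ∃ c : S, c = D.a ^ (p ^ D.σ) := ⟨_, rfl⟩
  have hcomm : commutator S = Subgroup.zpowers c := by rw [hc_def]; exact D.commutator_eq_zpowers hn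
  have hcz : ∀ x y : S, ⁅x, y⁆ ∈ Subgroup.zpowers c := by
    intro x y
    rw [← hcomm, commutator_def]
    exact Subgroup.commutator_mem_commutator (Subgroup.mem_top _) (Subgroup.mem_top _)
  -- automorphisms act on `⟨c⟩` by powers
  have hchar : ∀ φ : MulAut S, ∃ f : ℕ, ∀ z ∈ Subgroup.zpowers c, φ z = z ^ f := by
    intro φ
    have h1 : φ c ∈ Subgroup.zpowers c := by
      rw [← hcomm]
      have hch : (commutator S).Characteristic := inferInstance
      have h2 := (Subgroup.characteristic_iff_le_comap.mp hch) φ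
      exact h2 (by rw [hcomm]; exact Subgroup.mem_zpowers c)
    rw [← mem_powers_iff_mem_zpowers] at h1
    obtain ⟨f, hf⟩ := h1
    refine ⟨f, ?_⟩
    intro z hz
    rw [← mem_powers_iff_mem_zpowers] at hz
    obtain ⟨t, rfl⟩ := hz
    rw [map_pow, ← hf, ← pow_mul, ← pow_mul, mul_comm]
  by_cases hcen : c ∈ Subgroup.center S
  swap
  · -- `S` does not centralize its commutator subgroup
    refine ⟨Subgroup.centralizer {c}, ?_, ?_⟩
    · intro htop
      apply hcen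
      rw [Subgroup.mem_center_iff]
      intro g
      have h1 : g ∈ Subgroup.centralizer {c} := by rw [htop]; trivial
      exact (Subgroup.mem_centralizer_iff.mp h1 c rfl).symm
    · intro φ _ s
      have key : ∀ s : S, φ s * c * (φ s)⁻¹ = s * c * s⁻¹ := by
        intro s
        obtain ⟨f, hf⟩ := hchar φ
        obtain ⟨f', hf'⟩ := hchar φ⁻¹
        have hcs : s * c * s⁻¹ ∈ Subgroup.zpowers c := by
          rw [← hcomm]
          exact (inferInstance : (commutator S).Normal).conj_mem c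
            (by rw [hcomm]; exact Subgroup.mem_zpowers c) s
        rw [← mem_powers_iff_mem_zpowers] at hcs
        obtain ⟨e, he'⟩ := hcs
        have he : c ^ e = s * c * s⁻¹ := he'
        have h1 : φ⁻¹ c = c ^ f' := hf' c (Subgroup.mem_zpowers c)
        have h2 : c = (c ^ f') ^ f := by
          rw [← hf _ (Subgroup.pow_mem _ (Subgroup.mem_zpowers c) _), ← h1]
          exact (MulAut.apply_inv_self (M := S) φ c).symm
        have h3 : φ s * c * (φ s)⁻¹ = φ (s * φ⁻¹ c * s⁻¹) := by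
          rw [map_mul, map_mul, map_inv, MulAut.apply_inv_self (M := S)]
        rw [h3, h1, ← conj_pow, ← he,
          hf _ (Subgroup.pow_mem _ (Subgroup.pow_mem _ (Subgroup.mem_zpowers c) _) _)]
        calc ((c ^ e) ^ f') ^ f = ((c ^ f') ^ f) ^ e := by
              rw [← pow_mul, ← pow_mul, ← pow_mul, ← pow_mul]; congr 1; ring
          _ = c ^ e := by rw [← h2]
      have hk := key s⁻¹
      rw [map_inv, inv_inv, inv_inv] at hk
      rw [Subgroup.mem_centralizer_iff]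
      intro h hh
      rw [Set.mem_singleton_iff] at hh
      rw [hh]
      calc c * (φ s * s⁻¹) = φ s * ((φ s)⁻¹ * c * φ s) * s⁻¹ := by group
        _ = φ s * (s⁻¹ * c * s) * s⁻¹ := by rw [hk]
        _ = φ s * s⁻¹ * c := by group
  -- now commutators are central
  have hnσ : D.n ≤ D.σ := by
    rw [D.center_eq] at hcen
    have h1 : D.a ^ (p ^ D.σ) * D.b ^ 0 ∈ D.V D.n D.n := by
      rw [pow_zero, mul_one, ← hc_def]; exact hcen
    have h2 := ((D.mem_V_iff le_rfl D.n_le_k _ _).mp h1).1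
    exact (Nat.pow_dvd_pow_iff_le_right D.hp.one_lt).mp h2
  have hc2 : ∀ x y g : S, g * ⁅x, y⁆ = ⁅x, y⁆ * g := by
    intro x y g
    have h1 : ⁅x, y⁆ ∈ Subgroup.center S := (Subgroup.zpowers_le.mpr hcen) (hcz x y)
    exact Subgroup.mem_center_iff.mp h1 g
  have hcpn : c ^ (p ^ D.n) = 1 := by
    rw [hc_def, ← pow_mul, ← pow_add, D.a_pow_eq_one_iff]
    exact pow_dvd_pow p D.m_le
  have hcpow : ∀ x y : S, ⁅x, y⁆ ^ (p ^ D.n) = 1 := by
    intro x y
    have h1 := hcz x y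
    rw [← mem_powers_iff_mem_zpowers] at h1
    obtain ⟨t, ht⟩ := h1
    rw [← ht, ← pow_mul, mul_comm, pow_mul, hcpn, one_pow]
  have hpowhom : ∀ s : ℕ, D.n ≤ s → ∀ x y : S, (x * y) ^ (p ^ s) = x ^ (p ^ s) * y ^ (p ^ s) := by
    intro s hs x y
    rw [c2_mul_pow hc2]
    obtain ⟨t, ht⟩ := mc_dvd_choose_two D.hp D.hodd hs
    rw [ht, pow_mul, hcpow, one_pow, mul_one]
  have hcV : c ∈ D.V D.n D.n := by rw [← D.center_eq]; exact hcen
  have hc_ne : c ≠ 1 := by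
    rw [hc_def, Ne, D.a_pow_eq_one_iff, Nat.pow_dvd_pow_iff_le_right D.hp.one_lt]
    omega
  have hV_bot : ∃ t, c ∉ D.V t t := by
    refine ⟨D.m + D.k, ?_⟩
    intro h
    rw [← D.closure_pow_eq] at h
    have h1 : {x : S | ∃ y : S, y ^ p ^ (D.m + D.k) = x} = {1} := by
      ext x
      constructor
      · rintro ⟨y, rfl⟩
        rw [Set.mem_singleton_iff, pow_add, ← D.card_G]
        exact pow_card_eq_one'
      · intro hx
        rw [Set.mem_singleton_iff] at hx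
        exact ⟨1, by rw [hx, one_pow]⟩
    rw [h1, Subgroup.closure_singleton_one, Subgroup.mem_bot] at h
    exact hc_ne h
  classical
  obtain ⟨t₀, ht₀, hmin⟩ : ∃ t₀, c ∉ D.V t₀ t₀ ∧ ∀ t, c ∉ D.V t t → t₀ ≤ t :=
    ⟨Nat.find hV_bot, Nat.find_spec hV_bot, fun t ht => Nat.find_min' hV_bot ht⟩
  have ht₀n : D.n < t₀ := by
    by_contra hle
    push Not at hle
    exact ht₀ (D.V_anti hle hle hcV)
  obtain ⟨s, hs⟩ : ∃ s, t₀ = s + 1 := ⟨t₀ - 1, by omega⟩
  have hsn : D.n ≤ s := by omega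
  have hcs : c ∈ D.V s s := by
    by_contra h
    have := hmin s h
    omega
  have hcs1 : c ∉ D.V (s + 1) (s + 1) := hs ▸ ht₀
  let π : S →* S := MonoidHom.mk' (fun x => x ^ (p ^ s)) (hpowhom s hsn)
  have hπ : ∀ x, π x = x ^ (p ^ s) := fun x => rfl
  obtain ⟨y₀, hy₀⟩ : ∃ y₀ : S, y₀ ^ (p ^ s) = c := by
    rw [← D.closure_pow_eq] at hcs
    have h1 : {x : S | ∃ y : S, y ^ p ^ s = x} = (π.range : Set S) := by
      ext x
      rfl
    rw [h1, Subgroup.closure_eq] at hcs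
    obtain ⟨y, hy⟩ := hcs
    exact ⟨y, hy⟩
  let K : Subgroup S := (D.V (s + 1) (s + 1)).comap π
  have hVK : D.V 1 1 ≤ K := by
    rw [← D.closure_pow_eq 1, Subgroup.closure_le]
    rintro _ ⟨y, rfl⟩
    show π (y ^ p ^ 1) ∈ D.V (s + 1) (s + 1)
    rw [hπ, ← pow_mul, ← pow_add, Nat.add_comm 1 s, ← D.closure_pow_eq (s + 1)]
    exact Subgroup.subset_closure ⟨y, rfl⟩
  have hy₀K : y₀ ∉ K := by
    intro h
    have h1 : π y₀ ∈ D.V (s + 1) (s + 1) := h
    rw [hπ, hy₀] at h1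
    exact hcs1 h1
  have hVinv : ∀ (φ : MulAut S) (j : ℕ) (x : S), x ∈ D.V j j → φ x ∈ D.V j j := by
    intro φ j x hx
    rw [← D.closure_pow_eq j] at hx ⊢
    have h1 : Subgroup.closure {x : S | ∃ y : S, y ^ p ^ j = x} ≤
        (Subgroup.closure {x : S | ∃ y : S, y ^ p ^ j = x}).comap φ.toMonoidHom := by
      rw [Subgroup.closure_le]
      rintro _ ⟨y, rfl⟩
      show φ.toMonoidHom (y ^ p ^ j) ∈ Subgroup.closure {x : S | ∃ y : S, y ^ p ^ j = x}
      rw [MulEquiv.coe_toMonoidHom, map_pow]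
      exact Subgroup.subset_closure ⟨φ y, rfl⟩
    exact h1 hx
  have hKinv : ∀ (φ : MulAut S) (x : S), x ∈ K → φ x ∈ K := by
    intro φ x hx
    show π (φ x) ∈ D.V (s + 1) (s + 1)
    rw [hπ, ← map_pow]
    exact hVinv φ (s + 1) _ hx
  have hcp : c ^ p = D.a ^ (p ^ (D.σ + 1)) := by rw [hc_def, ← pow_mul, ← pow_succ]
  let Cp : Subgroup S := Subgroup.zpowers (c ^ p)
  have hF1 : ∀ g ∈ D.V 1 1, ∀ x : S, ⁅x, g⁆ ∈ Cp := by
    intro g hg x
    have h1 := D.comm_mem 1 hg x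
    rw [← commutatorElement_def] at h1
    show ⁅x, g⁆ ∈ Subgroup.zpowers (c ^ p)
    rwa [hcp]
  have hF2 : ∀ h : S, (∀ y : S, ⁅y, h⁆ ∈ Cp) → h ∈ D.V 1 1 := by
    intro h hh
    rw [← D.index_centralizer_le_iff 1 hn h]
    have h1 := index_centralizer_le h Cp (fun x => by rw [← commutatorElement_def]; exact hh x)
    have h2 : Nat.card Cp = p ^ (D.n - 1) := by
      show Nat.card (Subgroup.zpowers (c ^ p)) = _
      rw [hcp, D.card_zpowers_a_pow _ hσm]
      rfl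
    rw [h2] at h1
    exact h1
  have hCpinv : ∀ (ψ : MulAut S) (w : S), w ∈ Cp → ψ w ∈ Cp := by
    intro ψ w hw
    obtain ⟨f', hf'⟩ := hchar ψ
    have h1 : Cp ≤ Cp.comap ψ.toMonoidHom := by
      show Subgroup.zpowers (c ^ p) ≤ _
      rw [Subgroup.zpowers_le]
      show ψ (c ^ p) ∈ Cp
      rw [hf' _ (Subgroup.pow_mem _ (Subgroup.mem_zpowers c) _)]
      exact Subgroup.pow_mem _ (Subgroup.mem_zpowers _) _
    exact h1 hw
  have hCpφ : ∀ (φ : MulAut S) (z : S), φ z ∈ Cp → z ∈ Cp := by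
    intro φ z hz
    have h1 := hCpinv φ⁻¹ _ hz
    rwa [MulAut.inv_apply_self (M := S)] at h1
  have hz : ∀ (φ : MulAut S) (u : S), (∀ k ∈ K, ⁅φ u, k⁆ ∈ Cp) → ⁅φ u * u⁻¹, y₀⁆ ∈ Cp := by
    intro φ u hu
    obtain ⟨f, hf⟩ := hchar φ
    obtain ⟨k, hkK, e1⟩ : ∃ k ∈ K, φ y₀ = k * y₀ ^ f := by
      refine ⟨φ y₀ * (y₀ ^ f)⁻¹, ?_, by group⟩
      show π (φ y₀ * (y₀ ^ f)⁻¹) ∈ D.V (s + 1) (s + 1)
      have h1 : π (φ y₀ * (y₀ ^ f)⁻¹) = 1 := by
        rw [map_mul, map_inv, hπ, hπ, ← map_pow φ y₀, hy₀, ← pow_mul, mul_comm, pow_mul, hy₀,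
          hf c (Subgroup.mem_zpowers c), mul_inv_cancel]
      rw [h1]
      exact Subgroup.one_mem _
    apply hCpφ φ
    have e2 : φ ⁅u, y₀⁆ = ⁅φ u, k⁆ * ⁅φ u, y₀⁆ ^ f := by
      rw [map_commutatorElement, e1, c2_mul_right hc2, c2_pow_right hc2]
    have e3 : φ ⁅φ u, y₀⁆ = ⁅φ u, y₀⁆ ^ f := hf _ (hcz _ _)
    rw [c2_mul_left hc2, c2_inv_left hc2, map_mul, map_inv, e3, e2, mul_inv_rev,
      mul_inv_cancel_left]
    exact Cp.inv_mem (hu _ hkK)
  have hchain : ∀ K₁ K₂ : Subgroup S, D.V 1 1 < K₁ → K₁ < K₂ → K₂ = ⊤ := by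
    intro K₁ K₂ h1 h2
    obtain ⟨e₁, he₁⟩ := D.card_eq_pow K₁
    obtain ⟨e₂, he₂⟩ := D.card_eq_pow K₂
    have hc0 := D.card_V hn (le_trans hn D.n_le_k)
    have l1 := mc_card_lt_of_lt h1
    have l2 := mc_card_lt_of_lt h2
    rw [hc0, he₁, ← pow_add] at l1
    rw [he₁, he₂] at l2
    have l1' := (Nat.pow_lt_pow_iff_right D.hp.one_lt).mp l1
    have l2' := (Nat.pow_lt_pow_iff_right D.hp.one_lt).mp l2
    have l3 : Nat.card K₂ ≤ Nat.card S := Subgroup.card_le_card_group K₂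
    rw [he₂, D.card_G, ← pow_add] at l3
    have l3' := (Nat.pow_le_pow_iff_right D.hp.one_lt).mp l3
    apply Subgroup.eq_top_of_card_eq
    rw [he₂, D.card_G, ← pow_add]
    congr 1
    have := D.n_le_m
    have := D.n_le_k
    omega
  have hKtop : K ≠ ⊤ := by
    intro h
    apply hy₀K
    rw [h]; trivial
  have hiso : ∀ k ∈ K, ∀ k' ∈ K, ⁅k, k'⁆ ∈ Cp := by
    intro k hk k' hk'
    by_cases hk'V : k' ∈ D.V 1 1
    · exact hF1 k' hk'V k
    · have h1 : D.V 1 1 < K ⊓ c2perp hc2 Cp k' := by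
        rw [SetLike.lt_iff_le_and_exists]
        refine ⟨le_inf hVK ?_, k', ⟨hk', ?_⟩, hk'V⟩
        · intro g hg
          show ⁅g, k'⁆ ∈ Cp
          rw [← commutatorElement_inv]
          exact Cp.inv_mem (hF1 g hg k')
        · show ⁅k', k'⁆ ∈ Cp
          rw [commutatorElement_self]
          exact Cp.one_mem
      have h2 : K ⊓ c2perp hc2 Cp k' = K := by
        rcases lt_or_eq_of_le (inf_le_left : K ⊓ c2perp hc2 Cp k' ≤ K) with h | h
        · exact absurd (hchain _ _ h1 h) hKtop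
        · exact h
      have h3 : k ∈ K ⊓ c2perp hc2 Cp k' := by rw [h2]; exact hk
      exact h3.2
  by_cases hKV : K ≤ D.V 1 1
  · refine ⟨c2perp hc2 Cp y₀, ?_, ?_⟩
    · intro htop
      apply hy₀K
      apply hVK
      apply hF2
      intro y
      have h1 : y ∈ c2perp hc2 Cp y₀ := by rw [htop]; trivial
      exact h1
    · intro φ _ s'
      show ⁅φ s' * s'⁻¹, y₀⁆ ∈ Cp
      exact hz φ s' (fun k hk => hF1 k (hKV hk) (φ s'))
  · obtain ⟨k₀, hk₀K, hk₀V⟩ := SetLike.not_le_iff_exists.mp hKV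
    have hVK' : D.V 1 1 < K := by
      rw [SetLike.lt_iff_le_and_exists]
      exact ⟨hVK, k₀, hk₀K, hk₀V⟩
    have htop : K ⊔ Subgroup.zpowers y₀ = ⊤ := by
      apply hchain _ _ hVK'
      rw [SetLike.lt_iff_le_and_exists]
      exact ⟨le_sup_left, y₀, Subgroup.mem_sup_right (Subgroup.mem_zpowers y₀), hy₀K⟩
    have hcV1 : commutator S ≤ D.V 1 1 := by
      rw [hcomm, Subgroup.zpowers_le, hc_def]
      exact ⟨p ^ D.σ, 0, by rw [pow_zero, mul_one], pow_dvd_pow p D.hσ1,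
        dvd_zero _⟩
    apply exists_proper_of_fixed X (D.V 1 1) hcV1 k₀ hk₀V p ?_ hX ?_
    · rw [← D.closure_pow_eq 1]
      exact Subgroup.subset_closure ⟨k₀, by rw [pow_one]⟩
    · intro φ _
      apply hF2
      intro y
      have h1 : K ⊔ Subgroup.zpowers y₀ ≤ c2perp hc2 Cp (φ k₀ * k₀⁻¹) := by
        apply sup_le
        · intro k hk
          show ⁅k, φ k₀ * k₀⁻¹⁆ ∈ Cp
          rw [c2_mul_right hc2, c2_inv_right hc2]
          exact Cp.mul_mem (hiso k hk _ (hKinv φ k₀ hk₀K)) (Cp.inv_mem (hiso k hk k₀ hk₀K))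
        · rw [Subgroup.zpowers_le]
          show ⁅y₀, φ k₀ * k₀⁻¹⁆ ∈ Cp
          rw [← commutatorElement_inv]
          exact Cp.inv_mem (hz φ k₀ (fun k hk => hiso _ (hKinv φ k₀ hk₀K) k hk))
      have h2 : y ∈ c2perp hc2 Cp (φ k₀ * k₀⁻¹) := h1 (by rw [htop]; trivial)
      exact h2

end fin

end MC

/-! ### Internal coprime action on a metacyclic `p`-group -/

theorem mc_metacyclic_of_injective {H H' : Type*} [Group H] [Group H'] (f : H →* H')
    (hf : Function.Injective f) (h : IsMetacyclic H') : IsMetacyclic H := by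
  obtain ⟨N, hN, hc, hq⟩ := h
  have hN' : (N.comap f).Normal := hN.comap f
  refine ⟨N.comap f, hN', ?_, ?_⟩
  · refine isCyclic_of_injective (f.subgroupComap N) ?_
    intro a b hab
    apply Subtype.ext
    apply hf
    exact congrArg Subtype.val hab
  · refine isCyclic_of_injective (QuotientGroup.map (N.comap f) N f le_rfl) ?_
    rw [injective_iff_map_eq_one]
    intro y hy
    obtain ⟨y, rfl⟩ := QuotientGroup.mk_surjective y
    rw [QuotientGroup.map_mk, QuotientGroup.eq_one_iff] at hy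
    rw [QuotientGroup.eq_one_iff]
    exact hy

section internal
variable {G : Type*} [Group G]

/-- the automorphisms of `S` induced by conjugation with elements of `A` -/
def autImage (S A : Subgroup G) : Subgroup (MulAut S) :=
  (A.subgroupOf (Subgroup.normalizer (S : Set G))).map S.normalizerMonoidHom

theorem card_autImage_dvd [Finite G] (S A : Subgroup G)
    (hA : A ≤ Subgroup.normalizer (S : Set G)) : Nat.card (autImage S A) ∣ Nat.card A := by
  have h1 := Subgroup.card_map_dvd (A.subgroupOf (Subgroup.normalizer (S : Set G)))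
    S.normalizerMonoidHom
  rw [Nat.card_congr (Subgroup.subgroupOfEquivOfLe hA).toEquiv] at h1
  exact h1

theorem commutator_le_map_of_autImage (S A : Subgroup G)
    (hA : A ≤ Subgroup.normalizer (S : Set G)) (H : Subgroup S)
    (hH : ∀ φ ∈ autImage S A, ∀ s : S, φ s * s⁻¹ ∈ H) : ⁅S, A⁆ ≤ H.map S.subtype := by
  rw [Subgroup.commutator_le]
  intro s hs a ha
  have h1 := hH (S.normalizerMonoidHom ⟨a, hA ha⟩)
    (Subgroup.mem_map_of_mem _ (show (⟨a, hA ha⟩ : Subgroup.normalizer (S : Set G)) ∈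
      A.subgroupOf (Subgroup.normalizer (S : Set G)) from ha)) ⟨s, hs⟩
  refine ⟨_, H.inv_mem h1, ?_⟩
  show (a * s * a⁻¹ * s⁻¹)⁻¹ = ⁅s, a⁆
  rw [commutatorElement_def]
  group

theorem commutator_ne_of_proper (S A : Subgroup G)
    (hA : A ≤ Subgroup.normalizer (S : Set G)) (H : Subgroup S) (hH1 : H ≠ ⊤)
    (hH : ∀ φ ∈ autImage S A, ∀ s : S, φ s * s⁻¹ ∈ H) : ⁅S, A⁆ ≠ S := by
  intro h
  have h1 := commutator_le_map_of_autImage S A hA H hH
  rw [h] at h1
  apply hH1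
  rw [eq_top_iff]
  intro x _
  obtain ⟨y, hy, hyx⟩ := h1 x.2
  have h2 : y = x := Subtype.ext hyx
  rwa [h2] at hy

/-- If `A` acts coprimely on the metacyclic `p`-group `S`, `p` odd, with `[S, A] = S`, then `S`
is abelian. -/
theorem comm_of_commutator_eq [Finite G] {p : ℕ} [Fact p.Prime] (hp : p ≠ 2) (S A : Subgroup G)
    (hS : IsPGroup p S) (hSm : IsMetacyclic S) (hA : A ≤ Subgroup.normalizer (S : Set G))
    (hcop : (Nat.card A).Coprime p) (hSA : ⁅S, A⁆ = S) : ∀ x y : S, x * y = y * x := by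
  by_contra hna
  obtain ⟨D⟩ := MC.exists_of_metacyclic hp hS hSm
  have hn : 1 ≤ D.n := by
    by_contra h
    exact hna (D.comm_all_iff.mpr (by omega))
  obtain ⟨H, hH1, hH⟩ := D.exists_proper_of_coprime hn (autImage S A)
    (Nat.Coprime.coprime_dvd_left (card_autImage_dvd S A hA) hcop)
  exact commutator_ne_of_proper S A hA H hH1 hH hSA

theorem inf_centralizer_eq_bot_of_commutator_eq [Finite G] (S A : Subgroup G)
    (hA : A ≤ Subgroup.normalizer (S : Set G)) (hcop : (Nat.card A).Coprime (Nat.card S))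
    (hab : ∀ x y : S, x * y = y * x) (hSA : ⁅S, A⁆ = S) :
    S ⊓ Subgroup.centralizer (A : Set G) = ⊥ := by
  rw [eq_bot_iff]
  rintro g ⟨hgS, hgC⟩
  rw [Subgroup.mem_bot]
  by_contra hg1
  have hcomm : commutator S ≤ ⊥ := by
    rw [commutator_def, Subgroup.commutator_le]
    intro x _ y _
    rw [Subgroup.mem_bot, commutatorElement_eq_one_iff_commute]
    exact hab x y
  obtain ⟨H, hH1, hH⟩ := exists_proper_of_fixed (autImage S A) ⊥ hcomm ⟨g, hgS⟩
    (by rw [Subgroup.mem_bot]; intro h; exact hg1 (congrArg Subtype.val h))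
    (Nat.card S) (by rw [pow_card_eq_one']; exact Subgroup.one_mem _)
    (Nat.Coprime.coprime_dvd_left (card_autImage_dvd S A hA) hcop)
    (by
      rintro φ ⟨a, ha, rfl⟩
      rw [Subgroup.mem_bot, mul_inv_eq_one]
      apply Subtype.ext
      show (a : G) * g * (a : G)⁻¹ = g
      have h1 := Subgroup.mem_centralizer_iff.mp hgC a ha
      rw [h1, mul_inv_cancel_right])
  exact commutator_ne_of_proper S A hA H hH1 hH hSA

theorem ncard_pow_eq_one_of_not_cyclic [Finite G] {p : ℕ} [Fact p.Prime] (hp : p ≠ 2)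
    (T : Subgroup G) (hT : IsPGroup p T) (hTm : IsMetacyclic T) (hnc : ¬ IsCyclic T) :
    {x : G | x ∈ T ∧ x ^ p = 1}.ncard = p ^ 2 := by
  obtain ⟨hel, hcard⟩ := Cfsg.Agent.S0638.result hp hT hTm hnc
  have h1 : {x : G | x ∈ T ∧ x ^ p = 1} =
      Subtype.val '' ((Cfsg.omegaOne p (⊤ : Subgroup T) : Subgroup T) : Set T) := by
    ext x
    constructor
    · rintro ⟨hxT, hxp⟩
      exact ⟨⟨x, hxT⟩, Subgroup.subset_closure ⟨Subgroup.mem_top _, Subtype.ext hxp⟩, rfl⟩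
    · rintro ⟨y, hy, rfl⟩
      exact ⟨y.2, by have h2 := hel.2 y hy; exact congrArg Subtype.val h2⟩
  rw [h1, Set.ncard_image_of_injective _ Subtype.val_injective, ← hcard]
  exact (Nat.card_coe_set_eq _).symm

/-- A subgroup of a metacyclic `p`-group, `p` odd, meeting a nontrivial subgroup trivially is
cyclic. -/
theorem isCyclic_of_inf_eq_bot [Finite G] {p : ℕ} [Fact p.Prime] (hp : p ≠ 2)
    (R T T' : Subgroup G) (hR : IsPGroup p R) (hRm : IsMetacyclic R) (hT : T ≤ R) (hT' : T' ≤ R)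
    (hinf : T ⊓ T' = ⊥) (hne : T' ≠ ⊥) : IsCyclic T := by
  by_contra hnc
  have hRnc : ¬ IsCyclic R := fun h => hnc (by have := h; exact Subgroup.isCyclic_of_le hT)
  have hTp : IsPGroup p T := hR.to_le hT
  have hTm : IsMetacyclic T := mc_metacyclic_of_injective (Subgroup.inclusion hT)
    (Subgroup.inclusion_injective hT) hRm
  have h1 := ncard_pow_eq_one_of_not_cyclic hp T hTp hTm hnc
  have h2 := ncard_pow_eq_one_of_not_cyclic hp R hR hRm hRnc
  have hsub : {x : G | x ∈ T ∧ x ^ p = 1} ⊆ {x : G | x ∈ R ∧ x ^ p = 1} :=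
    fun x hx => ⟨hT hx.1, hx.2⟩
  have heq := Set.eq_of_subset_of_ncard_le hsub (by rw [h1, h2]) (Set.toFinite _)
  have hT'p : IsPGroup p T' := hR.to_le hT'
  obtain ⟨x, hxT', hx1, hxp⟩ : ∃ x ∈ T', x ≠ 1 ∧ x ^ p = 1 := by
    obtain ⟨e, he⟩ := IsPGroup.exists_card_eq hT'p
    have he0 : e ≠ 0 := by
      rintro rfl
      rw [pow_zero] at he
      exact hne (Subgroup.eq_bot_of_card_eq T' he)
    obtain ⟨x, hx⟩ := exists_prime_orderOf_dvd_card' (G := T') p
      (by rw [he]; exact dvd_pow_self p he0)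
    refine ⟨x.1, x.2, ?_, ?_⟩
    · intro h
      have h3 : x = 1 := Subtype.ext h
      rw [h3, orderOf_one] at hx
      exact (Fact.out : p.Prime).one_lt.ne hx
    · have h3 := pow_orderOf_eq_one x
      rw [hx] at h3
      exact congrArg Subtype.val h3
  have h3 : x ∈ {x : G | x ∈ T ∧ x ^ p = 1} := by rw [heq]; exact ⟨hT' hxT', hxp⟩
  have hx : x ∈ T ⊓ T' := ⟨h3.1, hxT'⟩
  rw [hinf, Subgroup.mem_bot] at hx
  exact hx1 hx

theorem commutator_le_of_comm_centralizer [Finite G] (R A : Subgroup G)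
    (hA : A ≤ Subgroup.normalizer (R : Set G)) (hcop : (Nat.card A).Coprime (Nat.card R))
    (hsolv : Group.IsSolvable A ∨ Group.IsSolvable R)
    (hC : ∀ x ∈ R ⊓ Subgroup.centralizer (A : Set G), ∀ y ∈ R ⊓ Subgroup.centralizer (A : Set G),
      x * y = y * x) : ⁅R, R⁆ ≤ ⁅R, A⁆ := by
  rw [Subgroup.commutator_le]
  intro x hx y hy
  obtain ⟨c₁, hc₁, s₁, hs₁, rfl⟩ :=
    Cfsg.Agent.H1.exists_centralizer_mul_commutator A R hA hcop hsolv x hx
  obtain ⟨c₂, hc₂, s₂, hs₂, rfl⟩ :=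
    Cfsg.Agent.H1.exists_centralizer_mul_commutator A R hA hcop hsolv y hy
  have hN : ∀ r ∈ R, ∀ s ∈ ⁅R, A⁆, r * s * r⁻¹ ∈ ⁅R, A⁆ := fun r hr s hs =>
    (Subgroup.mem_normalizer_iff.mp (Subgroup.normalizer_commutator_ge_left R A hr) s).mp hs
  have h12 := hC c₁ hc₁ c₂ hc₂
  have e : ⁅c₁ * s₁, c₂ * s₂⁆ = (c₁ * s₁ * c₁⁻¹) * ((c₁ * c₂) * (s₂ * s₁⁻¹) * (c₁ * c₂)⁻¹) *
      (c₂ * s₂⁻¹ * c₂⁻¹) := by
    have h3 : c₁ * c₂ * c₁⁻¹ = c₂ := by rw [h12, mul_inv_cancel_right]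
    rw [commutatorElement_def]
    calc c₁ * s₁ * (c₂ * s₂) * (c₁ * s₁)⁻¹ * (c₂ * s₂)⁻¹
        = (c₁ * s₁ * c₁⁻¹) * ((c₁ * c₂) * (s₂ * s₁⁻¹) * (c₁ * c₂)⁻¹) *
          ((c₁ * c₂ * c₁⁻¹) * s₂⁻¹ * c₂⁻¹) := by group
      _ = _ := by rw [h3]
  rw [e]
  exact Subgroup.mul_mem _ (Subgroup.mul_mem _ (hN c₁ hc₁.1 s₁ hs₁)
    (hN _ (R.mul_mem hc₁.1 hc₂.1) _ (Subgroup.mul_mem _ hs₂ (Subgroup.inv_mem _ hs₁))))
    (hN c₂ hc₂.1 _ (Subgroup.inv_mem _ hs₂))

end internal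

end Cfsg.Agent.H15
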