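import Mathlib
import Cfsg.Agent.H3.Meta2
import Cfsg.Agent.H15.Metacyclic5

set_option autoImplicit false

namespace Cfsg.Agent.H15

open scoped commutatorElement

universe u

/-! ### Power of a product when the commutator is central -/

theorem bk_pow_comm {S : Type*} [Group S] (x y : S) (hc : ∀ g : S, g * ⁅y, x⁆ = ⁅y, x⁆ * g)
    (k : ℕ) : y ^ k * x = ⁅y, x⁆ ^ k * x * y ^ k := by
  induction k with
  | zero => simp
  | succ k ih =>
    have hcen : ∀ g : S, g * ⁅y, x⁆ ^ k = ⁅y, x⁆ ^ k * g := fun g =>
      ((show Commute g ⁅y, x⁆ from hc g).pow_right k).eq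
    have hyx : y * x = ⁅y, x⁆ * x * y := by rw [commutatorElement_def]; group
    calc y ^ (k + 1) * x = y * (y ^ k * x) := by rw [pow_succ', mul_assoc]
      _ = y * (⁅y, x⁆ ^ k * x * y ^ k) := by rw [ih]
      _ = (y * ⁅y, x⁆ ^ k) * x * y ^ k := by simp [mul_assoc]
      _ = ⁅y, x⁆ ^ k * (y * x) * y ^ k := by rw [hcen y]; simp [mul_assoc]
      _ = ⁅y, x⁆ ^ k * (⁅y, x⁆ * x * y) * y ^ k := by rw [hyx]
      _ = ⁅y, x⁆ ^ (k + 1) * x * y ^ (k + 1) := by rw [pow_succ, pow_succ']; simp [mul_assoc]

theorem bk_mul_pow {S : Type*} [Group S] (x y : S) (hc : ∀ g : S, g * ⁅y, x⁆ = ⁅y, x⁆ * g)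
    (N : ℕ) : (x * y) ^ N = x ^ N * y ^ N * ⁅y, x⁆ ^ (N.choose 2) := by
  induction N with
  | zero => simp
  | succ N ih =>
    have hch : (N + 1).choose 2 = N + N.choose 2 := by
      rw [Nat.choose_succ_succ, Nat.choose_one_right]
    have hcen : ∀ (k : ℕ) (g : S), g * ⁅y, x⁆ ^ k = ⁅y, x⁆ ^ k * g := fun k g =>
      ((show Commute g ⁅y, x⁆ from hc g).pow_right k).eq
    have h1 := bk_pow_comm x y hc N
    calc (x * y) ^ (N + 1) = (x * y) ^ N * (x * y) := pow_succ _ _
      _ = x ^ N * y ^ N * ⁅y, x⁆ ^ (N.choose 2) * (x * y) := by rw [ih]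
      _ = x ^ N * (y ^ N * x) * y * ⁅y, x⁆ ^ (N.choose 2) := by
        rw [mul_assoc (x ^ N * y ^ N), ← hcen]; simp [mul_assoc]
      _ = x ^ N * (⁅y, x⁆ ^ N * x * y ^ N) * y * ⁅y, x⁆ ^ (N.choose 2) := by rw [h1]
      _ = x ^ N * x * y ^ N * y * (⁅y, x⁆ ^ N * ⁅y, x⁆ ^ (N.choose 2)) := by
        rw [mul_assoc (⁅y, x⁆ ^ N), ← hcen N (x * y ^ N)]; simp [mul_assoc]
        rw [← mul_assoc (⁅y, x⁆ ^ N), ← hcen N y]; simp [mul_assoc]
      _ = x ^ (N + 1) * y ^ (N + 1) * ⁅y, x⁆ ^ ((N + 1).choose 2) := by
        rw [hch, pow_add ⁅y, x⁆ N, pow_succ x, pow_succ y]; simp only [mul_assoc]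

/-! ### `p`-central groups: the `p`-power map is injective modulo `Ω₁` -/

theorem pc_pow_inj {p : ℕ} [Fact p.Prime] (hp : p ≠ 2) :
    ∀ (n : ℕ) (X : Type u) [Group X] [Finite X], Nat.card X = n → IsPGroup p X →
      (∀ u : X, u ^ p = 1 → u ∈ Subgroup.center X) →
      ∀ x y : X, x ^ p = y ^ p → (x * y⁻¹) ^ p = 1 := by
  have hpp : p.Prime := Fact.out
  have hd2 : p ∣ p.choose 2 := hpp.dvd_choose_self (by norm_num) (by
    have := hpp.two_le
    omega)
  intro n
  induction n using Nat.strong_induction_on with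
  | _ n ih =>
    intro X _ _ hn hX hcen x y hxy
    have key : (x * y⁻¹ * x⁻¹ * y) ^ p = 1 := by
      by_cases htop : Subgroup.zpowers x = ⊤
      · have hy : y ∈ Subgroup.zpowers x := by rw [htop]; trivial
        obtain ⟨k, rfl⟩ := Subgroup.mem_zpowers_iff.mp hy
        have h1 : x * (x ^ k)⁻¹ * x⁻¹ * x ^ k = 1 := by group
        rw [h1, one_pow]
      · obtain ⟨M, hM, hxM⟩ :=
          (eq_top_or_exists_le_coatom (Subgroup.zpowers x)).resolve_left htop
        have hMn : M.Normal := Cfsg.Agent.H3.coatom_normal hX hM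
        have hx : x ∈ M := hxM (Subgroup.mem_zpowers x)
        have hx' : y⁻¹ * x * y ∈ M := by
          have := hMn.conj_mem x hx y⁻¹
          rwa [inv_inv] at this
        have hlt : Nat.card M < n := by
          rw [← hn]
          exact lt_of_le_of_ne (Subgroup.card_le_card_group M)
            (fun h => hM.1 (Subgroup.eq_top_of_card_eq M h))
        have hpow : (y⁻¹ * x * y) ^ p = x ^ p := by
          have h0 : y⁻¹ * x * y = y⁻¹ * x * y⁻¹⁻¹ := by rw [inv_inv]
          rw [h0, conj_pow, hxy, inv_inv]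
          group
        have h := ih _ hlt M rfl (hX.to_subgroup M) (fun u hu => by
          have h1 : (u : X) ^ p = 1 := by
            have := congrArg Subtype.val hu
            simpa using this
          have h2 := hcen _ h1
          rw [Subgroup.mem_center_iff] at h2 ⊢
          intro g
          exact Subtype.ext (h2 g)) ⟨x, hx⟩ ⟨y⁻¹ * x * y, hx'⟩ (Subtype.ext hpow.symm)
        have h2 := congrArg Subtype.val h
        have h3 : x * y⁻¹ * x⁻¹ * y = x * (y⁻¹ * x * y)⁻¹ := by group
        rw [h3]
        simpa using h2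
    have hc : x * y⁻¹ * x⁻¹ * y ∈ Subgroup.center X := hcen _ key
    have hcomm : ⁅y⁻¹, x⁆ = (x * y⁻¹ * x⁻¹ * y)⁻¹ := by
      rw [commutatorElement_def]; group
    have hc' : ∀ g : X, g * ⁅y⁻¹, x⁆ = ⁅y⁻¹, x⁆ * g := by
      intro g
      rw [hcomm]
      exact (Subgroup.mem_center_iff.mp ((Subgroup.center X).inv_mem hc) g)
    have h4 := bk_mul_pow x y⁻¹ hc' p
    rw [h4, hcomm, inv_pow, hxy]
    obtain ⟨t, ht⟩ := hd2
    rw [ht, pow_mul, inv_pow, key]
    simp

/-! ### Two-generated groups with a nice commutator -/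

theorem bk_two_gen_comm {X : Type*} [Group X] [Finite X] (x y : X)
    (hgen : Subgroup.zpowers y ⊔ Subgroup.zpowers x = ⊤)
    (h1 : Commute x ⁅x, y⁆) (h2 : y * ⁅x, y⁆ * y⁻¹ ∈ Subgroup.zpowers ⁅x, y⁆) :
    commutator X ≤ Subgroup.zpowers ⁅x, y⁆ := by
  obtain ⟨d, hd⟩ : ∃ d : X, d = ⁅x, y⁆ := ⟨_, rfl⟩
  rw [← hd] at h1 h2 ⊢
  let S : Subgroup X :=
    { carrier := {g | ∀ n ∈ Subgroup.zpowers d, g * n * g⁻¹ ∈ Subgroup.zpowers d}
      mul_mem' := by
        intro a b ha hb n hn
        have := ha _ (hb n hn)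
        have e : a * b * n * (a * b)⁻¹ = a * (b * n * b⁻¹) * a⁻¹ := by group
        rw [e]; exact this
      one_mem' := by intro n hn; simpa using hn
      inv_mem' := by
        intro a ha
        have hpow : ∀ k : ℕ, ∀ n ∈ Subgroup.zpowers d,
            a ^ k * n * (a ^ k)⁻¹ ∈ Subgroup.zpowers d := by
          intro k
          induction k with
          | zero => intro n hn; simpa using hn
          | succ k ih =>
            intro n hn
            have := ha _ (ih n hn)
            have e : a ^ (k + 1) * n * (a ^ (k + 1))⁻¹ = a * (a ^ k * n * (a ^ k)⁻¹) * a⁻¹ := by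
              rw [pow_succ']; group
            rw [e]; exact this
        have hinv : a⁻¹ = a ^ (orderOf a - 1) := by
          have h0 : 0 < orderOf a := orderOf_pos a
          apply inv_eq_of_mul_eq_one_right
          rw [← pow_succ', Nat.sub_add_cancel h0, pow_orderOf_eq_one]
        intro n hn
        rw [hinv]
        exact hpow _ n hn }
  have hxS : x ∈ S := by
    intro n hn
    obtain ⟨k, rfl⟩ := Subgroup.mem_zpowers_iff.mp hn
    have : x * d ^ k * x⁻¹ = d ^ k := by
      have := (h1.zpow_right k).eq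
      rw [this]; group
    rw [this]; exact hn
  have hyS : y ∈ S := by
    intro n hn
    obtain ⟨k, rfl⟩ := Subgroup.mem_zpowers_iff.mp hn
    rw [← conj_zpow]
    exact Subgroup.zpow_mem _ h2 k
  have hStop : S = ⊤ := by
    rw [eq_top_iff, ← hgen]
    exact sup_le (Subgroup.zpowers_le.mpr hyS) (Subgroup.zpowers_le.mpr hxS)
  have hN : (Subgroup.zpowers d).Normal := ⟨fun n hn g => by
    have hg : g ∈ S := by rw [hStop]; trivial
    exact hg n hn⟩
  have hxy : ((x : X) : X ⧸ Subgroup.zpowers d) * (y : X) = (y : X) * (x : X) := by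
    have hmem : (⁅x, y⁆ : X) ∈ Subgroup.zpowers d := by rw [← hd]; exact Subgroup.mem_zpowers d
    have h3 := (QuotientGroup.eq_one_iff _).mpr hmem
    rw [commutatorElement_def] at h3
    simp only [QuotientGroup.mk_mul, QuotientGroup.mk_inv] at h3
    have h4 := mul_inv_eq_one.mp h3
    rw [mul_inv_eq_iff_eq_mul] at h4
    exact h4
  have hcx : ∀ g : X, ((g : X) : X ⧸ Subgroup.zpowers d) * (x : X) = (x : X) * (g : X) := by
    intro g
    have htop : (Subgroup.centralizer ({((x : X) : X ⧸ Subgroup.zpowers d)} : Set _)).comap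
        (QuotientGroup.mk' (Subgroup.zpowers d)) = ⊤ := by
      rw [eq_top_iff, ← hgen]
      refine sup_le (Subgroup.zpowers_le.mpr ?_) (Subgroup.zpowers_le.mpr ?_)
      · rw [Subgroup.mem_comap, Subgroup.mem_centralizer_iff]
        intro h hh
        rw [Set.mem_singleton_iff] at hh
        rw [hh]; exact hxy
      · rw [Subgroup.mem_comap, Subgroup.mem_centralizer_iff]
        intro h hh
        rw [Set.mem_singleton_iff] at hh
        rw [hh]; rfl
    have hg : g ∈ (Subgroup.centralizer ({((x : X) : X ⧸ Subgroup.zpowers d)} : Set _)).comap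
        (QuotientGroup.mk' (Subgroup.zpowers d)) := by rw [htop]; trivial
    rw [Subgroup.mem_comap, Subgroup.mem_centralizer_iff] at hg
    exact (hg _ rfl).symm
  have hcy : ∀ g : X, ((g : X) : X ⧸ Subgroup.zpowers d) * (y : X) = (y : X) * (g : X) := by
    intro g
    have htop : (Subgroup.centralizer ({((y : X) : X ⧸ Subgroup.zpowers d)} : Set _)).comap
        (QuotientGroup.mk' (Subgroup.zpowers d)) = ⊤ := by
      rw [eq_top_iff, ← hgen]
      refine sup_le (Subgroup.zpowers_le.mpr ?_) (Subgroup.zpowers_le.mpr ?_)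
      · rw [Subgroup.mem_comap, Subgroup.mem_centralizer_iff]
        intro h hh
        rw [Set.mem_singleton_iff] at hh
        rw [hh]; rfl
      · rw [Subgroup.mem_comap, Subgroup.mem_centralizer_iff]
        intro h hh
        rw [Set.mem_singleton_iff] at hh
        rw [hh]; exact hxy.symm
    have hg : g ∈ (Subgroup.centralizer ({((y : X) : X ⧸ Subgroup.zpowers d)} : Set _)).comap
        (QuotientGroup.mk' (Subgroup.zpowers d)) := by rw [htop]; trivial
    rw [Subgroup.mem_comap, Subgroup.mem_centralizer_iff] at hg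
    exact (hg _ rfl).symm
  have hcen : ∀ h : X, ((h : X) : X ⧸ Subgroup.zpowers d) ∈
      Subgroup.center (X ⧸ Subgroup.zpowers d) := by
    intro h
    have htop : (Subgroup.center (X ⧸ Subgroup.zpowers d)).comap
        (QuotientGroup.mk' (Subgroup.zpowers d)) = ⊤ := by
      rw [eq_top_iff, ← hgen]
      refine sup_le (Subgroup.zpowers_le.mpr ?_) (Subgroup.zpowers_le.mpr ?_)
      · rw [Subgroup.mem_comap, Subgroup.mem_center_iff]
        intro q
        obtain ⟨g, rfl⟩ := QuotientGroup.mk_surjective q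
        exact hcy g
      · rw [Subgroup.mem_comap, Subgroup.mem_center_iff]
        intro q
        obtain ⟨g, rfl⟩ := QuotientGroup.mk_surjective q
        exact hcx g
    have hh : h ∈ (Subgroup.center (X ⧸ Subgroup.zpowers d)).comap
        (QuotientGroup.mk' (Subgroup.zpowers d)) := by rw [htop]; trivial
    exact hh
  rw [commutator_def, Subgroup.commutator_le]
  intro g _ h _
  apply (QuotientGroup.eq_one_iff _).mp
  rw [commutatorElement_def]
  simp only [QuotientGroup.mk_mul, QuotientGroup.mk_inv]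
  have h5 := Subgroup.mem_center_iff.mp (hcen h) (g : X ⧸ Subgroup.zpowers d)
  rw [h5]
  group

/-! ### `℧₁` of index at most `p²` implies metacyclic (`p` odd) -/

/-- the subgroup generated by the `p`-th powers -/
def bkAg (p : ℕ) (X : Type*) [Group X] : Subgroup X :=
  Subgroup.closure (Set.range fun x : X => x ^ p)

theorem bkAg_le_frattini {X : Type*} [Group X] [Finite X] {p : ℕ} [Fact p.Prime]
    (hX : IsPGroup p X) : bkAg p X ≤ frattini X := by
  unfold bkAg
  rw [Subgroup.closure_le]
  rintro _ ⟨x, rfl⟩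
  exact Cfsg.Agent.H3.pow_mem_frattini hX x

theorem bkAg_quotient_index {X : Type*} [Group X] [Finite X] (p : ℕ) (N : Subgroup X)
    [N.Normal] : (bkAg p (X ⧸ N)).index ≤ (bkAg p X).index := by
  have h1 : (bkAg p X).map (QuotientGroup.mk' N) ≤ bkAg p (X ⧸ N) := by
    unfold bkAg
    rw [MonoidHom.map_closure, Subgroup.closure_le]
    rintro _ ⟨_, ⟨x, rfl⟩, rfl⟩
    apply Subgroup.subset_closure
    exact ⟨(x : X ⧸ N), by simp⟩
  have h2 := Subgroup.index_dvd_of_le h1
  have h3 := Subgroup.index_map_dvd (bkAg p X) (QuotientGroup.mk'_surjective N)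
  exact Nat.le_of_dvd (Nat.pos_of_ne_zero (Subgroup.index_ne_zero_of_finite)) (h2.trans h3)

theorem bk_frattini_quot {X : Type*} [Group X] [Finite X] {p : ℕ} [Fact p.Prime]
    (hX : IsPGroup p X) (hK : (bkAg p X).index ≤ p ^ 2) :
    Nat.card (X ⧸ frattini X) ≤ p ^ 2 := by
  have h1 := Subgroup.index_dvd_of_le (bkAg_le_frattini hX)
  have h2 := Nat.le_of_dvd (Nat.pos_of_ne_zero (Subgroup.index_ne_zero_of_finite)) h1
  rw [← Subgroup.index_eq_card]
  exact h2.trans hK

theorem k_exists_gen {p : ℕ} [Fact p.Prime] (hp2 : p ≠ 2) :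
    ∀ (n : ℕ) (X : Type u) [Group X] [Finite X], Nat.card X = n → IsPGroup p X →
      (bkAg p X).index ≤ p ^ 2 → ¬ IsCyclic X →
      ∃ x : X, x ∉ frattini X ∧ commutator X ≤ Subgroup.zpowers x := by
  have hpp : p.Prime := Fact.out
  intro n
  induction n using Nat.strong_induction_on with
  | _ n ih =>
    intro X _ _ hn hX hK hnc
    by_cases hD1 : commutator X = ⊥
    · obtain ⟨a, ha⟩ : ∃ a : X, a ∉ frattini X := by
        by_contra hcon
        push Not at hcon
        have hΦtop : frattini X = ⊤ := eq_top_iff.mpr (fun x _ => hcon x)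
        have h5 : (⊥ : Subgroup X) ⊔ frattini X = ⊤ := by rw [hΦtop, bot_sup_eq]
        have h6 := frattini_nongenerating h5
        apply hnc
        refine ⟨⟨1, fun x => ?_⟩⟩
        have hx : x ∈ (⊥ : Subgroup X) := by rw [h6]; exact Subgroup.mem_top x
        rw [Subgroup.mem_bot] at hx
        exact ⟨0, by simp [hx]⟩
      exact ⟨a, ha, by rw [hD1]; exact bot_le⟩
    · -- a central element of order `p` in the commutator subgroup
      obtain ⟨c, hcD, hcc, hc1⟩ := Cfsg.Agent.H3.normal_inf_center_ne_bot hX (commutator X) hD1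
      obtain ⟨e, he⟩ := (IsPGroup.iff_orderOf (p := p)).1 hX c
      have he1 : 1 ≤ e := by
        by_contra h
        have h0 : e = 0 := by omega
        rw [h0, pow_zero] at he
        exact hc1 (orderOf_eq_one_iff.mp he)
      have hc0c : c ^ p ^ (e - 1) ∈ Subgroup.center X := Subgroup.pow_mem _ hcc _
      have hc0p : (c ^ p ^ (e - 1)) ^ p = 1 := by
        rw [← pow_mul, ← pow_succ, (show e - 1 + 1 = e by omega), ← he]
        exact pow_orderOf_eq_one c
      have hc01 : c ^ p ^ (e - 1) ≠ 1 := by
        intro h0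
        have h1 := orderOf_dvd_of_pow_eq_one h0
        rw [he] at h1
        have h2 := Nat.le_of_dvd (pow_pos hpp.pos _) h1
        have h3 := (Nat.pow_le_pow_iff_right hpp.one_lt).mp h2
        omega
      have hc0D : c ^ p ^ (e - 1) ∈ commutator X := (commutator X).pow_mem hcD _
      generalize hc0def : c ^ p ^ (e - 1) = c0 at hc0c hc0p hc01 hc0D
      have hT0c : Subgroup.zpowers c0 ≤ Subgroup.center X := Subgroup.zpowers_le.mpr hc0c
      have hT0n : (Subgroup.zpowers c0).Normal := by
        constructor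
        intro x hx g
        have : g * x * g⁻¹ = x := by
          rw [Subgroup.mem_center_iff.mp (hT0c hx) g, mul_inv_cancel_right]
        rw [this]; exact hx
      have hT0card : Nat.card (Subgroup.zpowers c0) = p := by
        rw [Nat.card_zpowers, orderOf_eq_prime hc0p hc01]
      have hT0exp : ∀ t ∈ Subgroup.zpowers c0, t ^ p = 1 := by
        intro t ht
        obtain ⟨k, rfl⟩ := Subgroup.mem_zpowers_iff.mp ht
        rw [← zpow_natCast, ← zpow_mul, mul_comm, zpow_mul, zpow_natCast, hc0p, one_zpow]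
      have hRbar : IsPGroup p (X ⧸ Subgroup.zpowers c0) := hX.to_quotient _
      have hKbar : (bkAg p (X ⧸ Subgroup.zpowers c0)).index ≤ p ^ 2 :=
        (bkAg_quotient_index p (Subgroup.zpowers c0)).trans hK
      have hcardbar : Nat.card (X ⧸ Subgroup.zpowers c0) < n := by
        have h1 := Subgroup.card_eq_card_quotient_mul_card_subgroup (Subgroup.zpowers c0)
        rw [hn, hT0card] at h1
        have h0 : 0 < Nat.card (X ⧸ Subgroup.zpowers c0) := Nat.card_pos
        have := hpp.one_lt
        nlinarith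
      have hncbar : ¬ IsCyclic (X ⧸ Subgroup.zpowers c0) := by
        intro hcyc
        have hcommR : ∀ a b : X, a * b = b * a := fun a b =>
          ((QuotientGroup.mk' (Subgroup.zpowers c0)).isMulCommutative_of_isCyclic_of_ker_le_center
            (by rw [QuotientGroup.ker_mk']; exact hT0c)).is_comm.comm a b
        apply hD1
        rw [eq_bot_iff, commutator_def, Subgroup.commutator_le]
        intro a _ b _
        rw [Subgroup.mem_bot, commutatorElement_def, hcommR a b, mul_inv_cancel_right,
          mul_inv_cancel]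
      obtain ⟨xb, hxbΦ, hxbD⟩ := ih _ hcardbar (X ⧸ Subgroup.zpowers c0) rfl hRbar hKbar hncbar
      obtain ⟨x, rfl⟩ := QuotientGroup.mk_surjective xb
      have hxΦ : x ∉ frattini X := fun h => hxbΦ
        (frattini_le_comap_frattini_of_surjective (φ := QuotientGroup.mk' (Subgroup.zpowers c0))
          (QuotientGroup.mk'_surjective _) h)
      have hdec : ∀ c ∈ commutator X, ∃ j : ℤ, ∃ t ∈ Subgroup.zpowers c0, c = x ^ j * t := by
        intro c hc
        apply Cfsg.Agent.H3.mem_comap_zpowers (Subgroup.zpowers c0) x c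
        rw [Subgroup.mem_comap]
        apply hxbD
        rw [commutator_def] at hc ⊢
        have := Subgroup.mem_map_of_mem (QuotientGroup.mk' (Subgroup.zpowers c0)) hc
        rw [Subgroup.map_commutator,
          Subgroup.map_top_of_surjective _ (QuotientGroup.mk'_surjective _)] at this
        exact this
      by_cases hc0x : c0 ∈ Subgroup.zpowers x
      · refine ⟨x, hxΦ, ?_⟩
        intro c hc
        obtain ⟨j, t, ht, rfl⟩ := hdec c hc
        exact Subgroup.mul_mem _ (Subgroup.zpow_mem_zpowers x j)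
          ((Subgroup.zpowers_le.mpr hc0x) ht)
      · -- a second generator
        have h4 := bk_frattini_quot hX hK
        obtain ⟨y, hy⟩ : ∃ b : X, b ∉ Subgroup.zpowers x ⊔ frattini X := by
          by_contra hb
          push Not at hb
          have : Subgroup.zpowers x ⊔ frattini X = ⊤ := eq_top_iff.mpr (fun y _ => hb y)
          have h6 := frattini_nongenerating this
          exact hnc ⟨⟨x, fun y => by
            have hy : y ∈ Subgroup.zpowers x := by rw [h6]; exact Subgroup.mem_top y
            exact Subgroup.mem_zpowers_iff.mp hy⟩⟩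
        have hgen : Subgroup.zpowers y ⊔ Subgroup.zpowers x = ⊤ := by
          apply frattini_nongenerating
          apply Subgroup.eq_top_of_le_card
          have hlt1 : frattini X < Subgroup.zpowers x ⊔ frattini X := by
            refine lt_of_le_of_ne le_sup_right (fun h => hxΦ ?_)
            rw [h]
            exact Subgroup.mem_sup_left (Subgroup.mem_zpowers x)
          have hlt2 : Subgroup.zpowers x ⊔ frattini X <
              (Subgroup.zpowers y ⊔ Subgroup.zpowers x) ⊔ frattini X := by
            refine lt_of_le_of_ne (sup_le_sup_right le_sup_right _) (fun h => hy ?_)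
            rw [h]
            exact Subgroup.mem_sup_left (Subgroup.mem_sup_left (Subgroup.mem_zpowers y))
          have c1 := Cfsg.Agent.H3.card_mul_le_of_lt hX hlt1
          have c2 := Cfsg.Agent.H3.card_mul_le_of_lt hX hlt2
          have c3 := Subgroup.card_eq_card_quotient_mul_card_subgroup (frattini X)
          calc Nat.card X = Nat.card (X ⧸ frattini X) * Nat.card (frattini X) := c3
            _ ≤ p ^ 2 * Nat.card (frattini X) := Nat.mul_le_mul_right _ h4
            _ = p * (p * Nat.card (frattini X)) := by ring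
            _ ≤ p * Nat.card (Subgroup.zpowers x ⊔ frattini X : Subgroup X) :=
              Nat.mul_le_mul_left _ c1
            _ ≤ _ := c2
        -- the commutator `d = [x, y]`
        have hdD : ⁅x, y⁆ ∈ commutator X := by
          rw [commutator_def]
          exact Subgroup.commutator_mem_commutator (Subgroup.mem_top x) (Subgroup.mem_top y)
        obtain ⟨j, t₀, ht₀, hdj⟩ := hdec _ hdD
        have ht₀c : ∀ g : X, g * t₀ = t₀ * g := fun g => Subgroup.mem_center_iff.mp (hT0c ht₀) g
        have hxd : Commute x ⁅x, y⁆ := by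
          rw [hdj]
          exact ((Commute.refl x).zpow_right j).mul_right (ht₀c x)
        have hyx : y * x * y⁻¹ = ⁅x, y⁆⁻¹ * x := by rw [commutatorElement_def]; group
        have hyd : y * ⁅x, y⁆ * y⁻¹ = ⁅x, y⁆ ^ (1 - j) := by
          have e0 : t₀ * y⁻¹ = y⁻¹ * t₀ := (ht₀c y⁻¹).symm
          have e1 : y * ⁅x, y⁆ * y⁻¹ = (y * x * y⁻¹) ^ j * t₀ := by
            rw [conj_zpow]
            conv_lhs => rw [hdj]
            simp only [mul_assoc]
            rw [e0]
          rw [e1, hyx, (hxd.symm.inv_left).mul_zpow, zpow_sub, zpow_one, inv_zpow, mul_assoc,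
            ← hdj]
          exact ((Commute.refl ⁅x, y⁆).zpow_left j).inv_left.eq
        have hcomm1 : commutator X ≤ Subgroup.zpowers ⁅x, y⁆ :=
          bk_two_gen_comm x y hgen hxd (by rw [hyd]; exact Subgroup.zpow_mem_zpowers _ _)
        -- `d` has order `p`
        have hc0d : c0 ∈ Subgroup.zpowers ⁅x, y⁆ := hcomm1 hc0D
        have hdp : ⁅x, y⁆ ^ p = x ^ (j * p) := by
          conv_lhs => rw [hdj]
          have hcm : Commute (x ^ j) t₀ := ht₀c (x ^ j)
          rw [hcm.mul_pow, hT0exp t₀ ht₀, mul_one, zpow_mul, zpow_natCast]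
        obtain ⟨k, hk⟩ := (IsPGroup.iff_orderOf (p := p)).1 hX ⁅x, y⁆
        have hk1 : 1 ≤ k := by
          by_contra h
          have h0 : k = 0 := by omega
          rw [h0, pow_zero] at hk
          have hd1 := orderOf_eq_one_iff.mp hk
          rw [hd1, Subgroup.zpowers_one_eq_bot, Subgroup.mem_bot] at hc0d
          exact hc01 hc0d
        have hc0k := Cfsg.Agent.H3.mem_zpowers_pow_of_pow_eq_one hpp hk1 hk hc0d hc0p
        have hk' : k = 1 := by
          by_contra hne
          have hk2 : 2 ≤ k := by omega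
          apply hc0x
          have e2 : ⁅x, y⁆ ^ p ^ (k - 1) = (⁅x, y⁆ ^ p) ^ p ^ (k - 2) := by
            rw [← pow_mul, ← pow_succ']; congr 2; omega
          rw [e2, hdp] at hc0k
          exact (Subgroup.zpowers_le.mpr
            (Subgroup.pow_mem _ (Subgroup.zpow_mem_zpowers x (j * p)) _)) hc0k
        have hcomm' : commutator X ≤ Subgroup.zpowers c0 := by
          have heq : Subgroup.zpowers c0 = Subgroup.zpowers ⁅x, y⁆ :=
            Subgroup.eq_of_le_of_card_ge (Subgroup.zpowers_le.mpr hc0d) (by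
              rw [hT0card, Nat.card_zpowers, hk, hk', pow_one])
          rw [heq]; exact hcomm1
        -- the `p`-power map is a homomorphism
        have hcc : ∀ a b g : X, g * ⁅a, b⁆ = ⁅a, b⁆ * g := by
          intro a b g
          have h1 : ⁅a, b⁆ ∈ commutator X := by
            rw [commutator_def]
            exact Subgroup.commutator_mem_commutator (Subgroup.mem_top a) (Subgroup.mem_top b)
          exact Subgroup.mem_center_iff.mp (hT0c (hcomm' h1)) g
        have hd2 : p ∣ p.choose 2 := hpp.dvd_choose_self (by norm_num) (by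
          have := hpp.two_le
          omega)
        let φ : X →* X :=
          { toFun := fun g => g ^ p
            map_one' := one_pow p
            map_mul' := by
              intro a b
              show (a * b) ^ p = a ^ p * b ^ p
              rw [c2_mul_pow hcc a b p]
              have h1 : ⁅b, a⁆ ∈ commutator X := by
                rw [commutator_def]
                exact Subgroup.commutator_mem_commutator (Subgroup.mem_top b) (Subgroup.mem_top a)
              obtain ⟨t, ht⟩ := hd2
              rw [ht, pow_mul, hT0exp _ (hcomm' h1), one_pow, mul_one] }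
        have hO : Nat.card (Cfsg.omegaOne p (⊤ : Subgroup X)) ≤ p ^ 2 := by
          have h1 : Cfsg.omegaOne p (⊤ : Subgroup X) ≤ φ.ker := by
            unfold Cfsg.omegaOne
            rw [Subgroup.closure_le]
            rintro g ⟨-, hg⟩
            exact (MonoidHom.mem_ker).mpr hg
          have h2 : bkAg p X = φ.range := by
            apply le_antisymm
            · unfold bkAg
              rw [Subgroup.closure_le]
              rintro _ ⟨g, rfl⟩
              exact ⟨g, rfl⟩
            · rintro _ ⟨g, rfl⟩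
              exact Subgroup.subset_closure ⟨g, rfl⟩
          have h3 := Subgroup.card_mul_index φ.ker
          rw [Subgroup.index_ker] at h3
          have h5 := Subgroup.card_mul_index φ.range
          have h6 : Nat.card φ.ker = φ.range.index := by
            have hpos : 0 < Nat.card φ.range := Nat.card_pos
            have : Nat.card φ.range * Nat.card φ.ker = Nat.card φ.range * φ.range.index := by
              rw [h5, mul_comm, h3]
            exact Nat.eq_of_mul_eq_mul_left hpos this
          calc Nat.card (Cfsg.omegaOne p (⊤ : Subgroup X)) ≤ Nat.card φ.ker :=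
                Subgroup.card_le_of_le h1
            _ = φ.range.index := h6
            _ = (bkAg p X).index := by rw [h2]
            _ ≤ p ^ 2 := hK
        obtain ⟨y', hy'Φ, hy'⟩ := Cfsg.Agent.H3.exists_gen_of_commutator_prime p hp2 X hX hnc hO
          c0 hc01 hc0p hc0c hcomm'
        exact ⟨y', hy'Φ, hcomm'.trans (Subgroup.zpowers_le.mpr hy')⟩

/-- For odd `p`, a `p`-group whose `p`-th powers generate a subgroup of index at most `p²`
is metacyclic. -/
theorem k_metacyclic {p : ℕ} [Fact p.Prime] (hp2 : p ≠ 2) (X : Type u) [Group X] [Finite X]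
    (hX : IsPGroup p X) (hK : (bkAg p X).index ≤ p ^ 2) : Cfsg.IsMetacyclic X := by
  have hpp : p.Prime := Fact.out
  by_cases hcyc : IsCyclic X
  · refine ⟨⊤, inferInstance, ?_, ?_⟩
    · obtain ⟨g, hg⟩ := hcyc.exists_generator
      exact ⟨⟨⟨g, Subgroup.mem_top g⟩, fun x => by
        obtain ⟨k, hk⟩ := Subgroup.mem_zpowers_iff.mp (hg x.1)
        exact ⟨k, Subtype.ext (by simpa using hk)⟩⟩⟩
    · haveI : Subsingleton (X ⧸ (⊤ : Subgroup X)) := QuotientGroup.subsingleton_quotient_top
      exact isCyclic_of_subsingleton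
  · obtain ⟨x, hxΦ, hxD⟩ := k_exists_gen hp2 _ X rfl hX hK hcyc
    have hNn : (Subgroup.zpowers x).Normal := by
      constructor
      intro n hn g
      have h1 : g * n * g⁻¹ * n⁻¹ ∈ Subgroup.zpowers x := hxD (by
        have := Subgroup.commutator_mem_commutator (Subgroup.mem_top g) (Subgroup.mem_top n)
        rw [commutator_def]
        rwa [commutatorElement_def] at this)
      have : g * n * g⁻¹ = (g * n * g⁻¹ * n⁻¹) * n := by group
      rw [this]
      exact Subgroup.mul_mem _ h1 hn
    have hNc : IsCyclic (Subgroup.zpowers x) :=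
      ⟨⟨⟨x, Subgroup.mem_zpowers x⟩, fun y => by
        obtain ⟨k, hk⟩ := Subgroup.mem_zpowers_iff.mp y.2
        exact ⟨k, Subtype.ext (by simpa using hk)⟩⟩⟩
    refine ⟨Subgroup.zpowers x, hNn, hNc, ?_⟩
    have h4 := bk_frattini_quot hX hK
    by_cases hb : ∃ b : X, b ∉ Subgroup.zpowers x ⊔ frattini X
    swap
    · push Not at hb
      have : Subgroup.zpowers x ⊔ frattini X = ⊤ := eq_top_iff.mpr (fun y _ => hb y)
      have h6 := frattini_nongenerating this
      exact absurd ⟨⟨x, fun y => by
        have hy : y ∈ Subgroup.zpowers x := by rw [h6]; exact Subgroup.mem_top y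
        exact Subgroup.mem_zpowers_iff.mp hy⟩⟩ hcyc
    obtain ⟨b, hb⟩ := hb
    have hgen : Subgroup.zpowers b ⊔ Subgroup.zpowers x = ⊤ := by
      apply frattini_nongenerating
      apply Subgroup.eq_top_of_le_card
      have hlt1 : frattini X < Subgroup.zpowers x ⊔ frattini X := by
        refine lt_of_le_of_ne le_sup_right (fun h => hxΦ ?_)
        rw [h]
        exact Subgroup.mem_sup_left (Subgroup.mem_zpowers x)
      have hlt2 : Subgroup.zpowers x ⊔ frattini X <
          (Subgroup.zpowers b ⊔ Subgroup.zpowers x) ⊔ frattini X := by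
        refine lt_of_le_of_ne (sup_le_sup_right le_sup_right _) (fun h => hb ?_)
        rw [h]
        exact Subgroup.mem_sup_left (Subgroup.mem_sup_left (Subgroup.mem_zpowers b))
      have c1 := Cfsg.Agent.H3.card_mul_le_of_lt hX hlt1
      have c2 := Cfsg.Agent.H3.card_mul_le_of_lt hX hlt2
      have c3 := Subgroup.card_eq_card_quotient_mul_card_subgroup (frattini X)
      calc Nat.card X = Nat.card (X ⧸ frattini X) * Nat.card (frattini X) := c3
        _ ≤ p ^ 2 * Nat.card (frattini X) := Nat.mul_le_mul_right _ h4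
        _ = p * (p * Nat.card (frattini X)) := by ring
        _ ≤ p * Nat.card (Subgroup.zpowers x ⊔ frattini X : Subgroup X) :=
          Nat.mul_le_mul_left _ c1
        _ ≤ _ := c2
    haveI := hNn
    refine ⟨⟨(b : X ⧸ Subgroup.zpowers x), fun q => ?_⟩⟩
    obtain ⟨g, rfl⟩ := QuotientGroup.mk_surjective q
    have hg : g ∈ Subgroup.zpowers b ⊔ Subgroup.zpowers x := by
      rw [hgen]; exact Subgroup.mem_top g
    obtain ⟨y, hy, z, hz, rfl⟩ := Subgroup.mem_sup_of_normal_right.mp hg
    obtain ⟨i, rfl⟩ := Subgroup.mem_zpowers_iff.mp hy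
    refine ⟨i, ?_⟩
    show (b : X ⧸ Subgroup.zpowers x) ^ i = ((b ^ i * z : X) : X ⧸ Subgroup.zpowers x)
    rw [QuotientGroup.mk_mul, (QuotientGroup.eq_one_iff z).mpr hz, mul_one, QuotientGroup.mk_zpow]

/-- For odd `p`, in a `p`-group all of whose elements of order dividing `p` are central and lie
in a subgroup `Ω`, the set of `p`-th powers has at least `|X| / |Ω|` elements. -/
theorem pc_range_card {p : ℕ} [Fact p.Prime] (hp2 : p ≠ 2) (X : Type u) [Group X] [Finite X]
    (hX : IsPGroup p X) (hcen : ∀ u : X, u ^ p = 1 → u ∈ Subgroup.center X)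
    (Ω : Subgroup X) (hΩ : ∀ u : X, u ^ p = 1 → u ∈ Ω) :
    Nat.card X ≤ Nat.card Ω * (Set.range fun x : X => x ^ p).ncard := by
  have hpp : p.Prime := Fact.out
  let Ω' : Subgroup X :=
    { carrier := {u | u ^ p = 1}
      mul_mem' := by
        intro a b ha hb
        have hc : Commute a b := Subgroup.mem_center_iff.mp (hcen b hb) a
        show (a * b) ^ p = 1
        rw [hc.mul_pow, ha, hb, one_mul]
      one_mem' := one_pow p
      inv_mem' := by
        intro a ha
        show (a⁻¹) ^ p = 1
        rw [inv_pow, ha, inv_one] }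
  have hΩ'le : Ω' ≤ Ω := fun u hu => hΩ u hu
  have hwd : ∀ a b : X, a⁻¹ * b ∈ Ω' → a ^ p = b ^ p := by
    intro a b h
    have h1 : (a⁻¹ * b) ^ p = 1 := h
    have hc := hcen _ h1
    have e : b = a * (a⁻¹ * b) := by group
    have hcm : Commute a (a⁻¹ * b) := Subgroup.mem_center_iff.mp hc a
    conv_rhs => rw [e]
    rw [hcm.mul_pow, h1, mul_one]
  let f : X ⧸ Ω' → (Set.range fun x : X => x ^ p) := Quotient.lift (s := QuotientGroup.leftRel Ω')
    (fun g => (⟨g ^ p, ⟨g, rfl⟩⟩ : (Set.range fun x : X => x ^ p)))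
    (fun a b h => Subtype.ext (hwd a b (QuotientGroup.leftRel_apply.mp h)))
  have hf : Function.Injective f := by
    intro q₁ q₂ h
    induction q₁ using QuotientGroup.induction_on with
    | _ a =>
      induction q₂ using QuotientGroup.induction_on with
      | _ b =>
        have h1 : a ^ p = b ^ p := congrArg Subtype.val h
        rw [QuotientGroup.eq]
        have h2 := pc_pow_inj hp2 _ X rfl hX hcen a⁻¹ b⁻¹ (by rw [inv_pow, inv_pow, h1])
        rw [inv_inv] at h2
        exact h2
  have hcard := Nat.card_le_card_of_injective f hf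
  rw [Nat.card_coe_set_eq] at hcard
  have h4 := Subgroup.card_eq_card_quotient_mul_card_subgroup Ω'
  calc Nat.card X = Nat.card (X ⧸ Ω') * Nat.card Ω' := h4
    _ ≤ (Set.range fun x : X => x ^ p).ncard * Nat.card Ω :=
      Nat.mul_le_mul hcard (Subgroup.card_le_of_le hΩ'le)
    _ = _ := mul_comm _ _

theorem pc_index {p : ℕ} [Fact p.Prime] (hp2 : p ≠ 2) (X : Type u) [Group X] [Finite X]
    (hX : IsPGroup p X) (hcen : ∀ u : X, u ^ p = 1 → u ∈ Subgroup.center X)
    (Ω : Subgroup X) (hΩ : ∀ u : X, u ^ p = 1 → u ∈ Ω) (hΩcard : Nat.card Ω ≤ p ^ 2) :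
    (bkAg p X).index ≤ p ^ 2 := by
  have h1 := pc_range_card hp2 X hX hcen Ω hΩ
  have h2 : (Set.range fun x : X => x ^ p).ncard ≤ Nat.card (bkAg p X) := by
    have e : Nat.card (bkAg p X) = ((bkAg p X : Subgroup X) : Set X).ncard :=
      Nat.card_coe_set_eq (bkAg p X : Set X)
    rw [e]
    exact Set.ncard_le_ncard (fun y hy => Subgroup.subset_closure hy) (Set.toFinite _)
  have h3 := Subgroup.card_mul_index (bkAg p X)
  have hpos : 0 < Nat.card (bkAg p X) := Nat.card_pos
  have h6 : Nat.card (bkAg p X) * (bkAg p X).index ≤ Nat.card (bkAg p X) * Nat.card Ω := by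
    rw [h3]
    calc Nat.card X ≤ Nat.card Ω * (Set.range fun x : X => x ^ p).ncard := h1
      _ ≤ Nat.card Ω * Nat.card (bkAg p X) := Nat.mul_le_mul_left _ h2
      _ = _ := mul_comm _ _
  exact (Nat.le_of_mul_le_mul_left h6 hpos).trans hΩcard

theorem pc_metacyclic {p : ℕ} [Fact p.Prime] (hp2 : p ≠ 2) (X : Type u) [Group X] [Finite X]
    (hX : IsPGroup p X) (hcen : ∀ u : X, u ^ p = 1 → u ∈ Subgroup.center X)
    (Ω : Subgroup X) (hΩ : ∀ u : X, u ^ p = 1 → u ∈ Ω) (hΩcard : Nat.card Ω ≤ p ^ 2) :
    Cfsg.IsMetacyclic X :=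
  k_metacyclic hp2 X hX (pc_index hp2 X hX hcen Ω hΩ hΩcard)

end Cfsg.Agent.H15
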