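import Mathlib
import Cfsg.Agent.H15.Blk1
import Cfsg.Agent.H3.CyclicMax
import Cfsg.Agent.H3.MaxClass
import Cfsg.Agent.S0126

set_option autoImplicit false

namespace Cfsg.Agent.H15

open scoped commutatorElement

universe u

/-! ### The set-up: a normal elementary abelian subgroup of order `p²` and its centralizer -/

theorem blk_setup {G : Type u} [Group G] [Finite G] {p : ℕ} [Fact p.Prime] (hp : p ≠ 2)
    (n : ℕ) (hGc : Nat.card G = p ^ n) (hrk : Cfsg.PRankLE p 2 G) (hnc : ¬ IsCyclic G) :
    ∃ R : Subgroup G, R.Normal ∧ Nat.card R = p ^ 2 ∧ (∀ a ∈ R, a ^ p = 1) ∧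
      (∀ a ∈ R, ∀ b ∈ R, a * b = b * a) ∧
      (∀ u ∈ Subgroup.centralizer (R : Set G), u ^ p = 1 → u ∈ R) ∧
      (Subgroup.centralizer (R : Set G) = ⊤ ∨ (Subgroup.centralizer (R : Set G)).index = p) := by
  have hpp : p.Prime := Fact.out
  have hG : IsPGroup p G := IsPGroup.of_card hGc
  obtain ⟨R, hRn, ⟨hRc, hRe⟩, hRcard⟩ := Cfsg.Agent.S0126.result hp hG hnc
  have hRcomm : ∀ a ∈ R, ∀ b ∈ R, a * b = b * a := fun a ha b hb =>
    congrArg Subtype.val (hRc.is_comm.comm ⟨a, ha⟩ ⟨b, hb⟩)
  refine ⟨R, hRn, hRcard, hRe, hRcomm, ?_, ?_⟩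
  · intro u hu hup
    have hmem : ∀ a ∈ R ⊔ Subgroup.zpowers u, ∃ r ∈ R, ∃ k : ℤ, a = r * u ^ k := by
      intro a ha
      obtain ⟨r, hr, t, ht, rfl⟩ := Subgroup.mem_sup_of_normal_left.mp ha
      obtain ⟨k, rfl⟩ := Subgroup.mem_zpowers_iff.mp ht
      exact ⟨r, hr, k, rfl⟩
    have hur : ∀ r ∈ R, r * u = u * r := fun r hr => Subgroup.mem_centralizer_iff.mp hu r hr
    have hcomm' : ∀ a ∈ R ⊔ Subgroup.zpowers u, ∀ b ∈ R ⊔ Subgroup.zpowers u,
        a * b = b * a := by
      intro a ha b hb
      obtain ⟨r, hr, k, rfl⟩ := hmem a ha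
      obtain ⟨r', hr', k', rfl⟩ := hmem b hb
      have h1 : Commute r r' := hRcomm r hr r' hr'
      have h2 : Commute r (u ^ k') := (show Commute r u from hur r hr).zpow_right k'
      have h3 : Commute (u ^ k) r' := ((show Commute r' u from hur r' hr').zpow_right k).symm
      have h4 : Commute (u ^ k) (u ^ k') := (Commute.refl u).zpow_zpow k k'
      exact ((h1.mul_right h2).mul_left (h3.mul_right h4)).eq
    have hexp' : ∀ a ∈ R ⊔ Subgroup.zpowers u, a ^ p = 1 := by
      intro a ha
      obtain ⟨r, hr, k, rfl⟩ := hmem a ha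
      have h2 : Commute r (u ^ k) := (show Commute r u from hur r hr).zpow_right k
      rw [h2.mul_pow, hRe r hr, one_mul, ← zpow_natCast, ← zpow_mul, mul_comm, zpow_mul,
        zpow_natCast, hup, one_zpow]
    have hcard := hrk (R ⊔ Subgroup.zpowers u)
      ⟨⟨fun a b => Subtype.ext (hcomm' a.1 a.2 b.1 b.2)⟩⟩ hexp'
    have heq : R = R ⊔ Subgroup.zpowers u :=
      Subgroup.eq_of_le_of_card_ge le_sup_left (by rw [hRcard]; exact hcard)
    rw [heq]
    exact Subgroup.mem_sup_right (Subgroup.mem_zpowers u)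
  · by_cases hRZ : R ≤ Subgroup.center G
    · left
      rw [eq_top_iff]
      intro g _
      rw [Subgroup.mem_centralizer_iff]
      intro r hr
      exact (Subgroup.mem_center_iff.mp (hRZ hr) g).symm
    · right
      obtain ⟨y, hyR, hyZ⟩ := SetLike.not_le_iff_exists.mp hRZ
      have hR1 : R ≠ ⊥ := by
        rintro rfl
        rw [Subgroup.mem_bot] at hyR
        rw [hyR] at hyZ
        exact hyZ (Subgroup.one_mem _)
      obtain ⟨z, hzR, hzc, hz1⟩ := Cfsg.Agent.H3.normal_inf_center_ne_bot hG R hR1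
      have hzcard : Nat.card (Subgroup.zpowers z) = p := by
        rw [Nat.card_zpowers]; exact orderOf_eq_prime (hRe z hzR) hz1
      have hlt : Subgroup.zpowers z < Subgroup.zpowers z ⊔ Subgroup.zpowers y := by
        refine lt_of_le_of_ne le_sup_left (fun h => hyZ ?_)
        have hy : y ∈ Subgroup.zpowers z := by
          rw [h]; exact Subgroup.mem_sup_right (Subgroup.mem_zpowers y)
        exact (Subgroup.zpowers_le.mpr hzc) hy
      have hle : Subgroup.zpowers z ⊔ Subgroup.zpowers y ≤ R :=
        sup_le (Subgroup.zpowers_le.mpr hzR) (Subgroup.zpowers_le.mpr hyR)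
      have h1 := Cfsg.Agent.H3.card_mul_le_of_lt hG hlt
      have heq : Subgroup.zpowers z ⊔ Subgroup.zpowers y = R :=
        Subgroup.eq_of_le_of_card_ge hle (by rw [hRcard, sq]; rw [hzcard] at h1; exact h1)
      have hCeq : Subgroup.centralizer (R : Set G) = Subgroup.centralizer ({y} : Set G) := by
        apply le_antisymm
        · exact Subgroup.centralizer_le (by
            intro a ha
            rw [Set.mem_singleton_iff] at ha
            rw [ha]; exact hyR)
        · intro g hg
          have hgy : y * g = g * y := Subgroup.mem_centralizer_iff.mp hg y rfl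
          have hsub : Subgroup.zpowers z ⊔ Subgroup.zpowers y ≤
              Subgroup.centralizer ({g} : Set G) := by
            refine sup_le (Subgroup.zpowers_le.mpr ?_) (Subgroup.zpowers_le.mpr ?_)
            · rw [Subgroup.mem_centralizer_iff]
              intro h hh
              rw [Set.mem_singleton_iff] at hh
              rw [hh]
              exact Subgroup.mem_center_iff.mp hzc g
            · rw [Subgroup.mem_centralizer_iff]
              intro h hh
              rw [Set.mem_singleton_iff] at hh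
              rw [hh]
              exact hgy.symm
          rw [Subgroup.mem_centralizer_iff]
          intro r hr
          have hr' : r ∈ Subgroup.zpowers z ⊔ Subgroup.zpowers y := by rw [heq]; exact hr
          exact (Subgroup.mem_centralizer_iff.mp (hsub hr') g rfl).symm
      rw [hCeq]
      -- the conjugacy class of `y`
      have hy1 : y ≠ 1 := by
        rintro rfl
        exact hyZ (Subgroup.one_mem _)
      let F : G ⧸ Subgroup.centralizer ({y} : Set G) → G :=
        Quotient.lift (s := QuotientGroup.leftRel (Subgroup.centralizer ({y} : Set G)))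
          (fun g => g * y * g⁻¹) (by
            intro a b h
            have h1 := QuotientGroup.leftRel_apply.mp h
            have h2 : y * (a⁻¹ * b) = a⁻¹ * b * y := Subgroup.mem_centralizer_iff.mp h1 y rfl
            show a * y * a⁻¹ = b * y * b⁻¹
            have h3 : b = a * (a⁻¹ * b) := by group
            rw [h3, mul_assoc a (a⁻¹ * b) y, ← h2]
            group)
      have hF : Function.Injective F := by
        intro q₁ q₂ h
        induction q₁ using QuotientGroup.induction_on with
        | _ a =>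
          induction q₂ using QuotientGroup.induction_on with
          | _ b =>
            have h1 : a * y * a⁻¹ = b * y * b⁻¹ := h
            rw [QuotientGroup.eq, Subgroup.mem_centralizer_iff]
            intro h hh
            rw [Set.mem_singleton_iff] at hh
            rw [hh]
            have h2 : y = a⁻¹ * (b * y * b⁻¹) * a := by rw [← h1]; group
            calc y * (a⁻¹ * b) = a⁻¹ * (b * y * b⁻¹) * a * (a⁻¹ * b) := by rw [← h2]
              _ = a⁻¹ * b * y := by group
      have hrange : Set.range F ⊆ (R : Set G) \ {1} := by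
        rintro _ ⟨q, rfl⟩
        induction q using QuotientGroup.induction_on with
        | _ a =>
          refine ⟨hRn.conj_mem y hyR a, ?_⟩
          rw [Set.mem_singleton_iff]
          intro h
          have h1 : a * y * a⁻¹ = 1 := h
          apply hy1
          have : y = a⁻¹ * (a * y * a⁻¹) * a := by group
          rw [this, h1]; group
      have hcardF : Nat.card (G ⧸ Subgroup.centralizer ({y} : Set G)) = (Set.range F).ncard := by
        rw [← Nat.card_coe_set_eq, Nat.card_range_of_injective hF]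
      have hRn1 : ((R : Set G) \ {1}).ncard = p ^ 2 - 1 := by
        rw [Set.ncard_sdiff_singleton_of_mem (Subgroup.one_mem R), ← hRcard]
        congr 1
      have hlt2 : (Subgroup.centralizer ({y} : Set G)).index < p ^ 2 := by
        rw [Subgroup.index_eq_card, hcardF]
        have h2 := Set.ncard_le_ncard hrange (Set.toFinite _)
        rw [hRn1] at h2
        have : 0 < p ^ 2 := pow_pos hpp.pos 2
        omega
      have hdvd : (Subgroup.centralizer ({y} : Set G)).index ∣ p ^ n := by
        rw [← hGc]; exact Subgroup.index_dvd_card _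
      obtain ⟨k, -, hk⟩ := (Nat.dvd_prime_pow hpp).mp hdvd
      rw [hk] at hlt2
      have hk2 : k < 2 := (Nat.pow_lt_pow_iff_right hpp.one_lt).mp hlt2
      have hk0 : k ≠ 0 := by
        rintro rfl
        rw [pow_zero] at hk
        have htop := Subgroup.index_eq_one.mp hk
        apply hyZ
        rw [Subgroup.mem_center_iff]
        intro g
        have hg : g ∈ Subgroup.centralizer ({y} : Set G) := by rw [htop]; trivial
        exact (Subgroup.mem_centralizer_iff.mp hg y rfl).symm
      have hk1 : k = 1 := by omega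
      rw [hk, hk1, pow_one]

/-! ### Case (B): all elements of order `3` lie in `R` -/

theorem blk_B {G : Type u} [Group G] [Finite G] [Fact (Nat.Prime 3)] (n : ℕ)
    (hGc : Nat.card G = 3 ^ n)
    (R : Subgroup G) [hRn : R.Normal] (hRcard : Nat.card R = 3 ^ 2)
    (hRexp : ∀ a ∈ R, a ^ 3 = 1) (hRcomm : ∀ a ∈ R, ∀ b ∈ R, a * b = b * a)
    (hidx : (Subgroup.centralizer (R : Set G)).index = 3)
    (hB : ∀ u : G, u ^ 3 = 1 → u ∈ R) :
    Cfsg.IsMetacyclic G ∨ Group.nilpotencyClass G = n - 1 := by
  have hG : IsPGroup 3 G := IsPGroup.of_card hGc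
  obtain ⟨C, hC⟩ : ∃ C : Subgroup G, C = Subgroup.centralizer (R : Set G) := ⟨_, rfl⟩
  rw [← hC] at hidx
  have hCn : C.Normal := by rw [hC]; infer_instance
  have hRC : R ≤ C := by
    intro r hr
    rw [hC]
    exact Subgroup.mem_centralizer_iff.mpr (fun h hh => hRcomm h hh r hr)
  have hCR : ∀ c ∈ C, ∀ r ∈ R, r * c = c * r := by
    intro c hc r hr
    rw [hC] at hc
    exact Subgroup.mem_centralizer_iff.mp hc r hr
  by_cases hB1 : ∃ w : G, w ∉ C ∧ w ^ 9 = 1
  · right
    obtain ⟨w, hwC, hw9⟩ := hB1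
    have hw3 : w ^ 3 ≠ 1 := fun h => hwC (hRC (hB w h))
    have hw33 : (w ^ 3) ^ 3 = 1 := by rw [← pow_mul]; exact hw9
    have hw3R : w ^ 3 ∈ R := hB _ hw33
    have hord : orderOf w = 3 ^ 2 :=
      orderOf_eq_prime_pow (n := 1) (by simpa using hw3) (by simpa using hw9)
    have stepa : ∀ c ∈ R, c * w = w * c → c ∈ Subgroup.zpowers (w ^ 3) := by
      intro c hcR hcw
      by_contra hcon
      apply hwC
      have hlt : Subgroup.zpowers (w ^ 3) < Subgroup.zpowers (w ^ 3) ⊔ Subgroup.zpowers c := by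
        refine lt_of_le_of_ne le_sup_left (fun h => hcon ?_)
        rw [h]; exact Subgroup.mem_sup_right (Subgroup.mem_zpowers c)
      have hle : Subgroup.zpowers (w ^ 3) ⊔ Subgroup.zpowers c ≤ R :=
        sup_le (Subgroup.zpowers_le.mpr hw3R) (Subgroup.zpowers_le.mpr hcR)
      have hcard3 : Nat.card (Subgroup.zpowers (w ^ 3)) = 3 := by
        rw [Nat.card_zpowers]; exact orderOf_eq_prime hw33 hw3
      have h1 := Cfsg.Agent.H3.card_mul_le_of_lt hG hlt
      have heq : Subgroup.zpowers (w ^ 3) ⊔ Subgroup.zpowers c = R :=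
        Subgroup.eq_of_le_of_card_ge hle (by rw [hRcard]; rw [hcard3] at h1; omega)
      rw [hC, Subgroup.mem_centralizer_iff]
      intro r hr
      rw [← heq] at hr
      have hsub : Subgroup.zpowers (w ^ 3) ⊔ Subgroup.zpowers c ≤
          Subgroup.centralizer ({w} : Set G) := by
        refine sup_le (Subgroup.zpowers_le.mpr ?_) (Subgroup.zpowers_le.mpr ?_)
        · rw [Subgroup.mem_centralizer_iff]
          intro h hh
          rw [Set.mem_singleton_iff] at hh
          rw [hh]
          exact (pow_succ' w 3).symm.trans (pow_succ w 3)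
        · rw [Subgroup.mem_centralizer_iff]
          intro h hh
          rw [Set.mem_singleton_iff] at hh
          rw [hh]
          exact hcw.symm
      exact (Subgroup.mem_centralizer_iff.mp (hsub hr) w rfl).symm
    have key : ∀ c ∈ C, c * w = w * c → c ∈ Subgroup.zpowers w := by
      intro c hcC hcw
      have hz3 : Subgroup.zpowers (w ^ 3) ≤ Subgroup.zpowers w :=
        Subgroup.zpowers_le.mpr (Subgroup.pow_mem _ (Subgroup.mem_zpowers w) 3)
      by_cases hc3 : c ^ 3 = 1
      · exact hz3 (stepa c (hB c hc3) hcw)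
      · exfalso
        obtain ⟨k, hk⟩ := (IsPGroup.iff_orderOf (p := 3)).1 hG c
        have hk2 : 2 ≤ k := by
          by_contra hlt
          apply hc3
          have : orderOf c ∣ 3 := by
            rw [hk]
            exact (pow_dvd_pow 3 (by omega : k ≤ 1)).trans (by norm_num)
          exact orderOf_dvd_iff_pow_eq_one.mp this
        obtain ⟨k', rfl⟩ := Nat.exists_eq_add_of_le hk2
        obtain ⟨c', hc'⟩ : ∃ c' : G, c' = c ^ 3 ^ k' := ⟨_, rfl⟩
        have hc'C : c' ∈ C := by rw [hc']; exact C.pow_mem hcC _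
        have hc'w : c' * w = w * c' := by
          rw [hc']; exact ((show Commute c w from hcw).pow_left _).eq
        have hc'9 : c' ^ 9 = 1 := by
          rw [hc', ← pow_mul, (show 3 ^ k' * 9 = 3 ^ (2 + k') by ring), ← hk,
            pow_orderOf_eq_one]
        have hc'3 : c' ^ 3 ≠ 1 := by
          intro h
          rw [hc', ← pow_mul, ← pow_succ] at h
          have h1 := orderOf_dvd_of_pow_eq_one h
          rw [hk] at h1
          have h2 := (Nat.pow_dvd_pow_iff_le_right (by norm_num : 1 < 3)).mp h1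
          omega
        have h3 : c' ^ 3 ∈ Subgroup.zpowers (w ^ 3) :=
          stepa _ (hB _ (by rw [← pow_mul]; exact hc'9))
            (((show Commute c' w from hc'w).pow_left 3).eq)
        obtain ⟨i, hi⟩ := Subgroup.mem_zpowers_iff.mp h3
        have hu3 : (w ^ i * c'⁻¹) ^ 3 = 1 := by
          have hcm : Commute (w ^ i) c'⁻¹ :=
            ((show Commute c' w from hc'w).symm.zpow_left i).inv_right
          rw [hcm.mul_pow, inv_pow, ← hi, ← zpow_natCast (w ^ i), ← zpow_mul, mul_comm,
            zpow_mul, zpow_natCast]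
          simp
        have huC : w ^ i * c'⁻¹ ∈ C := hRC (hB _ hu3)
        have hwiC : w ^ i ∈ C := by
          have := C.mul_mem huC hc'C
          simpa using this
        have hi3 : ¬ (3 : ℤ) ∣ i := by
          rintro ⟨j, rfl⟩
          apply hc'3
          rw [← hi, ← zpow_natCast w 3, ← zpow_mul, ← mul_assoc, zpow_mul]
          have : w ^ ((3 : ℕ) * (3 : ℤ)) = 1 := by
            rw [(show ((3 : ℕ) : ℤ) * (3 : ℤ) = ((9 : ℕ) : ℤ) by norm_num), zpow_natCast, hw9]
          rw [this, one_zpow]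
        have hcop : IsCoprime i 3 := by
          have h3p : Prime (3 : ℤ) := Int.prime_three
          exact (h3p.coprime_iff_not_dvd.mpr hi3).symm
        obtain ⟨a, b, hab⟩ := hcop
        apply hwC
        have hw : w = (w ^ i) ^ a * (w ^ 3) ^ b := by
          rw [← zpow_mul, ← zpow_natCast w 3, ← zpow_mul, ← zpow_add]
          have : i * a + ((3 : ℕ) : ℤ) * b = 1 := by push_cast; linarith
          rw [this, zpow_one]
        rw [hw]
        exact C.mul_mem (C.zpow_mem hwiC a) (C.zpow_mem (hRC hw3R) b)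
    have hCA : Subgroup.centralizer (Subgroup.zpowers w : Set G) = Subgroup.zpowers w := by
      apply le_antisymm
      · intro g hg
        have hgw : w * g = g * w := Subgroup.mem_centralizer_iff.mp hg w (Subgroup.mem_zpowers w)
        obtain ⟨c, hcC, i, rfl⟩ := Cfsg.Agent.H3.exists_mul_pow_of_index_prime C hidx hwC g
        have hcw : c * w = w * c := by
          have h2 : w * c * w ^ i = c * w * w ^ i := by
            rw [mul_assoc, hgw, mul_assoc, mul_assoc, ← pow_succ, ← pow_succ']
          exact (mul_right_cancel h2).symm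
        exact Subgroup.mul_mem _ (key c hcC hcw) (Subgroup.pow_mem _ (Subgroup.mem_zpowers w) i)
      · intro g hg
        rw [Subgroup.mem_centralizer_iff]
        intro h hh
        obtain ⟨a, rfl⟩ := Subgroup.mem_zpowers_iff.mp hg
        obtain ⟨b, rfl⟩ := Subgroup.mem_zpowers_iff.mp hh
        exact ((Commute.refl w).zpow_zpow b a).eq
    have hAcard : Nat.card (Subgroup.zpowers w) = 3 ^ 2 := by rw [Nat.card_zpowers, hord]
    exact Cfsg.Agent.H3.suzuki_aux 3 n G hGc (Subgroup.zpowers w) hAcard hCA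
  · left
    push Not at hB1
    apply k_metacyclic (by norm_num : (3 : ℕ) ≠ 2) G hG
    by_contra hcon
    push Not at hcon
    have hdvd : (bkAg 3 G).index ∣ 3 ^ n := by rw [← hGc]; exact Subgroup.index_dvd_card _
    obtain ⟨k, -, hk⟩ := (Nat.dvd_prime_pow (by norm_num : Nat.Prime 3)).mp hdvd
    have hk3 : 3 ≤ k := by
      by_contra hlt
      rw [hk] at hcon
      have : 3 ^ k ≤ 3 ^ 2 := Nat.pow_le_pow_right (by norm_num) (by omega)
      omega
    have hidx27 : 27 ≤ (bkAg 3 G).index := by
      rw [hk]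
      calc 27 = 3 ^ 3 := by norm_num
        _ ≤ 3 ^ k := Nat.pow_le_pow_right (by norm_num) hk3
    have hCp : IsPGroup 3 C := hG.to_subgroup C
    have hcenC : ∀ u : C, u ^ 3 = 1 → u ∈ Subgroup.center C := by
      intro u hu
      have h1 : (u : G) ^ 3 = 1 := by simpa using congrArg Subtype.val hu
      have h2 := hB _ h1
      rw [Subgroup.mem_center_iff]
      intro g
      exact Subtype.ext (hCR g.1 g.2 _ h2).symm
    have hΩ : ∀ u : C, u ^ 3 = 1 → u ∈ R.subgroupOf C := by
      intro u hu
      have h1 : (u : G) ^ 3 = 1 := by simpa using congrArg Subtype.val hu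
      exact Subgroup.mem_subgroupOf.mpr (hB _ h1)
    have hΩcard : Nat.card (R.subgroupOf C) = 3 ^ 2 := by
      rw [Nat.card_congr (Subgroup.subgroupOfEquivOfLe hRC).toEquiv, hRcard]
    have hrange := pc_range_card (by norm_num : (3 : ℕ) ≠ 2) C hCp hcenC (R.subgroupOf C) hΩ
    rw [hΩcard] at hrange
    obtain ⟨T, hT⟩ : ∃ T : Set G, T = Subtype.val '' (Set.range fun c : C => c ^ 3) := ⟨_, rfl⟩
    have hTcard : T.ncard = (Set.range fun c : C => c ^ 3).ncard := by
      rw [hT]; exact Set.ncard_image_of_injective _ Subtype.val_injective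
    have hTsub : T ⊆ (bkAg 3 G : Set G) := by
      rw [hT]
      rintro _ ⟨_, ⟨c, rfl⟩, rfl⟩
      exact Subgroup.subset_closure ⟨(c : G), by simp⟩
    have hP := Subgroup.card_mul_index (bkAg 3 G)
    have hCc := Subgroup.card_mul_index C
    rw [hidx] at hCc
    have hPcard : Nat.card (bkAg 3 G) = ((bkAg 3 G : Subgroup G) : Set G).ncard :=
      Nat.card_coe_set_eq _
    have hle : ((bkAg 3 G : Subgroup G) : Set G).ncard ≤ T.ncard := by
      rw [← hPcard, hTcard]
      nlinarith
    have hTeq : T = (bkAg 3 G : Set G) := Set.eq_of_subset_of_ncard_le hTsub hle (Set.toFinite _)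
    obtain ⟨w, hwC⟩ : ∃ w : G, w ∉ C := by
      by_contra h
      push Not at h
      have : C = ⊤ := eq_top_iff.mpr (fun g _ => h g)
      rw [this, Subgroup.index_top] at hidx
      omega
    have hw3 : w ^ 3 ∈ T := by
      rw [hTeq]; exact Subgroup.subset_closure ⟨w, rfl⟩
    rw [hT] at hw3
    obtain ⟨_, ⟨c, rfl⟩, hc⟩ := hw3
    have hc3 : (c : G) ^ 3 = w ^ 3 := by simpa using hc
    have hwc : w * (c : G) * w⁻¹ ∈ C := hCn.conj_mem c c.2 w
    have hr3 : (w * (c : G) * w⁻¹ * (c : G)⁻¹) ^ 3 = 1 := by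
      have h := pc_pow_inj (by norm_num : (3 : ℕ) ≠ 2) _ C rfl hCp hcenC ⟨w * c * w⁻¹, hwc⟩ c
        (Subtype.ext (by
          show (w * (c : G) * w⁻¹) ^ 3 = (c : G) ^ 3
          rw [conj_pow, hc3]; group))
      simpa using congrArg Subtype.val h
    obtain ⟨r, hr⟩ : ∃ r : G, r = w * (c : G) * w⁻¹ * (c : G)⁻¹ := ⟨_, rfl⟩
    rw [← hr] at hr3
    have hrR : r ∈ R := hB r hr3
    obtain ⟨s, hs⟩ : ∃ s : G, s = w * r * w⁻¹ * r⁻¹ := ⟨_, rfl⟩
    have hsR : s ∈ R := by
      rw [hs]; exact R.mul_mem (hRn.conj_mem r hrR w) (R.inv_mem hrR)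
    have hs3 : s ^ 3 = 1 := hRexp s hsR
    have hcr : r⁻¹ * (c : G)⁻¹ = (c : G)⁻¹ * r⁻¹ := by
      have := hCR c c.2 r hrR
      rw [← mul_inv_rev, ← mul_inv_rev, this]
    have hcs : s⁻¹ * (c : G) ^ 3 = (c : G) ^ 3 * s⁻¹ := by
      have h1 : Commute s (c : G) := hCR c c.2 s hsR
      exact (h1.inv_left.pow_right 3).eq
    have e1 : w * (c : G)⁻¹ = (c : G)⁻¹ * r⁻¹ * w := by rw [hr]; group
    have e2 : w * r⁻¹ = r⁻¹ * s⁻¹ * w := by rw [hs]; group
    have key : ((c : G)⁻¹ * w) ^ 3 = s⁻¹ := by
      calc ((c : G)⁻¹ * w) ^ 3 = (c : G)⁻¹ * (w * (c : G)⁻¹) * (w * (c : G)⁻¹) * w := by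
            simp only [pow_succ, pow_zero, one_mul, mul_assoc]
        _ = (c : G)⁻¹ * ((c : G)⁻¹ * r⁻¹ * w) * ((c : G)⁻¹ * r⁻¹ * w) * w := by rw [e1]
        _ = (c : G)⁻¹ * (c : G)⁻¹ * r⁻¹ * (w * (c : G)⁻¹) * r⁻¹ * w * w := by
            simp only [mul_assoc]
        _ = (c : G)⁻¹ * (c : G)⁻¹ * r⁻¹ * ((c : G)⁻¹ * r⁻¹ * w) * r⁻¹ * w * w := by rw [e1]
        _ = (c : G)⁻¹ * (c : G)⁻¹ * (r⁻¹ * (c : G)⁻¹) * r⁻¹ * (w * r⁻¹) * w * w := by
            simp only [mul_assoc]
        _ = (c : G)⁻¹ * (c : G)⁻¹ * ((c : G)⁻¹ * r⁻¹) * r⁻¹ * (r⁻¹ * s⁻¹ * w) * w * w := by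
            rw [hcr, e2]
        _ = ((c : G) ^ 3)⁻¹ * (r ^ 3)⁻¹ * s⁻¹ * w ^ 3 := by
            simp only [pow_succ, pow_zero, one_mul, mul_assoc, mul_inv_rev]
        _ = s⁻¹ := by
            rw [hr3, inv_one, mul_one, ← hc3, mul_assoc, hcs, ← mul_assoc, inv_mul_cancel,
              one_mul]
    have h9 : ((c : G)⁻¹ * w) ^ 9 = 1 := by
      rw [(show 9 = 3 * 3 by norm_num), pow_mul, key, inv_pow, hs3, inv_one]
    exact hB1 _ (fun h => hwC (by
      have := C.mul_mem c.2 h
      simpa using this)) h9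

end Cfsg.Agent.H15
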