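import Mathlib

set_option autoImplicit false

namespace Cfsg.Agent.H15

/-! ### Fixed points of a map of prime order -/

theorem ma_fixed_exists {α : Type*} [Finite α] {p : ℕ} [Fact p.Prime] (φ : α → α)
    (hφ : ∀ x, φ^[p] x = x) (x₀ : α) (hx₀ : φ x₀ = x₀) (hcard : p ∣ Nat.card α) :
    ∃ x, x ≠ x₀ ∧ φ x = x := by
  classical
  have hpp : p.Prime := Fact.out
  have := Fintype.ofFinite α
  obtain ⟨φ', hφ'⟩ : ∃ φ' : Function.End α, φ' = φ := ⟨φ, rfl⟩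
  have h1 : φ' ^ p ^ 1 = 1 := by
    rw [pow_one]
    have h2 : φ' ^ p = Nat.iterate φ p := by
      rw [← hφ']
      exact hom_coe_pow (fun g : Function.End α ↦ g) rfl (fun g h ↦ rfl) φ' p
    rw [h2]
    exact funext hφ
  have h2 := Equiv.Perm.card_fixedPoints_modEq (f := φ') (p := p) (n := 1) h1
  rw [hφ'] at h2
  rw [← Nat.card_eq_fintype_card, ← Nat.card_eq_fintype_card] at h2
  have h3 : p ∣ Nat.card (Function.fixedPoints φ) := (Nat.ModEq.dvd_iff h2 dvd_rfl).mp hcard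
  by_contra hcon
  push Not at hcon
  have hsub : Subsingleton (Function.fixedPoints φ) := by
    constructor
    rintro ⟨x, hx⟩ ⟨y, hy⟩
    have hx' : x = x₀ := by
      by_contra hne
      exact hcon x hne hx
    have hy' : y = x₀ := by
      by_contra hne
      exact hcon y hne hy
    exact Subtype.ext (hx'.trans hy'.symm)
  have h4 : Nat.card (Function.fixedPoints φ) ≤ 1 := Finite.card_le_one_iff_subsingleton.mpr hsub
  have : Nonempty (Function.fixedPoints φ) := ⟨⟨x₀, hx₀⟩⟩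
  have h5 : 0 < Nat.card (Function.fixedPoints φ) := Nat.card_pos
  have h6 : Nat.card (Function.fixedPoints φ) = 1 := by omega
  rw [h6] at h3
  exact hpp.one_lt.ne' (Nat.dvd_one.mp h3)

/-! ### The structure of `Ω₁` under a non-centralizing map of order `p` -/

section estruct
variable {M : Type*} [Group M] [Finite M] {p : ℕ} [Fact p.Prime]

theorem ma_gen (f : M →* M)
    (hE : ∀ x y : M, x ^ p = 1 → y ^ p = 1 → x * y = y * x)
    (hcard : {x : M | x ^ p = 1}.ncard = p ^ 2)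
    (e₀ : M) (he₀ : e₀ ^ p = 1) (hfe : f e₀ ≠ e₀)
    (z : M) (hz1 : z ≠ 1) (hzp : z ^ p = 1) (hfz : f z = z) :
    (∀ i j i' j' : ℕ, z ^ i * e₀ ^ j = z ^ i' * e₀ ^ j' → j ≡ j' [MOD p]) ∧
    (∀ e : M, e ^ p = 1 → ∃ i j : ℕ, e = z ^ i * e₀ ^ j) := by
  have hpp : p.Prime := Fact.out
  have he01 : e₀ ≠ 1 := by
    rintro rfl
    exact hfe (map_one f)
  have hoz : orderOf z = p := orderOf_eq_prime hzp hz1
  have hoe : orderOf e₀ = p := orderOf_eq_prime he₀ he01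
  have hfe0p : (f e₀) ^ p = 1 := by rw [← map_pow, he₀, map_one]
  obtain ⟨u, hu⟩ : ∃ u : M, u = e₀⁻¹ * f e₀ := ⟨_, rfl⟩
  have hfu : f e₀ = e₀ * u := by rw [hu]; group
  have hu1 : u ≠ 1 := by
    intro h
    rw [h, mul_one] at hfu
    exact hfe hfu
  have hinvp : (e₀⁻¹) ^ p = 1 := by rw [inv_pow, he₀, inv_one]
  have hup : u ^ p = 1 := by
    rw [hu, (show Commute e₀⁻¹ (f e₀) from hE _ _ hinvp hfe0p).mul_pow, hinvp, hfe0p, one_mul]
  have hou : orderOf u = p := orderOf_eq_prime hup hu1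
  have hpowp : ∀ (x : M) (k : ℕ), x ^ p = 1 → (x ^ k) ^ p = 1 := by
    intro x k hx
    rw [pow_right_comm, hx, one_pow]
  have key : ∀ i j i' j' : ℕ, z ^ i * e₀ ^ j = z ^ i' * e₀ ^ j' → j ≡ j' [MOD p] := by
    intro i j i' j' h
    have h1 := congrArg f h
    rw [map_mul, map_mul, map_pow, map_pow, map_pow, map_pow, hfz, hfu,
      (show Commute e₀ u from hE _ _ he₀ hup).mul_pow,
      (show Commute e₀ u from hE _ _ he₀ hup).mul_pow, ← mul_assoc, ← mul_assoc, h] at h1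
    have h2 : u ^ j = u ^ j' := mul_left_cancel h1
    rw [pow_eq_pow_iff_modEq, hou] at h2
    exact h2
  refine ⟨key, ?_⟩
  let g : Fin p × Fin p → M := fun x => z ^ (x.1 : ℕ) * e₀ ^ (x.2 : ℕ)
  have hg : Function.Injective g := by
    rintro ⟨i, j⟩ ⟨i', j'⟩ h
    have h' : z ^ (i : ℕ) * e₀ ^ (j : ℕ) = z ^ (i' : ℕ) * e₀ ^ (j' : ℕ) := h
    have h1 := key _ _ _ _ h'
    have h2 : (j : ℕ) = j' := Nat.ModEq.eq_of_lt_of_lt h1 j.2 j'.2
    rw [h2] at h'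
    have h3 : z ^ (i : ℕ) = z ^ (i' : ℕ) := mul_right_cancel h'
    rw [pow_eq_pow_iff_modEq, hoz] at h3
    have h4 : (i : ℕ) = i' := Nat.ModEq.eq_of_lt_of_lt h3 i.2 i'.2
    exact Prod.ext (Fin.ext h4) (Fin.ext h2)
  have hsub : Set.range g ⊆ {x : M | x ^ p = 1} := by
    rintro _ ⟨⟨i, j⟩, rfl⟩
    show (z ^ (i : ℕ) * e₀ ^ (j : ℕ)) ^ p = 1
    rw [(show Commute (z ^ (i : ℕ)) (e₀ ^ (j : ℕ)) from
      hE _ _ (hpowp z _ hzp) (hpowp e₀ _ he₀)).mul_pow, hpowp z _ hzp, hpowp e₀ _ he₀, one_mul]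
  have hcr : (Set.range g).ncard = p ^ 2 := by
    rw [← Nat.card_coe_set_eq, Nat.card_range_of_injective hg, Nat.card_prod, Nat.card_fin, sq]
  have heq : Set.range g = {x : M | x ^ p = 1} :=
    Set.eq_of_subset_of_ncard_le hsub (by rw [hcard, hcr]) (Set.toFinite _)
  intro e he
  have he' : e ∈ Set.range g := by rw [heq]; exact he
  obtain ⟨⟨i, j⟩, rfl⟩ := he'
  exact ⟨i, j, rfl⟩

theorem ma_estruct (f : M →* M) (hf : ∀ x, f^[p] x = x)
    (hE : ∀ x y : M, x ^ p = 1 → y ^ p = 1 → x * y = y * x)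
    (hcard : {x : M | x ^ p = 1}.ncard = p ^ 2)
    (e₀ : M) (he₀ : e₀ ^ p = 1) (hfe : f e₀ ≠ e₀) :
    ∃ e₁ : M, e₁ ≠ 1 ∧ e₁ ^ p = 1 ∧ f e₁ = e₁ ∧ f e₀ = e₀ * e₁ ∧
      ∀ e : M, e ^ p = 1 → ∃ i j : ℕ, e = e₁ ^ i * e₀ ^ j := by
  have hpp : p.Prime := Fact.out
  have he01 : e₀ ≠ 1 := by
    rintro rfl
    exact hfe (map_one f)
  have hoe : orderOf e₀ = p := orderOf_eq_prime he₀ he01
  let S : Set M := {x : M | x ^ p = 1}
  let φ : S → S := fun x => ⟨f x.1, by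
    show (f x.1) ^ p = 1
    rw [← map_pow, (show x.1 ^ p = 1 from x.2), map_one]⟩
  have hφit : ∀ (k : ℕ) (x : S), (φ^[k] x).1 = f^[k] x.1 := by
    intro k
    induction k with
    | zero => intro x; rfl
    | succ k ih =>
      intro x
      rw [Function.iterate_succ_apply', Function.iterate_succ_apply', ← ih]
  have hφ : ∀ x, φ^[p] x = x := fun x => Subtype.ext (by rw [hφit, hf])
  have hcS : p ∣ Nat.card S := by
    rw [Nat.card_coe_set_eq, hcard, sq]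
    exact Dvd.intro _ rfl
  obtain ⟨⟨f₀, hf₀p⟩, hne, hfix⟩ :=
    ma_fixed_exists φ hφ ⟨1, one_pow p⟩ (Subtype.ext (map_one f)) hcS
  have hf₀p' : f₀ ^ p = 1 := hf₀p
  have hf₀1 : f₀ ≠ 1 := fun h => hne (Subtype.ext h)
  have hff₀ : f f₀ = f₀ := congrArg Subtype.val hfix
  have hof : orderOf f₀ = p := orderOf_eq_prime hf₀p' hf₀1
  obtain ⟨key, gen⟩ := ma_gen f hE hcard e₀ he₀ hfe f₀ hf₀1 hf₀p' hff₀
  have hfe0p : (f e₀) ^ p = 1 := by rw [← map_pow, he₀, map_one]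
  obtain ⟨m, n, hmn⟩ := gen (f e₀) hfe0p
  have hpowp : ∀ (x : M) (k : ℕ), x ^ p = 1 → (x ^ k) ^ p = 1 := by
    intro x k hx
    rw [pow_right_comm, hx, one_pow]
  have hit : ∀ k : ℕ, ∃ N : ℕ, f^[k] e₀ = f₀ ^ N * e₀ ^ (n ^ k) := by
    intro k
    induction k with
    | zero => exact ⟨0, by simp⟩
    | succ k ih =>
      obtain ⟨N, hN⟩ := ih
      refine ⟨N + m * n ^ k, ?_⟩
      have e1 : n ^ (k + 1) = n * n ^ k := pow_succ' n k
      rw [Function.iterate_succ_apply', hN, map_mul, map_pow, map_pow, hff₀, hmn,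
        (show Commute (f₀ ^ m) (e₀ ^ n) from hE _ _ (hpowp _ _ hf₀p') (hpowp _ _ he₀)).mul_pow,
        ← pow_mul, ← pow_mul, e1, pow_add, mul_assoc]
  obtain ⟨N, hN⟩ := hit p
  rw [hf] at hN
  have h1 : f₀ ^ 0 * e₀ ^ 1 = f₀ ^ N * e₀ ^ (n ^ p) := by
    rw [pow_zero, one_mul, pow_one]; exact hN
  have h2 := key _ _ _ _ h1
  have h3 : ((n : ZMod p)) = 1 := by
    have h4 : ((n ^ p : ℕ) : ZMod p) = ((1 : ℕ) : ZMod p) :=
      ((ZMod.natCast_eq_natCast_iff _ _ _).mpr h2).symm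
    rw [Nat.cast_pow, ZMod.pow_card, Nat.cast_one] at h4
    exact h4
  have h5 : n ≡ 1 [MOD p] := by
    rw [← ZMod.natCast_eq_natCast_iff, h3, Nat.cast_one]
  have h6 : e₀ ^ n = e₀ := by
    have : e₀ ^ n = e₀ ^ 1 := by rw [pow_eq_pow_iff_modEq, hoe]; exact h5
    rw [this, pow_one]
  rw [h6] at hmn
  have hcomm : f₀ ^ m * e₀ = e₀ * f₀ ^ m := hE _ _ (hpowp _ _ hf₀p') he₀
  have he1 : f₀ ^ m ≠ 1 := by
    intro h
    rw [h, one_mul] at hmn
    exact hfe hmn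
  have hfe1 : f (f₀ ^ m) = f₀ ^ m := by rw [map_pow, hff₀]
  obtain ⟨-, gen'⟩ := ma_gen f hE hcard e₀ he₀ hfe (f₀ ^ m) he1 (hpowp _ _ hf₀p') hfe1
  exact ⟨f₀ ^ m, he1, hpowp _ _ hf₀p', hfe1, by rw [hmn, hcomm], gen'⟩

theorem ma_core (hp : p ≠ 2) (f : M →* M) (hf : ∀ x, f^[p] x = x)
    (Q0 : ∀ g : M, g ^ (p * p) = 1)
    (Q1 : ∀ g e : M, e ^ p = 1 → g * e = e * g)
    (Q2 : ∀ g h : M, (g * h) ^ p = g ^ p * h ^ p)
    (Q3 : ∀ e : M, e ^ p = 1 → ∃ x, x ^ p = e)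
    (hcard : {x : M | x ^ p = 1}.ncard = p ^ 2)
    (e₀ : M) (he₀ : e₀ ^ p = 1) (hfe : f e₀ ≠ e₀) :
    p = 3 ∧ ∃ e₁ : M, e₁ ≠ 1 ∧ e₁ ^ p = 1 ∧ f e₁ = e₁ ∧
      ∀ c : M, f c = c → ∃ i : ℕ, c = e₁ ^ i := by
  have hpp : p.Prime := Fact.out
  obtain ⟨e₁, he1, he1p, hfe1, hfe0, hgen⟩ :=
    ma_estruct f hf (fun x y _ hy => Q1 x y hy) hcard e₀ he₀ hfe
  have ho1 : orderOf e₁ = p := orderOf_eq_prime he1p he1
  have hpowp : ∀ (x : M) (k : ℕ), x ^ p = 1 → (x ^ k) ^ p = 1 := by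
    intro x k hx
    rw [pow_right_comm, hx, one_pow]
  have hpow_dvd : ∀ (x : M) (k : ℕ), x ^ p = 1 → p ∣ k → x ^ k = 1 := by
    intro x k hx hk
    obtain ⟨c, rfl⟩ := hk
    rw [pow_mul, hx, one_pow]
  have hfgen : ∀ i j : ℕ, f (e₁ ^ i * e₀ ^ j) = e₁ ^ i * e₀ ^ j * e₁ ^ j := by
    intro i j
    rw [map_mul, map_pow, map_pow, hfe1, hfe0,
      (show Commute e₀ e₁ from Q1 e₀ e₁ he1p).mul_pow, mul_assoc]
  have psiE : ∀ e : M, e ^ p = 1 → ∃ t : ℕ, f e = e * e₁ ^ t := by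
    intro e he
    obtain ⟨i, j, rfl⟩ := hgen e he
    exact ⟨j, hfgen i j⟩
  have fixE : ∀ e : M, e ^ p = 1 → f e = e → ∃ i : ℕ, e = e₁ ^ i := by
    intro e he hfix
    obtain ⟨i, j, rfl⟩ := hgen e he
    rw [hfgen] at hfix
    have h2 : e₁ ^ j = 1 := mul_left_cancel (hfix.trans (mul_one _).symm)
    have h3 : p ∣ j := by rw [← ho1]; exact orderOf_dvd_of_pow_eq_one h2
    exact ⟨i, by rw [hpow_dvd e₀ j he₀ h3, mul_one]⟩
  obtain ⟨x, hx⟩ := Q3 e₀ he₀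
  obtain ⟨y, hy⟩ : ∃ y : M, y = x⁻¹ * f x := ⟨_, rfl⟩
  have hfx : f x = x * y := by rw [hy]; group
  have hyp : y ^ p = e₁ := by
    rw [hy, Q2, inv_pow, ← map_pow, hx, hfe0]; group
  obtain ⟨w, hw⟩ : ∃ w : M, w = y⁻¹ * f y := ⟨_, rfl⟩
  have hfy : f y = y * w := by rw [hw]; group
  have hwp : w ^ p = 1 := by
    rw [hw, Q2, inv_pow, ← map_pow, hyp, hfe1]; group
  obtain ⟨t, ht⟩ := psiE w hwp
  obtain ⟨v, hv⟩ : ∃ v : M, v = e₁ ^ t := ⟨_, rfl⟩
  rw [← hv] at ht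
  have hvp : v ^ p = 1 := by rw [hv]; exact hpowp _ _ he1p
  have hfv : f v = v := by rw [hv, map_pow, hfe1]
  have hwc : ∀ g : M, g * w = w * g := fun g => Q1 g w hwp
  have hvc : ∀ g : M, g * v = v * g := fun g => Q1 g v hvp
  have hit : ∀ k : ℕ, f^[k] x = x * y ^ k * w ^ (k.choose 2) * v ^ (k.choose 3) := by
    intro k
    induction k with
    | zero => simp
    | succ k ih =>
      have c2 : (k + 1).choose 2 = k + k.choose 2 := by
        rw [Nat.choose_succ_succ', Nat.choose_one_right]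
      have c3 : (k + 1).choose 3 = k.choose 2 + k.choose 3 := Nat.choose_succ_succ' k 2
      rw [Function.iterate_succ_apply', ih, map_mul, map_mul, map_mul, map_pow, map_pow, map_pow,
        hfx, hfy, ht, hfv, (show Commute y w from hwc y).mul_pow,
        (show Commute w v from hvc w).mul_pow, c2, c3, pow_succ', pow_add, pow_add]
      simp only [mul_assoc]
  have hxp := hit p
  rw [hf x] at hxp
  have hc2 : p ∣ p.choose 2 := hpp.dvd_choose_self (by norm_num) (by have := hpp.two_le; omega)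
  rw [hyp, hpow_dvd w _ hwp hc2, mul_one] at hxp
  have h7 : e₁ * v ^ (p.choose 3) = 1 := by
    have h8 : x * (e₁ * v ^ (p.choose 3)) = x * 1 := by
      rw [mul_one, ← mul_assoc]; exact hxp.symm
    exact mul_left_cancel h8
  have hv1 : v ≠ 1 := by
    intro h
    rw [h, one_pow, mul_one] at h7
    exact he1 h7
  have hov : orderOf v = p := orderOf_eq_prime hvp hv1
  have hp3 : p = 3 := by
    by_contra h3
    have hc3 : p ∣ p.choose 3 :=
      hpp.dvd_choose_self (by norm_num) (by have := hpp.two_le; omega)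
    rw [hpow_dvd v _ hvp hc3, mul_one] at h7
    exact he1 h7
  refine ⟨hp3, e₁, he1, he1p, hfe1, ?_⟩
  intro c hc
  have hcpp : (c ^ p) ^ p = 1 := by rw [← pow_mul]; exact Q0 c
  have hfcp : f (c ^ p) = c ^ p := by rw [map_pow, hc]
  obtain ⟨i, hi⟩ := fixE (c ^ p) hcpp hfcp
  obtain ⟨d, hd⟩ : ∃ d : M, d = (y ^ i)⁻¹ * c := ⟨_, rfl⟩
  have hcd : c = y ^ i * d := by rw [hd]; group
  have hdp : d ^ p = 1 := by
    rw [hd, Q2, inv_pow, hi, pow_right_comm, hyp]; group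
  obtain ⟨s, hs⟩ := psiE d hdp
  have hwd : w ^ i * d = d * w ^ i := ((show Commute w d from (hwc d).symm).pow_left i).eq
  have h1 : f c = y ^ i * d * (w ^ i * e₁ ^ s) := by
    rw [hcd, map_mul, map_pow, hfy, hs, (show Commute y w from hwc y).mul_pow]
    calc y ^ i * w ^ i * (d * e₁ ^ s) = y ^ i * (w ^ i * d) * e₁ ^ s := by group
      _ = y ^ i * (d * w ^ i) * e₁ ^ s := by rw [hwd]
      _ = y ^ i * d * (w ^ i * e₁ ^ s) := by group
  rw [hc] at h1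
  have h2 : w ^ i * e₁ ^ s = 1 := by
    have h3 : y ^ i * d * (w ^ i * e₁ ^ s) = y ^ i * d * 1 := by rw [← h1, mul_one, ← hcd]
    exact mul_left_cancel h3
  have h4 : w ^ i = (e₁ ^ s)⁻¹ := eq_inv_of_mul_eq_one_left h2
  have h5 : f (w ^ i) = w ^ i := by rw [h4, map_inv, map_pow, hfe1]
  rw [map_pow, ht, (show Commute w v from hvc w).mul_pow] at h5
  have h6 : v ^ i = 1 := mul_left_cancel (h5.trans (mul_one _).symm)
  have h8 : p ∣ i := by rw [← hov]; exact orderOf_dvd_of_pow_eq_one h6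
  rw [hpow_dvd e₁ i he1p h8] at hi
  exact fixE c hi hc

end estruct

end Cfsg.Agent.H15
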