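import Mathlib
import Cfsg.Agent.H15.Metacyclic5
import Cfsg.Agent.H15.MetaAut
import Cfsg.Agent.S0638
import Cfsg.Agent.H11.Meta2A

set_option autoImplicit false

namespace Cfsg.Agent.H15

open Cfsg
open scoped commutatorElement

section maK
variable {L : Type*} [Group L] [Finite L] {p : ℕ} [Fact p.Prime]

/-- `Ω₁` of a non-cyclic metacyclic `p`-group, `p` odd. -/
theorem ma_omega (hp : p ≠ 2) (hL : IsPGroup p L) (hmc : Cfsg.IsMetacyclic L)
    (hncyc : ¬ IsCyclic L) :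
    ∃ E : Subgroup L, E.Normal ∧ Nat.card E = p ^ 2 ∧ (∀ x : L, x ∈ E ↔ x ^ p = 1) ∧
      (∀ x y : L, x ∈ E → y ∈ E → x * y = y * x) := by
  obtain ⟨hel, hcard⟩ := Cfsg.Agent.S0638.result hp hL hmc hncyc
  have hmem : ∀ x : L, x ∈ Cfsg.omegaOne p (⊤ : Subgroup L) ↔ x ^ p = 1 := by
    intro x
    constructor
    · exact hel.2 x
    · intro h
      exact Subgroup.subset_closure ⟨Subgroup.mem_top _, h⟩
  refine ⟨Cfsg.omegaOne p (⊤ : Subgroup L), ?_, hcard, hmem, ?_⟩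
  · constructor
    intro n hn g
    rw [hmem] at hn ⊢
    rw [conj_pow, hn, mul_one, mul_inv_cancel]
  · intro x y hx hy
    have := hel.1.is_comm.comm ⟨x, hx⟩ ⟨y, hy⟩
    exact congrArg Subtype.val this

theorem ma_quot_not_cyclic (hL : IsPGroup p L)
    (hnc : ∀ C : Subgroup L, IsCyclic C → p ^ 2 ∣ C.index)
    (E : Subgroup L) [hEn : E.Normal] (hEcard : Nat.card E = p ^ 2)
    (hE : ∀ x : L, x ∈ E ↔ x ^ p = 1) : ¬ IsCyclic (L ⧸ E) := by
  have hpp : p.Prime := Fact.out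
  intro hcyc
  obtain ⟨q, hq⟩ := hcyc.exists_generator
  obtain ⟨g, rfl⟩ := QuotientGroup.mk_surjective q
  have hdec : ∀ l : L, ∃ (e : L) (i : ℤ), e ∈ E ∧ l = e * g ^ i := by
    intro l
    obtain ⟨i, hi⟩ := Subgroup.mem_zpowers_iff.mp (hq (QuotientGroup.mk l))
    have h1 : ((g ^ i : L) : L ⧸ E) = (l : L ⧸ E) := by rw [QuotientGroup.mk_zpow]; exact hi
    have h2 : (g ^ i)⁻¹ * l ∈ E := QuotientGroup.eq.mp h1
    refine ⟨l * (g ^ i)⁻¹, i, ?_, by group⟩
    have h3 := hEn.conj_mem _ h2 (g ^ i)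
    have h4 : g ^ i * ((g ^ i)⁻¹ * l) * (g ^ i)⁻¹ = l * (g ^ i)⁻¹ := by group
    rwa [h4] at h3
  obtain ⟨C, hC⟩ : ∃ C : Subgroup L, C = Subgroup.zpowers g := ⟨_, rfl⟩
  have hCcyc : IsCyclic C := by rw [hC]; infer_instance
  have hCi := hnc C hCcyc
  let φ : E → L ⧸ C := fun e => QuotientGroup.mk (e : L)
  have hφs : Function.Surjective φ := by
    intro q'
    obtain ⟨l, rfl⟩ := QuotientGroup.mk_surjective q'
    obtain ⟨e, i, he, rfl⟩ := hdec l
    refine ⟨⟨e, he⟩, ?_⟩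
    show ((e : L) : L ⧸ C) = ((e * g ^ i : L) : L ⧸ C)
    rw [QuotientGroup.eq, inv_mul_cancel_left, hC]
    exact Subgroup.zpow_mem_zpowers g i
  have hle : C.index ≤ p ^ 2 := by
    rw [← hEcard]
    exact Nat.card_le_card_of_surjective φ hφs
  have hidx : C.index = p ^ 2 :=
    le_antisymm hle (Nat.le_of_dvd (Nat.pos_of_ne_zero Subgroup.index_ne_zero_of_finite) hCi)
  have hbij : Function.Bijective φ := hφs.bijective_of_nat_card_le (by
    show Nat.card E ≤ C.index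
    rw [hEcard, hidx])
  by_cases hg1 : g = 1
  · have hall : ∀ l : L, l ∈ E := by
      intro l
      obtain ⟨e, i, he, rfl⟩ := hdec l
      rw [hg1, one_zpow, mul_one]; exact he
    have hLnt : ∃ x : L, x ≠ 1 := by
      by_contra hno
      push Not at hno
      have h1 : Nat.card E ≤ 1 := Finite.card_le_one_iff_subsingleton.mpr
        ⟨fun a b => Subtype.ext ((hno a).trans (hno b).symm)⟩
      rw [hEcard] at h1
      have := hpp.two_le
      nlinarith
    obtain ⟨x, hx1⟩ := hLnt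
    have h1 := hnc (Subgroup.zpowers x) (by infer_instance)
    have h2 := Subgroup.card_mul_index (Subgroup.zpowers x)
    have hLcard : Nat.card L = p ^ 2 := by
      rw [← hEcard]
      have : E = ⊤ := (Subgroup.eq_top_iff' E).mpr hall
      rw [this, Subgroup.card_top]
    rw [hLcard] at h2
    have h3 : 1 < Nat.card (Subgroup.zpowers x) := by
      rw [Nat.card_zpowers]
      have h5 : orderOf x ≠ 1 := fun h => hx1 (orderOf_eq_one_iff.mp h)
      have h6 := orderOf_pos x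
      omega
    have h4 : p ^ 2 ≤ (Subgroup.zpowers x).index :=
      Nat.le_of_dvd (Nat.pos_of_ne_zero Subgroup.index_ne_zero_of_finite) h1
    have h7 : 0 < p ^ 2 := pow_pos hpp.pos 2
    nlinarith
  · obtain ⟨j, hj⟩ := (IsPGroup.iff_orderOf.mp hL) g
    have hj1 : j ≠ 0 := by
      rintro rfl
      rw [pow_zero, orderOf_eq_one_iff] at hj
      exact hg1 hj
    obtain ⟨j', rfl⟩ := Nat.exists_eq_succ_of_ne_zero hj1
    have hz1 : g ^ (p ^ j') ≠ 1 := by
      apply pow_ne_one_of_lt_orderOf (pow_pos hpp.pos _).ne'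
      rw [hj]
      exact Nat.pow_lt_pow_right hpp.one_lt (Nat.lt_succ_self _)
    have hzE : g ^ (p ^ j') ∈ E := by
      rw [hE, ← pow_mul, ← pow_succ, ← hj, pow_orderOf_eq_one]
    have h5 : φ ⟨g ^ (p ^ j'), hzE⟩ = φ 1 := by
      show ((g ^ (p ^ j') : L) : L ⧸ C) = (((1 : E) : L) : L ⧸ C)
      rw [QuotientGroup.eq, OneMemClass.coe_one, mul_one, hC]
      exact inv_mem (Subgroup.npow_mem_zpowers g _)
    have h6 := hbij.1 h5
    exact hz1 (congrArg Subtype.val h6)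

theorem ma_K (hp : p ≠ 2) (hL : IsPGroup p L) (hmc : Cfsg.IsMetacyclic L)
    (hnc : ∀ C : Subgroup L, IsCyclic C → p ^ 2 ∣ C.index) :
    {x : L | x ^ p = 1}.ncard = p ^ 2 ∧
    ∃ K : Subgroup L, (∀ g : L, g ∈ K ↔ g ^ (p * p) = 1) ∧
      (∀ g e : K, e ^ p = 1 → g * e = e * g) ∧
      (∀ g h : K, (g * h) ^ p = g ^ p * h ^ p) ∧
      (∀ e : K, e ^ p = 1 → ∃ x : K, x ^ p = e) := by
  have hpp : p.Prime := Fact.out
  have hLnc : ¬ IsCyclic L := by
    intro h
    have h1 := hnc ⊤ inferInstance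
    rw [Subgroup.index_top] at h1
    have h2 := Nat.le_of_dvd one_pos h1
    have := hpp.two_le
    nlinarith
  obtain ⟨E, hEn, hEcard, hE, hEcomm⟩ := ma_omega hp hL hmc hLnc
  have hncard : {x : L | x ^ p = 1}.ncard = p ^ 2 := by
    have h1 : {x : L | x ^ p = 1} = (E : Set L) := by
      ext x
      exact (hE x).symm
    rw [h1, ← hEcard]
    rfl
  refine ⟨hncard, ?_⟩
  have hQnc : ¬ IsCyclic (L ⧸ E) := ma_quot_not_cyclic hL hnc E hEcard hE
  have hQp : IsPGroup p (L ⧸ E) := hL.to_quotient E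
  have hQm : Cfsg.IsMetacyclic (L ⧸ E) := Cfsg.Agent.H11.Meta2.metacyclic_quotient hmc E
  obtain ⟨E2, hE2n, hE2card, hE2, -⟩ := ma_omega hp hQp hQm hQnc
  obtain ⟨K, hKdef⟩ : ∃ K : Subgroup L, K = E2.comap (QuotientGroup.mk' E) := ⟨_, rfl⟩
  have hK : ∀ g : L, g ∈ K ↔ g ^ (p * p) = 1 := by
    intro g
    rw [hKdef, Subgroup.mem_comap, hE2, ← map_pow, QuotientGroup.mk'_apply,
      QuotientGroup.eq_one_iff, hE, ← pow_mul]
  have hKcard : Nat.card K = p ^ 2 * p ^ 2 := by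
    have h1 := QuotientGroup.card_preimage_mk E (E2 : Set (L ⧸ E))
    rw [hEcard] at h1
    have h2 : Nat.card (E2 : Set (L ⧸ E)) = p ^ 2 := hE2card
    rw [h2] at h1
    rw [hKdef]
    exact h1
  have hKp : IsPGroup p K := hL.to_subgroup K
  have hKm : Cfsg.IsMetacyclic K :=
    mc_metacyclic_of_injective K.subtype K.subtype_injective hmc
  obtain ⟨D⟩ := MC.exists_of_metacyclic hp hKp hKm
  have hQ0 : ∀ g : K, g ^ (p * p) = 1 := fun g => Subtype.ext (by
    rw [Subgroup.coe_pow, (hK g.1).mp g.2]; rfl)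
  have hm2 : D.m ≤ 2 := by
    have h1 : orderOf D.a ∣ p * p := orderOf_dvd_of_pow_eq_one (hQ0 D.a)
    rw [D.ha, ← sq] at h1
    exact (Nat.pow_dvd_pow_iff_le_right hpp.one_lt).mp h1
  have hk2 : D.k ≤ 2 := by
    have h1 : D.b ^ (p * p) ∈ Subgroup.zpowers D.a := by rw [hQ0]; exact one_mem _
    have h2 := (D.hk (p * p)).mp h1
    rw [← sq] at h2
    exact (Nat.pow_dvd_pow_iff_le_right hpp.one_lt).mp h2
  have hmk : D.m + D.k = 4 := by
    have h1 := D.card_G
    rw [hKcard, ← pow_add, ← pow_add] at h1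
    have := Nat.pow_right_injective hpp.two_le h1
    omega
  have hm2' : D.m = 2 := by omega
  have hk2' : D.k = 2 := by omega
  have hn1 : D.n ≤ 1 := by have := D.hσ1; unfold MC.n; omega
  have hcomm_central : ∀ x y g : K, g * ⁅x, y⁆ = ⁅x, y⁆ * g := by
    by_cases hn0 : D.n = 0
    · have hab := D.comm_all_iff.mpr hn0
      intro x y g
      exact hab _ _
    · have hn : 1 ≤ D.n := Nat.one_le_iff_ne_zero.mpr hn0
      have hc := D.commutator_eq_zpowers hn
      intro x y g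
      have h1 : ⁅x, y⁆ ∈ commutator K :=
        Subgroup.commutator_mem_commutator (Subgroup.mem_top x) (Subgroup.mem_top y)
      rw [hc] at h1
      have h2 : D.a ^ (p ^ D.σ) ∈ Subgroup.center K := by
        rw [D.center_eq]
        exact ⟨p ^ D.σ, 0, by simp, pow_dvd_pow p (le_trans hn1 D.hσ1), dvd_zero _⟩
      have h3 : ⁅x, y⁆ ∈ Subgroup.center K := (Subgroup.zpowers_le.mpr h2) h1
      exact Subgroup.mem_center_iff.mp h3 g
  have hcomm_pow : ∀ x y : K, ⁅x, y⁆ ^ p = 1 := by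
    intro x y
    have h1 : ⁅x, y⁆ ∈ commutator K :=
      Subgroup.commutator_mem_commutator (Subgroup.mem_top x) (Subgroup.mem_top y)
    have h2 : (⟨⁅x, y⁆, h1⟩ : commutator K) ^ (Nat.card (commutator K)) = 1 := pow_card_eq_one'
    rw [D.card_commutator] at h2
    have h3 : ⁅x, y⁆ ^ (p ^ D.n) = 1 := congrArg Subtype.val h2
    have h4 : p ^ D.n ∣ p := by
      calc p ^ D.n ∣ p ^ 1 := pow_dvd_pow p hn1
        _ = p := pow_one p
    obtain ⟨c, hc⟩ := h4
    rw [hc, pow_mul, h3, one_pow]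
  have hQ2 : ∀ g h : K, (g * h) ^ p = g ^ p * h ^ p := by
    intro g h
    rw [c2_mul_pow hcomm_central g h p]
    have hc2 : p ∣ p.choose 2 :=
      hpp.dvd_choose_self (by norm_num) (by have := hpp.two_le; omega)
    obtain ⟨c, hc⟩ := hc2
    rw [hc, pow_mul, hcomm_pow, one_pow, mul_one]
  have hb2 : D.b ^ (p * p) = 1 := hQ0 D.b
  have hEK : ∀ e : K, e ^ p = 1 → ∃ i j : ℕ, e = D.a ^ (p * i) * D.b ^ (p * j) := by
    intro e he
    obtain ⟨i, j, rfl⟩ := D.hgen e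
    rw [hQ2, ← pow_mul, ← pow_mul] at he
    have h1 : D.b ^ (j * p) ∈ Subgroup.zpowers D.a := by
      have h0 : D.b ^ (j * p) = (D.a ^ (i * p))⁻¹ := eq_inv_of_mul_eq_one_right he
      rw [h0]
      exact inv_mem (Subgroup.npow_mem_zpowers _ _)
    have h2 := (D.hk (j * p)).mp h1
    rw [hk2', sq] at h2
    have h3 : p ∣ j := Nat.dvd_of_mul_dvd_mul_right hpp.pos h2
    obtain ⟨j', rfl⟩ := h3
    have h4 : D.b ^ (p * j' * p) = 1 := by
      rw [mul_right_comm, pow_mul, hb2, one_pow]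
    rw [h4, mul_one, D.a_pow_eq_one_iff, hm2', sq] at he
    have h5 : p ∣ i := Nat.dvd_of_mul_dvd_mul_right hpp.pos he
    obtain ⟨i', rfl⟩ := h5
    exact ⟨i', j', rfl⟩
  have hQ1 : ∀ g e : K, e ^ p = 1 → g * e = e * g := by
    intro g e he
    by_cases hn0 : D.n = 0
    · exact D.comm_all_iff.mpr hn0 g e
    · have hn : D.n = 1 := by omega
      obtain ⟨i, j, rfl⟩ := hEK e he
      have h1 : D.a ^ (p * i) * D.b ^ (p * j) ∈ Subgroup.center K := by
        rw [D.center_eq, hn]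
        exact ⟨p * i, p * j, rfl, by rw [pow_one]; exact dvd_mul_right _ _,
          by rw [pow_one]; exact dvd_mul_right _ _⟩
      exact Subgroup.mem_center_iff.mp h1 g
  have hQ3 : ∀ e : K, e ^ p = 1 → ∃ x : K, x ^ p = e := by
    intro e he
    obtain ⟨i, j, rfl⟩ := hEK e he
    refine ⟨D.a ^ i * D.b ^ j, ?_⟩
    rw [hQ2, ← pow_mul, ← pow_mul, mul_comm i p, mul_comm j p]
  exact ⟨K, hK, hQ1, hQ2, hQ3⟩

end maK

end Cfsg.Agent.H15
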