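import Mathlib
import Cfsg.Agent.H15.MetaAut2
import Cfsg.Agent.H3.MaxClass2
import Cfsg.Agent.S0065

set_option autoImplicit false

namespace Cfsg.Agent.H15

open Cfsg
open scoped commutatorElement

universe u

/-- the semidirect product of `L` with the group generated by an automorphism -/
abbrev MaG {L : Type u} [Group L] (a : MulAut L) : Type u :=
  SemidirectProduct L ↥(Subgroup.zpowers a) (Subgroup.zpowers a).subtype

theorem ma_zpowers_fix {L : Type u} [Group L] (a : MulAut L) (x : L) (hx : a x = x) :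
    ∀ b ∈ Subgroup.zpowers a, b x = x := by
  intro b hb
  have h1 : Subgroup.zpowers a ≤ MulAction.stabilizer (MulAut L) x := by
    rw [Subgroup.zpowers_le, MulAction.mem_stabilizer_iff]
    exact hx
  exact MulAction.mem_stabilizer_iff.mp (h1 hb)

theorem ma_hnc {L : Type u} [Group L] [Finite L] {p : ℕ} [Fact p.Prime] (hL : IsPGroup p L)
    (hnc : ∀ C : Subgroup L, IsCyclic C → C.index ≠ p)
    (a : MulAut L) (ha : orderOf a = p) :
    ∀ C : Subgroup L, IsCyclic C → p ^ 2 ∣ C.index := by
  have hpp : p.Prime := Fact.out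
  have hLnc : ¬ IsCyclic L := by
    intro hcyc
    obtain ⟨g, hg⟩ := hcyc.exists_generator
    by_cases hg1 : g = 1
    · have htriv : ∀ x : L, x = 1 := by
        intro x
        obtain ⟨i, hi⟩ := Subgroup.mem_zpowers_iff.mp (hg x)
        rw [← hi, hg1, one_zpow]
      have ha1 : a = 1 := by
        ext x
        rw [htriv x, map_one, map_one]
      rw [ha1, orderOf_one] at ha
      exact hpp.one_lt.ne ha
    · have hord : orderOf g = Nat.card L := orderOf_eq_card_of_forall_mem_zpowers hg
      obtain ⟨j, hj⟩ := (IsPGroup.iff_orderOf.mp hL) g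
      have hj1 : j ≠ 0 := by
        rintro rfl
        rw [pow_zero, orderOf_eq_one_iff] at hj
        exact hg1 hj
      obtain ⟨j', rfl⟩ := Nat.exists_eq_succ_of_ne_zero hj1
      have h1 := Subgroup.card_mul_index (Subgroup.zpowers (g ^ p))
      rw [Nat.card_zpowers, ← hord, orderOf_pow_of_dvd hpp.pos.ne'
        (by rw [hj]; exact dvd_pow_self p (Nat.succ_ne_zero _)), hj] at h1
      have h2 : p ^ (j' + 1) / p = p ^ j' := by
        rw [pow_succ]; exact Nat.mul_div_cancel _ hpp.pos
      rw [h2, pow_succ] at h1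
      have h3 : (Subgroup.zpowers (g ^ p)).index = p :=
        Nat.eq_of_mul_eq_mul_left (pow_pos hpp.pos j') h1
      exact hnc _ inferInstance h3
  intro C hC
  obtain ⟨e, he⟩ : ∃ e, C.index = p ^ e := by
    obtain ⟨n, hn⟩ := IsPGroup.iff_card.mp hL
    have h1 := Subgroup.index_dvd_card C
    rw [hn] at h1
    obtain ⟨e, -, he⟩ := (Nat.dvd_prime_pow hpp).mp h1
    exact ⟨e, he⟩
  rw [he]
  apply pow_dvd_pow
  by_contra hlt
  push Not at hlt
  interval_cases e
  · rw [pow_zero, Subgroup.index_eq_one] at he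
    apply hLnc
    rw [he] at hC
    exact (MulEquiv.isCyclic Subgroup.topEquiv).mp hC
  · exact hnc C hC (by rw [he, pow_one])

theorem ma_inl_normal {L : Type u} [Group L] (a : MulAut L) (V : Subgroup L) (hVn : V.Normal)
    (hVa : ∀ φ : MulAut L, ∀ v ∈ V, φ v ∈ V) :
    (V.map (SemidirectProduct.inl : L →* MaG a)).Normal := by
  constructor
  rintro _ ⟨v, hv, rfl⟩ g
  refine ⟨g.left * (g.right : MulAut L) v * g.left⁻¹, hVn.conj_mem _ (hVa _ v hv) _, ?_⟩
  ext
  · simp [SemidirectProduct.mul_left, SemidirectProduct.inv_left]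
  · simp

theorem ma_sdp_class {L : Type u} [Group L] [Finite L] {p : ℕ} [Fact p.Prime]
    (a : MulAut L) (ha : orderOf a = p) (m : ℕ) (hm : Nat.card L = p ^ m)
    (z : L) (hz1 : z ≠ 1) (hzp : z ^ p = 1) (haz : a z = z)
    (hfix : ∀ c : L, a c = c → c ∈ Subgroup.zpowers z) :
    Group.nilpotencyClass (MaG a) = m := by
  have hpp : p.Prime := Fact.out
  have hfixz : ∀ b ∈ Subgroup.zpowers a, ∀ c ∈ Subgroup.zpowers z, b c = c := by
    intro b hb c hc
    apply ma_zpowers_fix a c _ b hb
    obtain ⟨i, rfl⟩ := Subgroup.mem_zpowers_iff.mp hc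
    rw [map_zpow, haz]
  have : Finite (MaG a) := Finite.of_equiv _ SemidirectProduct.equivProd.symm
  let A : Subgroup (MaG a) :=
    { carrier := {g | g.left ∈ Subgroup.zpowers z}
      one_mem' := by
        show (1 : L) ∈ Subgroup.zpowers z
        exact one_mem _
      mul_mem' := by
        intro g h hg hh
        show g.left * (g.right : MulAut L) h.left ∈ Subgroup.zpowers z
        rw [hfixz _ g.right.2 _ hh]
        exact mul_mem hg hh
      inv_mem' := by
        intro g hg
        show ((g.right⁻¹ : Subgroup.zpowers a) : MulAut L) g.left⁻¹ ∈ Subgroup.zpowers z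
        rw [hfixz _ (g.right⁻¹).2 _ (inv_mem hg)]
        exact inv_mem hg }
  have hGcard : Nat.card (MaG a) = p ^ (m + 1) := by
    rw [SemidirectProduct.card, hm, Nat.card_zpowers, ha, pow_succ]
  have hAcard : Nat.card A = p ^ 2 := by
    let e : A ≃ Subgroup.zpowers z × Subgroup.zpowers a :=
      { toFun := fun g => (⟨g.1.left, g.2⟩, g.1.right)
        invFun := fun x => ⟨⟨x.1.1, x.2⟩, x.1.2⟩
        left_inv := fun g => rfl
        right_inv := fun x => rfl }
    rw [Nat.card_congr e, Nat.card_prod, Nat.card_zpowers, Nat.card_zpowers, ha,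
      orderOf_eq_prime hzp hz1, sq]
  have hCA : Subgroup.centralizer (A : Set (MaG a)) = A := by
    apply le_antisymm
    · intro g hg
      have ht : (SemidirectProduct.inr ⟨a, Subgroup.mem_zpowers a⟩ : MaG a) ∈ A := by
        show (1 : L) ∈ Subgroup.zpowers z
        exact one_mem _
      have h1 := Subgroup.mem_centralizer_iff.mp hg _ ht
      have h2 := congrArg SemidirectProduct.left h1
      simp only [SemidirectProduct.mul_left, SemidirectProduct.left_inr,
        SemidirectProduct.right_inr, one_mul, map_one, mul_one] at h2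
      exact hfix _ h2
    · intro g hg
      rw [Subgroup.mem_centralizer_iff]
      intro h hh
      have hg' : g.left ∈ Subgroup.zpowers z := hg
      have hh' : h.left ∈ Subgroup.zpowers z := hh
      apply SemidirectProduct.ext
      · show h.left * (h.right : MulAut L) g.left = g.left * (g.right : MulAut L) h.left
        rw [hfixz _ h.right.2 _ hg', hfixz _ g.right.2 _ hh']
        obtain ⟨i, hi⟩ := Subgroup.mem_zpowers_iff.mp hg'
        obtain ⟨j, hj⟩ := Subgroup.mem_zpowers_iff.mp hh'
        rw [← hi, ← hj, ← zpow_add, ← zpow_add, add_comm]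
      · show h.right * g.right = g.right * h.right
        apply Subtype.ext
        show (h.right : MulAut L) * g.right = g.right * h.right
        obtain ⟨i, hi⟩ := Subgroup.mem_zpowers_iff.mp g.right.2
        obtain ⟨j, hj⟩ := Subgroup.mem_zpowers_iff.mp h.right.2
        rw [← hi, ← hj, ← zpow_add, ← zpow_add, add_comm]
  have h := Cfsg.Agent.H3.suzuki_aux p (m + 1) (MaG a) hGcard A hAcard hCA
  simpa using h

theorem ma_forward {L : Type u} [Group L] [Finite L] {p : ℕ} [Fact p.Prime] (hp : p ≠ 2)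
    (hL : IsPGroup p L) (hmc : Cfsg.IsMetacyclic L)
    (hnc : ∀ C : Subgroup L, IsCyclic C → p ^ 2 ∣ C.index)
    (a : MulAut L) (ha : orderOf a = p) (m : ℕ) (hm : Nat.card L = p ^ m)
    (x₀ : L) (hx₀ : x₀ ^ p = 1) (hax : a x₀ ≠ x₀) :
    p = 3 ∧ Group.nilpotencyClass (MaG a) = m := by
  have hpp : p.Prime := Fact.out
  obtain ⟨hncard, K, hK, hQ1, hQ2, hQ3⟩ := ma_K hp hL hmc hnc
  have hKa : ∀ g : L, g ∈ K → a g ∈ K := by
    intro g hg
    rw [hK] at hg ⊢
    rw [← map_pow, hg, map_one]
  let fK : K →* K :=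
    { toFun := fun g => ⟨a g.1, hKa g.1 g.2⟩
      map_one' := Subtype.ext (map_one a)
      map_mul' := fun g h => Subtype.ext (map_mul a g.1 h.1) }
  have hfKit : ∀ (k : ℕ) (g : K), ((fK^[k] g : K) : L) = (a ^ k) g.1 := by
    intro k
    induction k with
    | zero => intro g; simp
    | succ k ih =>
      intro g
      rw [Function.iterate_succ_apply', pow_succ', MulAut.mul_apply, ← ih]
      rfl
  have hfK : ∀ g : K, fK^[p] g = g := by
    intro g
    apply Subtype.ext
    rw [hfKit, ← ha, pow_orderOf_eq_one]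
    rfl
  have hQ0 : ∀ g : K, g ^ (p * p) = 1 := fun g => Subtype.ext (by
    rw [Subgroup.coe_pow, (hK g.1).mp g.2]; rfl)
  have hncardK : {x : K | x ^ p = 1}.ncard = p ^ 2 := by
    rw [← hncard]
    have h1 : {x : L | x ^ p = 1} = Subtype.val '' {x : K | x ^ p = 1} := by
      ext x
      constructor
      · intro hx
        have hxK : x ∈ K := by rw [hK, pow_mul, (show x ^ p = 1 from hx), one_pow]
        exact ⟨⟨x, hxK⟩, Subtype.ext hx, rfl⟩
      · rintro ⟨y, hy, rfl⟩
        exact congrArg Subtype.val hy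
    rw [h1, Set.ncard_image_of_injective _ Subtype.val_injective]
  have hx₀K : x₀ ∈ K := by rw [hK, pow_mul, hx₀, one_pow]
  obtain ⟨hp3, e₁, he1, he1p, hfe1, hfix⟩ := ma_core hp fK hfK hQ0 hQ1 hQ2 hQ3 hncardK
    ⟨x₀, hx₀K⟩ (Subtype.ext hx₀) (fun h => hax (congrArg Subtype.val h))
  refine ⟨hp3, ?_⟩
  obtain ⟨z, hz⟩ : ∃ z : L, z = (e₁ : L) := ⟨_, rfl⟩
  have hz1 : z ≠ 1 := by rw [hz]; exact fun h => he1 (Subtype.ext h)
  have hzp : z ^ p = 1 := by rw [hz]; exact congrArg Subtype.val he1p
  have haz : a z = z := by rw [hz]; exact congrArg Subtype.val hfe1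
  have hfixL : ∀ c : L, a c = c → c ∈ Subgroup.zpowers z := by
    intro c hc
    have hcp : c ^ p = 1 := by
      by_contra hne
      obtain ⟨j, hj⟩ := (IsPGroup.iff_orderOf.mp hL) c
      have hj2 : 2 ≤ j := by
        by_contra hlt
        push Not at hlt
        apply hne
        have h0 : orderOf c ∣ p := by
          rw [hj]
          exact (pow_dvd_pow p (Nat.lt_succ_iff.mp hlt)).trans (by rw [pow_one])
        exact orderOf_dvd_iff_pow_eq_one.mp h0
      obtain ⟨j', rfl⟩ := Nat.exists_eq_add_of_le hj2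
      have hc'K : c ^ (p ^ j') ∈ K := by
        rw [hK, ← pow_mul, ← sq, ← pow_add, add_comm, ← hj, pow_orderOf_eq_one]
      have hc'fix : fK ⟨c ^ (p ^ j'), hc'K⟩ = ⟨c ^ (p ^ j'), hc'K⟩ := Subtype.ext (by
        show a (c ^ (p ^ j')) = c ^ (p ^ j')
        rw [map_pow, hc])
      obtain ⟨i, hi⟩ := hfix _ hc'fix
      have h1 : (c ^ (p ^ j')) ^ p = 1 := by
        have h2 : (⟨c ^ (p ^ j'), hc'K⟩ : K) ^ p = 1 := by
          rw [hi, pow_right_comm, he1p, one_pow]
        exact congrArg Subtype.val h2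
      rw [← pow_mul, ← pow_succ] at h1
      have h3 := orderOf_dvd_of_pow_eq_one h1
      rw [hj] at h3
      have := (Nat.pow_dvd_pow_iff_le_right hpp.one_lt).mp h3
      omega
    have hcK : c ∈ K := by rw [hK, pow_mul, hcp, one_pow]
    obtain ⟨i, hi⟩ := hfix ⟨c, hcK⟩ (Subtype.ext hc)
    have h4 : c = z ^ i := by rw [hz]; exact congrArg Subtype.val hi
    rw [h4]
    exact Subgroup.npow_mem_zpowers z i
  exact ma_sdp_class a ha m hm z hz1 hzp haz hfixL

theorem ma_Z2 {G : Type u} [Group G] [Finite G] {p : ℕ} [Fact p.Prime] (n : ℕ)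
    (hG : Nat.card G = p ^ n) (hn : 4 ≤ n) (hc : Group.nilpotencyClass G = n - 1) :
    Nat.card (Subgroup.center G) = p ∧
    ∃ Z2 : Subgroup G, Nat.card Z2 = p ^ 2 ∧
      ∀ H : Subgroup G, H.Normal → p ^ 2 ≤ Nat.card H → Z2 ≤ H := by
  have hpp : p.Prime := Fact.out
  have hGp : IsPGroup p G := IsPGroup.of_card hG
  have : Group.IsNilpotent G := hGp.isNilpotent
  have hZ := Cfsg.Agent.H3.card_center_of_maxclass p n G hG (by omega) hc
  obtain ⟨hQcard, hQc⟩ := Cfsg.Agent.H3.maxclass_quotient p n G hG (by omega) hc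
  have hQp : IsPGroup p (G ⧸ Subgroup.center G) := IsPGroup.of_card hQcard
  have : Group.IsNilpotent (G ⧸ Subgroup.center G) := hQp.isNilpotent
  have hZQ := Cfsg.Agent.H3.card_center_of_maxclass p (n - 1) (G ⧸ Subgroup.center G) hQcard
    (by omega) hQc
  have key : ∀ (X : Type u) [Group X] [Finite X] [Group.IsNilpotent X],
      Nat.card (Subgroup.center X) = p →
      ∀ H : Subgroup X, H.Normal → H ≠ ⊥ → Subgroup.center X ≤ H := by
    intro X _ _ _ hX H hHn hH
    have h1 := Cfsg.Agent.S0065.result H hH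
    have h2 : Nat.card (H ⊓ Subgroup.center X : Subgroup X) ∣ p := by
      rw [← hX]; exact Subgroup.card_dvd_of_le inf_le_right
    have h3 : Nat.card (H ⊓ Subgroup.center X : Subgroup X) ≠ 1 := by
      rw [Ne, Subgroup.card_eq_one]
      exact h1
    have h4 : Nat.card (H ⊓ Subgroup.center X : Subgroup X) = p := by
      rcases (Nat.dvd_prime hpp).mp h2 with h | h
      · exact absurd h h3
      · exact h
    have h5 : H ⊓ Subgroup.center X = Subgroup.center X :=
      Subgroup.eq_of_le_of_card_ge inf_le_right (by rw [h4, hX])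
    rw [← h5]; exact inf_le_left
  refine ⟨hZ, (Subgroup.center (G ⧸ Subgroup.center G)).comap
    (QuotientGroup.mk' (Subgroup.center G)), ?_, ?_⟩
  · have h1 := QuotientGroup.card_preimage_mk (Subgroup.center G)
      ((Subgroup.center (G ⧸ Subgroup.center G)) : Set (G ⧸ Subgroup.center G))
    rw [hZ] at h1
    have h2 : Nat.card ((Subgroup.center (G ⧸ Subgroup.center G)) :
        Set (G ⧸ Subgroup.center G)) = p := hZQ
    rw [h2, ← sq] at h1
    exact h1
  · intro H hHn hHcard
    have hHbot : H ≠ ⊥ := by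
      rintro rfl
      rw [Subgroup.card_bot] at hHcard
      have := hpp.two_le
      nlinarith
    have hZH : Subgroup.center G ≤ H := key G hZ H hHn hHbot
    have hmapn : (H.map (QuotientGroup.mk' (Subgroup.center G))).Normal :=
      hHn.map _ (QuotientGroup.mk'_surjective _)
    have hmapbot : H.map (QuotientGroup.mk' (Subgroup.center G)) ≠ ⊥ := by
      intro h
      have h1 : H ≤ Subgroup.center G := by
        have h0 := (Subgroup.map_eq_bot_iff _).mp h
        rwa [QuotientGroup.ker_mk'] at h0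
      have h2 := Subgroup.card_le_of_le h1
      rw [hZ] at h2
      have := hpp.two_le
      nlinarith
    have h3 := key (G ⧸ Subgroup.center G) hZQ _ hmapn hmapbot
    have h4 := Subgroup.comap_mono (f := QuotientGroup.mk' (Subgroup.center G)) h3
    rw [Subgroup.comap_map_eq, QuotientGroup.ker_mk', sup_eq_left.mpr hZH] at h4
    exact h4

theorem ma_backward {L : Type u} [Group L] [Finite L] {p : ℕ} [Fact p.Prime] (hp : p ≠ 2)
    (hL : IsPGroup p L) (hmc : Cfsg.IsMetacyclic L)
    (hnc : ∀ C : Subgroup L, IsCyclic C → p ^ 2 ∣ C.index)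
    (a : MulAut L) (ha : orderOf a = p) (m : ℕ) (hm : Nat.card L = p ^ m)
    (hclass : Group.nilpotencyClass (MaG a) = m) :
    ∃ x : L, orderOf x = p ∧ a x ≠ x := by
  have hpp : p.Prime := Fact.out
  by_contra hcon
  push Not at hcon
  have hfixE : ∀ x : L, x ^ p = 1 → a x = x := by
    intro x hx
    by_cases hx1 : x = 1
    · rw [hx1, map_one]
    · exact hcon x (orderOf_eq_prime hx hx1)
  have hLnc : ¬ IsCyclic L := by
    intro h
    have h1 := hnc ⊤ inferInstance
    rw [Subgroup.index_top] at h1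
    have h2 := Nat.le_of_dvd one_pos h1
    have := hpp.two_le
    nlinarith
  obtain ⟨E, hEn, hEcard, hE, hEcomm⟩ := ma_omega hp hL hmc hLnc
  obtain ⟨D⟩ := MC.exists_of_metacyclic hp hL hmc
  have hk2 : 2 ≤ D.k := by
    have h1 := hnc (Subgroup.zpowers D.a) inferInstance
    have h2 := Subgroup.card_mul_index (Subgroup.zpowers D.a)
    rw [Nat.card_zpowers, D.ha, D.card_G] at h2
    have h3 : (Subgroup.zpowers D.a).index = p ^ D.k :=
      Nat.eq_of_mul_eq_mul_left (pow_pos hpp.pos _) h2
    rw [h3] at h1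
    exact (Nat.pow_dvd_pow_iff_le_right hpp.one_lt).mp h1
  have hm2 : 2 ≤ D.m := by
    have h1 := hnc (Subgroup.zpowers D.b) inferInstance
    have h2 := Subgroup.card_mul_index (Subgroup.zpowers D.b)
    rw [Nat.card_zpowers, D.card_G] at h2
    have h3 : p ^ D.k ∣ orderOf D.b :=
      (D.hk _).mp (by rw [pow_orderOf_eq_one]; exact one_mem _)
    have h4 : p ^ D.k * p ^ 2 ∣ p ^ D.m * p ^ D.k := by
      rw [← h2]; exact Nat.mul_dvd_mul h3 h1
    rw [← pow_add, ← pow_add] at h4
    have := (Nat.pow_dvd_pow_iff_le_right hpp.one_lt).mp h4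
    omega
  have hm4 : 4 ≤ m := by
    have h1 := D.card_G
    rw [hm, ← pow_add] at h1
    have := Nat.pow_right_injective hpp.two_le h1
    omega
  have : Finite (MaG a) := Finite.of_equiv _ SemidirectProduct.equivProd.symm
  have hGcard : Nat.card (MaG a) = p ^ (m + 1) := by
    rw [SemidirectProduct.card, hm, Nat.card_zpowers, ha, pow_succ]
  obtain ⟨hZ, Z2, hZ2card, hZ2⟩ := ma_Z2 (m + 1) hGcard (by omega) (by simpa using hclass)
  have hEa : ∀ φ : MulAut L, ∀ v ∈ E, φ v ∈ E := by
    intro φ v hv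
    rw [hE] at hv ⊢
    rw [← map_pow, hv, map_one]
  have hEG : Z2 = E.map (SemidirectProduct.inl : L →* MaG a) := by
    have h1 := hZ2 (E.map SemidirectProduct.inl) (ma_inl_normal a E hEn hEa)
      (by rw [Subgroup.card_map_of_injective SemidirectProduct.inl_injective, hEcard])
    exact Subgroup.eq_of_le_of_card_ge h1
      (by rw [Subgroup.card_map_of_injective SemidirectProduct.inl_injective, hEcard, hZ2card])
  have hEle : ∀ V : Subgroup L, V.Characteristic → p ^ 2 ≤ Nat.card V → E ≤ V := by
    intro V hV hVcard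
    have hVn : V.Normal := inferInstance
    have hVa : ∀ φ : MulAut L, ∀ v ∈ V, φ v ∈ V := fun φ v hv =>
      (Subgroup.characteristic_iff_map_le.mp hV φ) (Subgroup.mem_map_of_mem _ hv)
    have h1 := hZ2 (V.map SemidirectProduct.inl) (ma_inl_normal a V hVn hVa)
      (by rw [Subgroup.card_map_of_injective SemidirectProduct.inl_injective]; exact hVcard)
    rw [hEG] at h1
    exact (Subgroup.map_le_map_iff_of_injective SemidirectProduct.inl_injective).mp h1
  have hn1 : D.n ≤ 1 := by
    by_contra hlt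
    push Not at hlt
    have h1 : E ≤ commutator L := hEle _ inferInstance (by
      rw [D.card_commutator]; exact Nat.pow_le_pow_right hpp.pos hlt)
    rw [D.commutator_eq_zpowers (by omega)] at h1
    have hEc : IsCyclic E := Subgroup.isCyclic_of_le h1
    obtain ⟨g, hg⟩ := hEc.exists_generator
    have hord : orderOf g = Nat.card E := orderOf_eq_card_of_forall_mem_zpowers hg
    have hgp : g ^ p = 1 := Subtype.ext ((hE g.1).mp g.2)
    have h2 := orderOf_dvd_of_pow_eq_one hgp
    rw [hord, hEcard] at h2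
    have h3 := Nat.le_of_dvd hpp.pos h2
    have := hpp.two_le
    nlinarith
  have hEcen : E ≤ Subgroup.center L := hEle _ inferInstance (by
    rw [D.card_center]
    calc p ^ 2 = p ^ 1 * p ^ 1 := by rw [← pow_add]
      _ ≤ p ^ (D.m - D.n) * p ^ (D.k - D.n) :=
        Nat.mul_le_mul (Nat.pow_le_pow_right hpp.pos (by omega))
          (Nat.pow_le_pow_right hpp.pos (by omega)))
  have hcen : E.map (SemidirectProduct.inl : L →* MaG a) ≤ Subgroup.center (MaG a) := by
    rintro _ ⟨e, he, rfl⟩
    rw [Subgroup.mem_center_iff]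
    intro g
    apply SemidirectProduct.ext
    · show g.left * (g.right : MulAut L) e = e * g.left
      rw [ma_zpowers_fix a e (hfixE e ((hE e).mp he)) _ g.right.2]
      exact Subgroup.mem_center_iff.mp (hEcen he) g.left
    · show g.right * 1 = 1 * g.right
      rw [mul_one, one_mul]
  have h9 := Subgroup.card_le_of_le hcen
  rw [Subgroup.card_map_of_injective SemidirectProduct.inl_injective, hEcard, hZ] at h9
  have := hpp.two_le
  nlinarith

end Cfsg.Agent.H15
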