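import Mathlib
import Cfsg.Agent.H15.MetaAut3
import Cfsg.Agent.H15.Blk2

set_option autoImplicit false

namespace Cfsg.Agent.H15

open Cfsg
open scoped commutatorElement

universe u

/-- Fixed points of an automorphism of order `p` of a metacyclic `p`-group without cyclic
maximal subgroups that moves an element of order `p`. -/
theorem ma_fix {L : Type u} [Group L] [Finite L] {p : ℕ} [Fact p.Prime] (hp : p ≠ 2)
    (hL : IsPGroup p L) (hmc : Cfsg.IsMetacyclic L)
    (hnc : ∀ C : Subgroup L, IsCyclic C → p ^ 2 ∣ C.index)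
    (a : MulAut L) (ha : orderOf a = p)
    (x₀ : L) (hx₀ : x₀ ^ p = 1) (hax : a x₀ ≠ x₀) :
    p = 3 ∧ ∃ z : L, z ≠ 1 ∧ z ^ p = 1 ∧ a z = z ∧
      ∀ c : L, a c = c → c ∈ Subgroup.zpowers z := by
  have hpp : p.Prime := Fact.out
  obtain ⟨hncard, K, hK, hQ1, hQ2, hQ3⟩ := ma_K hp hL hmc hnc
  have hKa : ∀ g : L, g ∈ K → a g ∈ K := by
    intro g hg
    rw [hK] at hg ⊢
    rw [← map_pow, hg, map_one]
  let fK : K →* K :=
    { toFun := fun g => ⟨a g.1, hKa g.1 g.2⟩
      map_one' := Subtype.ext (map_one a)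
      map_mul' := fun g h => Subtype.ext (map_mul a g.1 h.1) }
  have hfKit : ∀ (k : ℕ) (g : K), ((fK^[k] g : K) : L) = (a ^ k) g.1 := by
    intro k
    induction k with
    | zero => intro g; simp
    | succ k ih =>
      intro g
      rw [Function.iterate_succ_apply', pow_succ', MulAut.mul_apply, ← ih]
      rfl
  have hfK : ∀ g : K, fK^[p] g = g := by
    intro g
    apply Subtype.ext
    rw [hfKit, ← ha, pow_orderOf_eq_one]
    rfl
  have hQ0 : ∀ g : K, g ^ (p * p) = 1 := fun g => Subtype.ext (by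
    rw [Subgroup.coe_pow, (hK g.1).mp g.2]; rfl)
  have hncardK : {x : K | x ^ p = 1}.ncard = p ^ 2 := by
    rw [← hncard]
    have h1 : {x : L | x ^ p = 1} = Subtype.val '' {x : K | x ^ p = 1} := by
      ext x
      constructor
      · intro hx
        have hxK : x ∈ K := by rw [hK, pow_mul, (show x ^ p = 1 from hx), one_pow]
        exact ⟨⟨x, hxK⟩, Subtype.ext hx, rfl⟩
      · rintro ⟨y, hy, rfl⟩
        exact congrArg Subtype.val hy
    rw [h1, Set.ncard_image_of_injective _ Subtype.val_injective]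
  have hx₀K : x₀ ∈ K := by rw [hK, pow_mul, hx₀, one_pow]
  obtain ⟨hp3, e₁, he1, he1p, hfe1, hfix⟩ := ma_core hp fK hfK hQ0 hQ1 hQ2 hQ3 hncardK
    ⟨x₀, hx₀K⟩ (Subtype.ext hx₀) (fun h => hax (congrArg Subtype.val h))
  refine ⟨hp3, ?_⟩
  obtain ⟨z, hz⟩ : ∃ z : L, z = (e₁ : L) := ⟨_, rfl⟩
  have hz1 : z ≠ 1 := by rw [hz]; exact fun h => he1 (Subtype.ext h)
  have hzp : z ^ p = 1 := by rw [hz]; exact congrArg Subtype.val he1p
  have haz : a z = z := by rw [hz]; exact congrArg Subtype.val hfe1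
  have hfixL : ∀ c : L, a c = c → c ∈ Subgroup.zpowers z := by
    intro c hc
    have hcp : c ^ p = 1 := by
      by_contra hne
      obtain ⟨j, hj⟩ := (IsPGroup.iff_orderOf.mp hL) c
      have hj2 : 2 ≤ j := by
        by_contra hlt
        push Not at hlt
        apply hne
        have h0 : orderOf c ∣ p := by
          rw [hj]
          exact (pow_dvd_pow p (Nat.lt_succ_iff.mp hlt)).trans (by rw [pow_one])
        exact orderOf_dvd_iff_pow_eq_one.mp h0
      obtain ⟨j', rfl⟩ := Nat.exists_eq_add_of_le hj2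
      have hc'K : c ^ (p ^ j') ∈ K := by
        rw [hK, ← pow_mul, ← sq, ← pow_add, add_comm, ← hj, pow_orderOf_eq_one]
      have hc'fix : fK ⟨c ^ (p ^ j'), hc'K⟩ = ⟨c ^ (p ^ j'), hc'K⟩ := Subtype.ext (by
        show a (c ^ (p ^ j')) = c ^ (p ^ j')
        rw [map_pow, hc])
      obtain ⟨i, hi⟩ := hfix _ hc'fix
      have h1 : (c ^ (p ^ j')) ^ p = 1 := by
        have h2 : (⟨c ^ (p ^ j'), hc'K⟩ : K) ^ p = 1 := by
          rw [hi, pow_right_comm, he1p, one_pow]
        exact congrArg Subtype.val h2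
      rw [← pow_mul, ← pow_succ] at h1
      have h3 := orderOf_dvd_of_pow_eq_one h1
      rw [hj] at h3
      have := (Nat.pow_dvd_pow_iff_le_right hpp.one_lt).mp h3
      omega
    have hcK : c ∈ K := by rw [hK, pow_mul, hcp, one_pow]
    obtain ⟨i, hi⟩ := hfix ⟨c, hcK⟩ (Subtype.ext hc)
    have h4 : c = z ^ i := by rw [hz]; exact congrArg Subtype.val hi
    rw [h4]
    exact Subgroup.npow_mem_zpowers z i
  exact ⟨z, hz1, hzp, haz, hfixL⟩

/-! ### Case (A-I) -/

theorem blk_AI {G : Type u} [Group G] [Finite G] {p : ℕ} [Fact p.Prime] (hp : p ≠ 2) (n : ℕ)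
    (hGc : Nat.card G = p ^ n)
    (R : Subgroup G) [hRn : R.Normal] (hRcard : Nat.card R = p ^ 2)
    (hRexp : ∀ a ∈ R, a ^ p = 1) (hRcomm : ∀ a ∈ R, ∀ b ∈ R, a * b = b * a)
    (hΩ : ∀ u ∈ Subgroup.centralizer (R : Set G), u ^ p = 1 → u ∈ R)
    (hidx : (Subgroup.centralizer (R : Set G)).index = p)
    (x : G) (hxC : x ∉ Subgroup.centralizer (R : Set G)) (hxp : x ^ p = 1)
    (hnc : ∀ C' : Subgroup (Subgroup.centralizer (R : Set G)), IsCyclic C' → C'.index ≠ p) :
    p = 3 ∧ Group.nilpotencyClass G = n - 1 := by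
  have hpp : p.Prime := Fact.out
  have hG : IsPGroup p G := IsPGroup.of_card hGc
  have hCn0 : (Subgroup.centralizer (R : Set G)).Normal := inferInstance
  have hRC0 : R ≤ Subgroup.centralizer (R : Set G) := by
    intro r hr
    exact Subgroup.mem_centralizer_iff.mpr (fun h hh => hRcomm h hh r hr)
  have hCR0 : ∀ c ∈ Subgroup.centralizer (R : Set G), ∀ r ∈ R, r * c = c * r := by
    intro c hc r hr
    exact Subgroup.mem_centralizer_iff.mp hc r hr
  have hxR : ∃ r ∈ R, x * r * x⁻¹ ≠ r := by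
    by_contra hcon
    push Not at hcon
    apply hxC
    rw [Subgroup.mem_centralizer_iff]
    intro r hr
    have h1 := hcon r hr
    calc r * x = x * r * x⁻¹ * x := by rw [h1]
      _ = x * r := by group
  generalize Subgroup.centralizer (R : Set G) = C at hΩ hidx hxC hnc hCn0 hRC0 hCR0
  have hCn : C.Normal := hCn0
  obtain ⟨r₀, hr₀R, hr₀⟩ := hxR
  obtain ⟨a, ha_def⟩ : ∃ a : MulAut C, a = MulAut.conjNormal x := ⟨_, rfl⟩
  have ha_apply : ∀ c : C, ((a c : C) : G) = x * c * x⁻¹ := by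
    intro c
    rw [ha_def]
    exact MulAut.conjNormal_apply x c
  have hap : a ^ p = 1 := by
    rw [ha_def, ← map_pow, hxp, map_one]
  have ha1 : a ≠ 1 := by
    intro h
    apply hr₀
    have h2 := ha_apply ⟨r₀, hRC0 hr₀R⟩
    rw [h] at h2
    exact h2.symm
  have ha : orderOf a = p := orderOf_eq_prime hap ha1
  have hCp : IsPGroup p C := hG.to_subgroup C
  have hcenC : ∀ u : C, u ^ p = 1 → u ∈ Subgroup.center C := by
    intro u hu
    have h1 : (u : G) ^ p = 1 := by simpa using congrArg Subtype.val hu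
    have h2 := hΩ _ u.2 h1
    rw [Subgroup.mem_center_iff]
    intro g
    exact Subtype.ext (hCR0 g.1 g.2 _ h2).symm
  have hΩC : ∀ u : C, u ^ p = 1 → u ∈ R.subgroupOf C := by
    intro u hu
    have h1 : (u : G) ^ p = 1 := by simpa using congrArg Subtype.val hu
    exact Subgroup.mem_subgroupOf.mpr (hΩ _ u.2 h1)
  have hΩcard : Nat.card (R.subgroupOf C) = p ^ 2 := by
    rw [Nat.card_congr (Subgroup.subgroupOfEquivOfLe hRC0).toEquiv, hRcard]
  have hmc : Cfsg.IsMetacyclic C := pc_metacyclic hp C hCp hcenC (R.subgroupOf C) hΩC hΩcard.le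
  have hnc' := ma_hnc hCp hnc a ha
  obtain ⟨hp3, z, hz1, hzp, haz, hfix⟩ := ma_fix hp hCp hmc hnc' a ha ⟨r₀, hRC0 hr₀R⟩
    (Subtype.ext (by simpa using hRexp r₀ hr₀R))
    (fun h => hr₀ (by
      have h2 := congrArg Subtype.val h
      rw [ha_apply] at h2
      exact h2))
  refine ⟨hp3, ?_⟩
  have hzx : x * (z : G) * x⁻¹ = z := by rw [← ha_apply, haz]
  have hzx' : (z : G) * x = x * z := by
    calc (z : G) * x = x * z * x⁻¹ * x := by rw [hzx]
      _ = x * z := by group
  have hfixG : ∀ c ∈ C, c * x = x * c → c ∈ Subgroup.zpowers (z : G) := by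
    intro c hc hcx
    have h1 : a ⟨c, hc⟩ = ⟨c, hc⟩ := Subtype.ext (by
      rw [ha_apply]
      show x * c * x⁻¹ = c
      rw [← hcx]; group)
    have h2 := hfix _ h1
    obtain ⟨k, hk⟩ := Subgroup.mem_zpowers_iff.mp h2
    rw [Subgroup.mem_zpowers_iff]
    exact ⟨k, by
      have := congrArg Subtype.val hk
      simpa using this⟩
  obtain ⟨A, hA⟩ : ∃ A : Subgroup G, A = Subgroup.centralizer ({x} : Set G) := ⟨_, rfl⟩
  have hxA : x ∈ A := by
    rw [hA]
    exact Subgroup.mem_centralizer_iff.mpr (fun h hh => by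
      rw [Set.mem_singleton_iff] at hh; rw [hh])
  have hAx : ∀ g ∈ A, x * g = g * x := by
    intro g hg
    rw [hA] at hg
    exact Subgroup.mem_centralizer_iff.mp hg x rfl
  have hAmem : ∀ g ∈ A, ∃ j : ℤ, ∃ i : ℕ, g = (z : G) ^ j * x ^ i := by
    intro g hg
    have hgx := hAx g hg
    obtain ⟨c, hcC, i, rfl⟩ := Cfsg.Agent.H3.exists_mul_pow_of_index_prime C hidx hxC g
    have hcx : c * x = x * c := by
      have h2 : x * c * x ^ i = c * x * x ^ i := by
        rw [mul_assoc, hgx, mul_assoc, mul_assoc, ← pow_succ, ← pow_succ']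
      exact (mul_right_cancel h2).symm
    obtain ⟨j, hj⟩ := Subgroup.mem_zpowers_iff.mp (hfixG c hcC hcx)
    exact ⟨j, i, by rw [hj]⟩
  have hAcomm : ∀ g ∈ A, ∀ h ∈ A, g * h = h * g := by
    intro g hg h hh
    obtain ⟨j, i, rfl⟩ := hAmem g hg
    obtain ⟨j', i', rfl⟩ := hAmem h hh
    have h1 : Commute (z : G) x := hzx'
    have c1 : Commute ((z : G) ^ j) ((z : G) ^ j') := (Commute.refl (z : G)).zpow_zpow j j'
    have c2 : Commute ((z : G) ^ j) (x ^ i') := (h1.zpow_left j).pow_right i'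
    have c3 : Commute (x ^ i) ((z : G) ^ j') := ((h1.zpow_left j').pow_right i).symm
    have c4 : Commute (x ^ i) (x ^ i') := (Commute.refl x).pow_pow i i'
    exact ((c1.mul_right c2).mul_left (c3.mul_right c4)).eq
  have hCA : Subgroup.centralizer (A : Set G) = A := by
    apply le_antisymm
    · intro g hg
      rw [hA, Subgroup.mem_centralizer_iff]
      intro h hh
      rw [Set.mem_singleton_iff] at hh
      rw [hh]
      exact Subgroup.mem_centralizer_iff.mp hg x hxA
    · intro g hg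
      rw [Subgroup.mem_centralizer_iff]
      intro h hh
      exact hAcomm h hh g hg
  have hinf : C ⊓ A = Subgroup.zpowers (z : G) := by
    apply le_antisymm
    · rintro g ⟨hgC, hgA⟩
      exact hfixG g hgC (hAx g hgA).symm
    · rw [Subgroup.zpowers_le]
      refine ⟨z.2, ?_⟩
      rw [hA]
      exact Subgroup.mem_centralizer_iff.mpr (fun h hh => by
        rw [Set.mem_singleton_iff] at hh
        rw [hh]
        exact hzx'.symm)
  have hzG1 : (z : G) ≠ 1 := fun h => hz1 (Subtype.ext h)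
  have hzGp : (z : G) ^ p = 1 := by simpa using congrArg Subtype.val hzp
  have hcardz : Nat.card (Subgroup.zpowers (z : G)) = p := by
    rw [Nat.card_zpowers]; exact orderOf_eq_prime hzGp hzG1
  have hrel : C.relIndex A = p := by
    have h1 := Subgroup.relIndex_dvd_index_of_normal C A
    rw [hidx] at h1
    rcases (Nat.dvd_prime hpp).mp h1 with h | h
    · exfalso
      exact hxC (Subgroup.relIndex_eq_one.mp h hxA)
    · exact h
  have hAcard : Nat.card A = p ^ 2 := by
    have h1 := Cfsg.Agent.H3.relIndex_mul_card_inf C A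
    rw [hrel, hinf, hcardz] at h1
    rw [← h1, sq]
  exact Cfsg.Agent.H3.suzuki_aux p n G hGc A hAcard hCA

end Cfsg.Agent.H15
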