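import Mathlib
import Cfsg.Agent.H15.Blk3

set_option autoImplicit false

namespace Cfsg.Agent.H15

open Cfsg
open scoped commutatorElement

universe u

/-! ### Case (A-II): coordinates -/

/-- conjugation by `x⁻¹` as a monoid homomorphism -/
def bpsi {G : Type*} [Group G] (x : G) : G →* G := (MulAut.conj x⁻¹).toMonoidHom

theorem bpsi_apply {G : Type*} [Group G] (x u : G) : bpsi x u = x⁻¹ * u * x := by
  simp [bpsi]

theorem bpsi_iter {G : Type*} [Group G] (x : G) (k : ℕ) (u : G) :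
    (bpsi x)^[k] u = (x ^ k)⁻¹ * u * x ^ k := by
  induction k with
  | zero => simp
  | succ k ih =>
    rw [Function.iterate_succ_apply', ih, bpsi_apply, pow_succ]
    group

theorem bk_pow_eq_of_mod {G : Type*} [Group G] {u : G} {p : ℕ} (hu : u ^ p = 1) {N M : ℕ}
    (h : N ≡ M [MOD p]) : u ^ N = u ^ M := by
  rw [pow_eq_pow_mod N hu, pow_eq_pow_mod M hu, h]

/-- the coordinate data of case (A-II) -/
structure BlkD (G : Type*) [Group G] (p n : ℕ) (R C : Subgroup G) (x a y z : G) : Prop where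
  hxp : x ^ p = 1
  hxC : x ∉ C
  hgen : ∀ g : G, ∃ c ∈ C, ∃ i : ℕ, g = c * x ^ i
  haC : a ∈ C
  hyR : y ∈ R
  hzR : z ∈ R
  hRC : R ≤ C
  hRexp : ∀ r ∈ R, r ^ p = 1
  hΩ : ∀ u ∈ C, u ^ p = 1 → u ∈ R
  ha : orderOf a = p ^ (n - 2)
  hz1 : z ≠ 1
  hxz : bpsi x z = z
  hxy : bpsi x y = y * z
  hR : ∀ r ∈ R, ∃ i j : ℕ, r = z ^ i * y ^ j
  hC : ∀ c ∈ C, ∃ k : ℕ, ∃ r ∈ R, c = a ^ k * r
  hcomm : ∀ c ∈ C, ∀ c' ∈ C, c * c' = c' * c
  hCx : ∀ c ∈ C, bpsi x c ∈ C

theorem blk_coords {G : Type u} [Group G] [Finite G] {p : ℕ} [Fact p.Prime] (n : ℕ)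
    (hGc : Nat.card G = p ^ n)
    (R : Subgroup G) [hRn : R.Normal] (hRcard : Nat.card R = p ^ 2)
    (hRexp : ∀ a ∈ R, a ^ p = 1) (hRcomm : ∀ a ∈ R, ∀ b ∈ R, a * b = b * a)
    (hΩ : ∀ u ∈ Subgroup.centralizer (R : Set G), u ^ p = 1 → u ∈ R)
    (hidx : (Subgroup.centralizer (R : Set G)).index = p)
    (x : G) (hxC : x ∉ Subgroup.centralizer (R : Set G)) (hxp : x ^ p = 1)
    (hcyc : ∃ C' : Subgroup (Subgroup.centralizer (R : Set G)), IsCyclic C' ∧ C'.index = p) :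
    ∃ a y z : G, BlkD G p n R (Subgroup.centralizer (R : Set G)) x a y z := by
  have hpp : p.Prime := Fact.out
  have hG : IsPGroup p G := IsPGroup.of_card hGc
  have hCn0 : (Subgroup.centralizer (R : Set G)).Normal := inferInstance
  have hRC0 : R ≤ Subgroup.centralizer (R : Set G) := by
    intro r hr
    exact Subgroup.mem_centralizer_iff.mpr (fun h hh => hRcomm h hh r hr)
  have hCR0 : ∀ c ∈ Subgroup.centralizer (R : Set G), ∀ r ∈ R, r * c = c * r := by
    intro c hc r hr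
    exact Subgroup.mem_centralizer_iff.mp hc r hr
  have hxR : ∃ r ∈ R, x⁻¹ * r * x ≠ r := by
    by_contra hcon
    push Not at hcon
    apply hxC
    rw [Subgroup.mem_centralizer_iff]
    intro r hr
    have h1 := hcon r hr
    calc r * x = x * (x⁻¹ * r * x) := by group
      _ = x * r := by rw [h1]
  generalize Subgroup.centralizer (R : Set G) = C at hΩ hidx hxC hcyc hCn0 hRC0 hCR0 ⊢
  have hCn : C.Normal := hCn0
  have hCp : IsPGroup p C := hG.to_subgroup C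
  obtain ⟨C', hC'c, hC'i⟩ := hcyc
  have hC'n : C'.Normal := Cfsg.Agent.H3.normal_of_index_p hCp C' hC'i
  -- cardinalities
  have hCc := Subgroup.card_mul_index C
  rw [hidx, hGc] at hCc
  have hC'c' := Subgroup.card_mul_index C'
  rw [hC'i] at hC'c'
  have hn2 : 2 ≤ n := by
    by_contra hlt
    have hn1 : n ≤ 1 := by omega
    have h1 : p ^ n ≤ p ^ 1 := Nat.pow_le_pow_right hpp.pos hn1
    have h2 : 0 < Nat.card C' := Nat.card_pos
    have h3 : Nat.card C' * p * p = p ^ n := by rw [hC'c', hCc]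
    have h4 : p * p ≤ Nat.card C' * p * p := by
      calc p * p = 1 * p * p := by ring
        _ ≤ Nat.card C' * p * p := by
          apply Nat.mul_le_mul_right; apply Nat.mul_le_mul_right; exact h2
    have h5 := hpp.two_le
    rw [h3] at h4
    nlinarith
  obtain ⟨m, rfl⟩ := Nat.exists_eq_add_of_le hn2
  have hC'card : Nat.card C' = p ^ m := by
    have h3 : Nat.card C' * (p * p) = p ^ m * (p * p) := by
      rw [← mul_assoc, hC'c', hCc]; ring
    exact Nat.eq_of_mul_eq_mul_right (Nat.mul_pos hpp.pos hpp.pos) h3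
  -- generator
  obtain ⟨g, hg⟩ := hC'c.exists_generator
  have hgord : orderOf g = p ^ m := by
    rw [orderOf_eq_card_of_forall_mem_zpowers hg, hC'card]
  have haord : orderOf (((g : C') : C) : G) = p ^ m := by
    rw [Subgroup.orderOf_coe, Subgroup.orderOf_coe, hgord]
  have hC'mem : ∀ c : C, c ∈ C' → ∃ k : ℕ, (c : G) = (((g : C') : C) : G) ^ k := by
    intro c hc
    have h1 := hg ⟨c, hc⟩
    have hfin : IsOfFinOrder g := isOfFinOrder_of_finite g
    obtain ⟨k, hk⟩ := (Submonoid.mem_powers_iff _ _).mp (hfin.mem_powers_iff_mem_zpowers.mpr h1)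
    refine ⟨k, ?_⟩
    have h2 := congrArg (fun t : C' => ((t : C) : G)) hk
    simpa using h2.symm
  -- an element of R outside C'
  obtain ⟨r₁, hr₁R, hr₁⟩ : ∃ r₁, ∃ h : r₁ ∈ R, (⟨r₁, hRC0 h⟩ : C) ∉ C' := by
    by_contra hcon
    push Not at hcon
    have hRle : R ≤ Subgroup.zpowers ((((g : C') : C) : G)) := by
      intro r hr
      obtain ⟨k, hk⟩ := hC'mem _ (hcon r hr)
      rw [Subgroup.mem_zpowers_iff]
      exact ⟨k, by rw [zpow_natCast]; exact hk.symm⟩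
    have hcycR : IsCyclic (R.subgroupOf (Subgroup.zpowers ((((g : C') : C) : G)))) :=
      Subgroup.isCyclic _
    obtain ⟨q, hq⟩ := hcycR.exists_generator
    have hqord : orderOf q = p ^ 2 := by
      rw [orderOf_eq_card_of_forall_mem_zpowers hq,
        Nat.card_congr (Subgroup.subgroupOfEquivOfLe hRle).toEquiv, hRcard]
    have hqp : q ^ p = 1 := by
      apply Subtype.ext
      apply Subtype.ext
      have := hRexp _ (Subgroup.mem_subgroupOf.mp q.2)
      simpa using this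
    have h1 := orderOf_dvd_of_pow_eq_one hqp
    rw [hqord] at h1
    have h2 := Nat.le_of_dvd hpp.pos h1
    have h3 := hpp.two_le
    nlinarith
  -- decomposition of C
  have hdec : ∀ c ∈ C, ∃ k : ℕ, ∃ r ∈ R, c = (((g : C') : C) : G) ^ k * r := by
    intro c hc
    obtain ⟨c₀, hc₀, i, hi⟩ := Cfsg.Agent.H3.exists_mul_pow_of_index_prime C' hC'i hr₁ ⟨c, hc⟩
    obtain ⟨k, hk⟩ := hC'mem c₀ hc₀
    refine ⟨k, r₁ ^ i, R.pow_mem hr₁R i, ?_⟩
    have h2 := congrArg Subtype.val hi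
    rw [← hk]
    simpa using h2
  have hcomm : ∀ c ∈ C, ∀ c' ∈ C, c * c' = c' * c := by
    intro c hc c' hc'
    obtain ⟨k, r, hr, rfl⟩ := hdec c hc
    obtain ⟨k', r', hr', rfl⟩ := hdec c' hc'
    have hgC : (((g : C') : C) : G) ∈ C := (g : C).2
    have c1 : Commute ((((g : C') : C) : G) ^ k) ((((g : C') : C) : G) ^ k') :=
      (Commute.refl _).pow_pow k k'
    have c2 : Commute ((((g : C') : C) : G) ^ k) r' := (hCR0 _ (C.pow_mem hgC k) r' hr').symm
    have c3 : Commute r ((((g : C') : C) : G) ^ k') := hCR0 _ (C.pow_mem hgC k') r hr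
    have c4 : Commute r r' := hRcomm r hr r' hr'
    exact ((c1.mul_right c2).mul_left (c3.mul_right c4)).eq
  -- the structure of R
  let f : R →* R := (MulAut.conjNormal x⁻¹ : MulAut R).toMonoidHom
  have hf_apply : ∀ u : R, ((f u : R) : G) = x⁻¹ * u * x := by
    intro u
    have := MulAut.conjNormal_apply (H := R) x⁻¹ u
    rw [inv_inv] at this
    exact this
  have hf_iter : ∀ (k : ℕ) (u : R), ((f^[k] u : R) : G) = (x ^ k)⁻¹ * u * x ^ k := by
    intro k
    induction k with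
    | zero => intro u; simp
    | succ k ih =>
      intro u
      rw [Function.iterate_succ_apply', hf_apply, ih, pow_succ]
      group
  have hf : ∀ u : R, f^[p] u = u := by
    intro u
    apply Subtype.ext
    rw [hf_iter, hxp]
    simp
  have hcardR : {u : R | u ^ p = 1}.ncard = p ^ 2 := by
    have : {u : R | u ^ p = 1} = Set.univ := by
      ext u
      simp only [Set.mem_univ, iff_true]
      exact Subtype.ext (by simpa using hRexp u u.2)
    rw [this, Set.ncard_univ, hRcard]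
  obtain ⟨r₀, hr₀R, hr₀⟩ := hxR
  obtain ⟨e₁, he1, he1p, hfe1, hfe0, hgenR⟩ := ma_estruct f hf
    (fun u v _ _ => Subtype.ext (hRcomm u u.2 v v.2)) hcardR ⟨r₀, hr₀R⟩
    (Subtype.ext (by simpa using hRexp r₀ hr₀R))
    (fun h => hr₀ (by
      have h2 := congrArg Subtype.val h
      rw [hf_apply] at h2
      exact h2))
  refine ⟨(((g : C') : C) : G), r₀, (e₁ : G), ?_⟩
  have hm : 2 + m - 2 = m := by omega
  exact
    { hxp := hxp
      hxC := hxC
      hgen := Cfsg.Agent.H3.exists_mul_pow_of_index_prime C hidx hxC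
      haC := (g : C).2
      hyR := hr₀R
      hzR := e₁.2
      hRC := hRC0
      hRexp := hRexp
      hΩ := hΩ
      ha := by rw [hm]; exact haord
      hz1 := fun h => he1 (Subtype.ext h)
      hxz := by
        rw [bpsi_apply, ← hf_apply, hfe1]
      hxy := by
        rw [bpsi_apply]
        have h2 := congrArg Subtype.val hfe0
        rw [hf_apply] at h2
        exact h2
      hR := by
        intro r hr
        obtain ⟨i, j, hij⟩ := hgenR ⟨r, hr⟩ (Subtype.ext (by simpa using hRexp r hr))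
        exact ⟨i, j, by
          have h2 := congrArg Subtype.val hij
          simpa using h2⟩
      hC := hdec
      hcomm := hcomm
      hCx := by
        intro c hc
        rw [bpsi_apply]
        have := hCn.conj_mem c hc x⁻¹
        rwa [inv_inv] at this }

namespace BlkD

variable {G : Type*} [Group G] {p n : ℕ} {R C : Subgroup G} {x a y z : G}

theorem hyz (D : BlkD G p n R C x a y z) : y * z = z * y :=
  D.hcomm y (D.hRC D.hyR) z (D.hRC D.hzR)

theorem zp (D : BlkD G p n R C x a y z) : z ^ p = 1 := D.hRexp z D.hzR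

theorem yp (D : BlkD G p n R C x a y z) : y ^ p = 1 := D.hRexp y D.hyR

theorem zord [Fact p.Prime] (D : BlkD G p n R C x a y z) : orderOf z = p :=
  orderOf_eq_prime D.zp D.hz1

theorem conjR (D : BlkD G p n R C x a y z) :
    ∀ r ∈ R, ∃ i j : ℕ, r = z ^ i * y ^ j ∧ bpsi x r = r * z ^ j := by
  intro r hr
  obtain ⟨i, j, rfl⟩ := D.hR r hr
  refine ⟨i, j, rfl, ?_⟩
  rw [map_mul, map_pow, map_pow, D.hxz, D.hxy]
  have hc : Commute y z := D.hyz
  rw [hc.mul_pow, mul_assoc]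

theorem fixR [Fact p.Prime] (D : BlkD G p n R C x a y z) :
    ∀ u ∈ R, bpsi x u = u → ∃ i : ℕ, u = z ^ i := by
  intro u hu hfix
  obtain ⟨i, j, hij, h2⟩ := D.conjR u hu
  rw [hfix] at h2
  have h3 : z ^ j = 1 := by
    have h4 : u * 1 = u * z ^ j := by rw [mul_one]; exact h2
    exact (mul_left_cancel h4).symm
  have h4 : p ∣ j := by rw [← D.zord]; exact orderOf_dvd_of_pow_eq_one h3
  obtain ⟨t, rfl⟩ := h4
  refine ⟨i, ?_⟩
  rw [hij, pow_mul, D.yp, one_pow, mul_one]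

theorem iterR (D : BlkD G p n R C x a y z) :
    ∀ r : G, ∀ j : ℕ, bpsi x r = r * z ^ j → ∀ k : ℕ, (bpsi x)^[k] r = r * z ^ (j * k) := by
  intro r j h k
  induction k with
  | zero => simp
  | succ k ih =>
    rw [Function.iterate_succ_apply', ih, map_mul, map_pow, D.hxz, h, mul_assoc, ← pow_add,
      Nat.mul_succ, Nat.add_comm]

theorem iter_formula (D : BlkD G p n R C x a y z) (d e : G) (hd : d ∈ C) (he : e ∈ C)
    (h1 : bpsi x a = a * d) (h2 : bpsi x d = d * e) (h3 : bpsi x e = e) :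
    ∀ k : ℕ, (bpsi x)^[k] a = a * d ^ k * e ^ (k.choose 2) := by
  intro k
  induction k with
  | zero => simp
  | succ k ih =>
    have hde : Commute d e := D.hcomm d hd e he
    have hch : (k + 1).choose 2 = k + k.choose 2 := by
      rw [Nat.choose_succ_succ, Nat.choose_one_right]
    rw [Function.iterate_succ_apply', ih, map_mul, map_mul, map_pow, map_pow, h1, h2, h3,
      hde.mul_pow, hch, pow_add e k (k.choose 2), pow_succ' d k]
    simp only [mul_assoc]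

theorem closure_top (D : BlkD G p n R C x a y z) (H : Subgroup G) (hx : x ∈ H) (ha : a ∈ H)
    (hy : y ∈ H) (hz : z ∈ H) : H = ⊤ := by
  rw [eq_top_iff]
  intro g _
  obtain ⟨c, hc, i, rfl⟩ := D.hgen g
  obtain ⟨k, r, hr, rfl⟩ := D.hC c hc
  obtain ⟨i', j', rfl⟩ := D.hR r hr
  exact H.mul_mem (H.mul_mem (H.pow_mem ha k) (H.mul_mem (H.pow_mem hz i') (H.pow_mem hy j')))
    (H.pow_mem hx i)

end BlkD

theorem blk_key {G : Type u} [Group G] [Finite G] {p : ℕ} [Fact p.Prime] (hp : p ≠ 2) (n : ℕ)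
    (hn : 4 ≤ n) {R C : Subgroup G} {x a y z : G} (D : BlkD G p n R C x a y z) :
    ∃ r₁ ∈ R, bpsi x a = a * r₁ := by
  have hpp : p.Prime := Fact.out
  obtain ⟨q, rfl⟩ := Nat.exists_eq_add_of_le hn
  have ha : orderOf a = p ^ (q + 2) := by rw [D.ha]; congr 1; omega
  have hψaC : bpsi x a ∈ C := D.hCx a D.haC
  obtain ⟨i, r, hrR, hψa⟩ := D.hC _ hψaC
  have hrC : r ∈ C := D.hRC hrR
  have hair : Commute (a ^ i) r := D.hcomm _ (C.pow_mem D.haC i) r hrC
  have hrp : r ^ p = 1 := D.hRexp r hrR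
  have hψpow : ∀ N : ℕ, bpsi x (a ^ N) = (a ^ N) ^ i * r ^ N := by
    intro N
    rw [map_pow, hψa, hair.mul_pow, ← pow_mul, ← pow_mul, mul_comm i N]
  have hψb : bpsi x (a ^ p) = (a ^ p) ^ i := by rw [hψpow, hrp, mul_one]
  have hψbk : ∀ k : ℕ, (bpsi x)^[k] (a ^ p) = (a ^ p) ^ (i ^ k) := by
    intro k
    induction k with
    | zero => simp
    | succ k ih =>
      rw [Function.iterate_succ_apply', ih, map_pow, hψb, ← pow_mul, pow_succ, mul_comm]
  have hbord : orderOf (a ^ p) = p ^ (q + 1) := by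
    rw [orderOf_pow_of_dvd hpp.ne_zero (by rw [ha]; exact dvd_pow_self p (by omega)), ha,
      pow_succ, Nat.mul_div_cancel _ hpp.pos]
  have hmod : i ^ p ≡ 1 [MOD p ^ (q + 1)] := by
    rw [← hbord]
    apply (pow_eq_pow_iff_modEq).mp
    rw [pow_one, ← hψbk p, bpsi_iter, D.hxp]
    simp
  obtain ⟨hi1, hi2⟩ := Cfsg.Agent.H3.modEq_one_of_pow_prime hpp hp (m := q + 1) (by omega) hmod
  have hi_pos : 1 ≤ i := by
    by_contra h
    have h0 : i = 0 := by omega
    rw [h0] at hi1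
    have h1 := (Nat.modEq_iff_dvd' (Nat.zero_le 1)).mp hi1
    have h2 := Nat.le_of_dvd (by norm_num) h1
    have := hpp.two_le
    omega
  obtain ⟨b₀, hb₀⟩ : ∃ b₀ : G, b₀ = a ^ p ^ (q + 1) := ⟨_, rfl⟩
  have hb₀p : b₀ ^ p = 1 := by rw [hb₀, ← pow_mul, ← pow_succ, ← ha, pow_orderOf_eq_one]
  have hb₀C : b₀ ∈ C := by rw [hb₀]; exact C.pow_mem D.haC _
  have hb₀R : b₀ ∈ R := D.hΩ b₀ hb₀C hb₀p
  have hψb₀ : bpsi x b₀ = b₀ := by
    rw [hb₀, hψpow, ← hb₀]
    have h1 : r ^ p ^ (q + 1) = 1 := by rw [pow_succ', pow_mul, hrp, one_pow]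
    rw [h1, mul_one]
    have h2 := bk_pow_eq_of_mod hb₀p hi1
    rw [h2, pow_one]
  obtain ⟨i₀, hi₀⟩ := D.fixR b₀ hb₀R hψb₀
  rcases Nat.eq_zero_or_pos q with hq | hq
  · subst hq
    obtain ⟨k', hk'⟩ := (Nat.modEq_iff_dvd' hi_pos).mp hi1.symm
    have hi : i = 1 + p * k' := by omega
    have hbR : a ^ p ∈ R := by
      apply D.hΩ _ (C.pow_mem D.haC p)
      rw [← pow_mul]
      have h1 : p * p = p ^ (0 + 2) := by ring
      rw [h1, ← ha, pow_orderOf_eq_one]
    refine ⟨(a ^ p) ^ k' * r, R.mul_mem (R.pow_mem hbR k') hrR, ?_⟩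
    rw [hψa, hi, pow_add, pow_one, pow_mul, mul_assoc]
  · obtain ⟨q', rfl⟩ : ∃ q', q = q' + 1 := ⟨q - 1, by omega⟩
    have hi2' : i ≡ 1 [MOD p ^ (q' + 1)] := by simpa using hi2
    obtain ⟨k, hk⟩ := (Nat.modEq_iff_dvd' hi_pos).mp hi2'.symm
    have hi : i = 1 + p ^ (q' + 1) * k := by omega
    obtain ⟨d, hd⟩ : ∃ d : G, d = a ^ (p ^ (q' + 1) * k) * r := ⟨_, rfl⟩
    have hdC : d ∈ C := by rw [hd]; exact C.mul_mem (C.pow_mem D.haC _) hrC
    have h1 : bpsi x a = a * d := by rw [hψa, hi, pow_add, pow_one, hd, mul_assoc]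
    have hdp : d ^ p = b₀ ^ k := by
      have hc : Commute (a ^ (p ^ (q' + 1) * k)) r := D.hcomm _ (C.pow_mem D.haC _) r hrC
      rw [hd, hc.mul_pow, hrp, mul_one, hb₀, ← pow_mul, ← pow_mul]
      congr 1
      ring
    obtain ⟨ir, jr, hr_eq, hψr⟩ := D.conjR r hrR
    have had : Commute a d := D.hcomm a D.haC d hdC
    have hψd : bpsi x d = d * (d ^ (p ^ (q' + 1) * k) * z ^ jr) := by
      have hc2 : Commute (d ^ (p ^ (q' + 1) * k)) r := D.hcomm _ (C.pow_mem hdC _) r hrC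
      calc bpsi x d = bpsi x (a ^ (p ^ (q' + 1) * k) * r) := by rw [hd]
        _ = (a * d) ^ (p ^ (q' + 1) * k) * (r * z ^ jr) := by rw [map_mul, map_pow, h1, hψr]
        _ = a ^ (p ^ (q' + 1) * k) * (d ^ (p ^ (q' + 1) * k) * r) * z ^ jr := by
            rw [had.mul_pow]; simp only [mul_assoc]
        _ = a ^ (p ^ (q' + 1) * k) * (r * d ^ (p ^ (q' + 1) * k)) * z ^ jr := by rw [hc2.eq]
        _ = d * (d ^ (p ^ (q' + 1) * k) * z ^ jr) := by rw [hd]; simp only [mul_assoc]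
    obtain ⟨e, he⟩ : ∃ e : G, e = d ^ (p ^ (q' + 1) * k) * z ^ jr := ⟨_, rfl⟩
    have hdN : d ^ (p ^ (q' + 1) * k) = z ^ (i₀ * k * (p ^ q' * k)) := by
      rw [pow_succ', mul_assoc, pow_mul, hdp, hi₀, ← pow_mul, ← pow_mul]
      congr 1
      ring
    have heZ : e = z ^ (i₀ * k * (p ^ q' * k) + jr) := by rw [he, hdN, ← pow_add]
    have heC : e ∈ C := by rw [heZ]; exact C.pow_mem (D.hRC D.hzR) _
    have hψe : bpsi x e = e := by rw [heZ, map_pow, D.hxz]
    have hep : e ^ p = 1 := by rw [heZ, ← pow_mul, mul_comm, pow_mul, D.zp, one_pow]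
    have hform := D.iter_formula d e hdC heC h1 (by rw [hψd, he]) hψe p
    rw [bpsi_iter, D.hxp] at hform
    have hd2 : p ∣ p.choose 2 := hpp.dvd_choose_self (by norm_num) (by
      have := hpp.two_le
      omega)
    obtain ⟨t, ht⟩ := hd2
    rw [ht, pow_mul, hep, one_pow, mul_one] at hform
    have hdp1 : d ^ p = 1 := by
      have h5 : a * 1 = a * d ^ p := by simpa using hform
      exact (mul_left_cancel h5).symm
    exact ⟨d, D.hΩ d hdC hdp1, h1⟩

theorem bk_sq_norm {p : ℕ} [Fact p.Prime] (s₀ : ℕ) (h : ¬ p ∣ s₀) :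
    ∃ k s : ℕ, ¬ p ∣ k ∧ (s = 1 ∨ ¬ IsSquare (s : ZMod p)) ∧ s₀ * k ^ 2 ≡ s [MOD p] := by
  by_cases hsq : IsSquare (s₀ : ZMod p)
  · obtain ⟨q, hq⟩ := hsq
    have hq0 : q ≠ 0 := by
      rintro rfl
      rw [mul_zero] at hq
      exact h ((ZMod.natCast_eq_zero_iff s₀ p).mp hq)
    refine ⟨(q⁻¹).val, 1, ?_, Or.inl rfl, ?_⟩
    · intro hdvd
      have h1 := (ZMod.natCast_eq_zero_iff _ p).mpr hdvd
      rw [ZMod.natCast_zmod_val] at h1
      exact (inv_ne_zero hq0) h1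
    · rw [← ZMod.natCast_eq_natCast_iff]
      push_cast
      rw [ZMod.natCast_zmod_val, hq]
      field_simp
  · exact ⟨1, s₀, fun hd => (Fact.out : p.Prime).one_lt.ne' (Nat.dvd_one.mp hd), Or.inr hsq, by
      simp [Nat.ModEq]⟩

theorem bk_exists_inv {p : ℕ} (hpp : p.Prime) (t : ℕ) (ht : ¬ p ∣ t) :
    ∃ t' : ℕ, t * t' ≡ 1 [MOD p] := by
  have hcop : Nat.Coprime t p := (Nat.Coprime.symm ((Nat.Prime.coprime_iff_not_dvd hpp).mpr ht))
  obtain ⟨t', -, ht'⟩ := Nat.exists_mul_mod_eq_one_of_coprime hcop hpp.one_lt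
  exact ⟨t', by
    show t * t' % p = 1 % p
    rw [ht', Nat.mod_eq_of_lt hpp.one_lt]⟩

theorem blk_fam {G : Type u} [Group G] [Finite G] {p : ℕ} [Fact p.Prime] (hp : p ≠ 2) (n : ℕ)
    (hn : 4 ≤ n) {R C : Subgroup G} {x a y z : G} (D : BlkD G p n R C x a y z) :
    (∃ x y z : G, Subgroup.closure ({x, y, z} : Set G) = ⊤ ∧ x ^ p = 1 ∧ y ^ p = 1 ∧
        z ^ p ^ (n - 2) = 1 ∧ x * z = z * x ∧ y * z = z * y ∧
        x⁻¹ * y * x = y * z ^ p ^ (n - 3)) ∨
    (∃ (s : ℕ) (x y z : G), (s = 1 ∨ ¬ IsSquare (s : ZMod p)) ∧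
        Subgroup.closure ({x, y, z} : Set G) = ⊤ ∧
        x ^ p = 1 ∧ y ^ p = 1 ∧ z ^ p ^ (n - 2) = 1 ∧ y * z = z * y ∧
        x⁻¹ * y * x = y * z ^ (s * p ^ (n - 3)) ∧ x⁻¹ * z * x = y * z) := by
  have hpp : p.Prime := Fact.out
  obtain ⟨r₁, hr₁R, hψa⟩ := blk_key hp n hn D
  obtain ⟨q, rfl⟩ := Nat.exists_eq_add_of_le hn
  have e2 : 4 + q - 2 = q + 2 := by omega
  have e3 : 4 + q - 3 = q + 1 := by omega
  rw [e2, e3]
  have ha : orderOf a = p ^ (q + 2) := by rw [D.ha, e2]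
  have hr₁C : r₁ ∈ C := D.hRC hr₁R
  have har₁ : Commute a r₁ := D.hcomm a D.haC r₁ hr₁C
  have hr₁p : r₁ ^ p = 1 := D.hRexp r₁ hr₁R
  have hyC : y ∈ C := D.hRC D.hyR
  have hzC : z ∈ C := D.hRC D.hzR
  obtain ⟨b₀, hb₀⟩ : ∃ b₀ : G, b₀ = a ^ p ^ (q + 1) := ⟨_, rfl⟩
  have hb₀p : b₀ ^ p = 1 := by rw [hb₀, ← pow_mul, ← pow_succ, ← ha, pow_orderOf_eq_one]
  have hb₀1 : b₀ ≠ 1 := by
    intro h
    rw [hb₀] at h
    have h1 := orderOf_dvd_of_pow_eq_one h
    rw [ha] at h1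
    have := (Nat.pow_dvd_pow_iff_le_right hpp.one_lt).mp h1
    omega
  have hb₀C : b₀ ∈ C := by rw [hb₀]; exact C.pow_mem D.haC _
  have hb₀R : b₀ ∈ R := D.hΩ b₀ hb₀C hb₀p
  have hψb₀ : bpsi x b₀ = b₀ := by
    rw [hb₀, map_pow, hψa, har₁.mul_pow]
    have h1 : r₁ ^ p ^ (q + 1) = 1 := by rw [pow_succ', pow_mul, hr₁p, one_pow]
    rw [h1, mul_one]
  obtain ⟨t, ht⟩ := D.fixR b₀ hb₀R hψb₀
  have htp : ¬ p ∣ t := by
    rintro ⟨w, rfl⟩
    apply hb₀1
    rw [ht, pow_mul, D.zp, one_pow]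
  obtain ⟨t', ht'⟩ := bk_exists_inv hpp t htp
  have hzb : z = b₀ ^ t' := by
    rw [ht, ← pow_mul, bk_pow_eq_of_mod D.zp ht', pow_one]
  obtain ⟨i₁, j₁, hr₁eq, hψr₁⟩ := D.conjR r₁ hr₁R
  have hyzc : Commute y z := D.hyz
  by_cases hj : p ∣ j₁
  · left
    obtain ⟨w, rfl⟩ := hj
    have hr₁z : r₁ = z ^ i₁ := by rw [hr₁eq, pow_mul, D.yp, one_pow, mul_one]
    obtain ⟨zf, hzf⟩ : ∃ zf : G, zf = a * y ^ ((p - 1) * i₁) := ⟨_, rfl⟩
    have hzfC : zf ∈ C := by rw [hzf]; exact C.mul_mem D.haC (C.pow_mem hyC _)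
    have hayk : Commute a (y ^ ((p - 1) * i₁)) := D.hcomm a D.haC _ (C.pow_mem hyC _)
    have hψzf : bpsi x zf = zf := by
      rw [hzf, map_mul, map_pow, hψa, D.hxy, hr₁z, hyzc.mul_pow]
      have h1 : z ^ i₁ * (y ^ ((p - 1) * i₁) * z ^ ((p - 1) * i₁)) = y ^ ((p - 1) * i₁) := by
        have hc : Commute (z ^ i₁) (y ^ ((p - 1) * i₁)) := hyzc.symm.pow_pow _ _
        rw [← mul_assoc, hc.eq, mul_assoc, ← pow_add]
        have h2 : i₁ + (p - 1) * i₁ = p * i₁ := by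
          have h3 := hpp.one_le
          have h4 : p = (p - 1) + 1 := by omega
          conv_rhs => rw [h4]
          ring
        rw [h2, pow_mul z p i₁, D.zp, one_pow, mul_one]
      rw [mul_assoc, h1]
    have hzfpow : ∀ N : ℕ, zf ^ (p * N) = a ^ (p * N) := by
      intro N
      rw [hzf, hayk.mul_pow, ← pow_mul y,
        (show (p - 1) * i₁ * (p * N) = p * ((p - 1) * i₁ * N) by ring), pow_mul y p, D.yp,
        one_pow, mul_one]
    have hzfb : zf ^ p ^ (q + 1) = b₀ := by rw [pow_succ' p q, hzfpow, ← pow_succ', hb₀]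
    refine ⟨x, y ^ t, zf, ?_, D.hxp, ?_, ?_, ?_, ?_, ?_⟩
    · have hxH : x ∈ Subgroup.closure ({x, y ^ t, zf} : Set G) :=
        Subgroup.subset_closure (by simp)
      have hytH : y ^ t ∈ Subgroup.closure ({x, y ^ t, zf} : Set G) :=
        Subgroup.subset_closure (by simp)
      have hzfH : zf ∈ Subgroup.closure ({x, y ^ t, zf} : Set G) :=
        Subgroup.subset_closure (by simp)
      have hyH : y ∈ Subgroup.closure ({x, y ^ t, zf} : Set G) := by
        have e := Subgroup.pow_mem _ hytH t'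
        rw [← pow_mul, bk_pow_eq_of_mod D.yp ht', pow_one] at e
        exact e
      have hzH : z ∈ Subgroup.closure ({x, y ^ t, zf} : Set G) := by
        rw [hzb, ← hzfb]; exact Subgroup.pow_mem _ (Subgroup.pow_mem _ hzfH _) _
      have haH : a ∈ Subgroup.closure ({x, y ^ t, zf} : Set G) := by
        have e : a = zf * (y ^ ((p - 1) * i₁))⁻¹ := by rw [hzf]; group
        rw [e]
        exact Subgroup.mul_mem _ hzfH (Subgroup.inv_mem _ (Subgroup.pow_mem _ hyH _))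
      exact D.closure_top _ hxH haH hyH hzH
    · rw [← pow_mul, mul_comm, pow_mul, D.yp, one_pow]
    · rw [pow_succ' p (q + 1), hzfpow, ← pow_succ', ← ha, pow_orderOf_eq_one]
    · calc x * zf = x * (x⁻¹ * zf * x) := by rw [← bpsi_apply, hψzf]
        _ = zf * x := by group
    · exact D.hcomm _ (C.pow_mem hyC t) zf hzfC
    · rw [← bpsi_apply, map_pow, D.hxy, hyzc.mul_pow, hzfb, ht]
  · right
    have ht'p : ¬ p ∣ t' := by
      intro hd
      have h1 : t * t' % p = 0 := Nat.mod_eq_zero_of_dvd (Dvd.dvd.mul_left hd t)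
      have h2 : t * t' % p = 1 % p := ht'
      rw [Nat.mod_eq_of_lt hpp.one_lt] at h2
      omega
    have hs₀ : ¬ p ∣ t' * j₁ := fun hd => (hpp.dvd_mul.mp hd).elim ht'p hj
    obtain ⟨k, s, hkp, hs, hmod⟩ := bk_sq_norm (p := p) (t' * j₁) hs₀
    obtain ⟨y2, hy2⟩ : ∃ y2 : G, y2 = r₁ ^ k * z ^ (j₁ * k.choose 2) := ⟨_, rfl⟩
    have hy2R : y2 ∈ R := by rw [hy2]; exact R.mul_mem (R.pow_mem hr₁R k) (R.pow_mem D.hzR _)
    have hy2C : y2 ∈ C := D.hRC hy2R
    have hzj : bpsi x (z ^ j₁) = z ^ j₁ := by rw [map_pow, D.hxz]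
    have hform := D.iter_formula r₁ (z ^ j₁) hr₁C (C.pow_mem hzC _) hψa hψr₁ hzj k
    rw [bpsi_iter] at hform
    have hxa : (x ^ k)⁻¹ * a * x ^ k = y2 * a := by
      rw [hform, ← pow_mul, mul_assoc, ← hy2]
      exact D.hcomm a D.haC y2 hy2C
    have hψy2 : bpsi x y2 = y2 * z ^ (j₁ * k) := by
      have hc : Commute r₁ (z ^ j₁) := D.hcomm r₁ hr₁C _ (C.pow_mem hzC _)
      rw [hy2, map_mul, map_pow, map_pow, hψr₁, D.hxz, hc.mul_pow, ← pow_mul, mul_assoc,
        mul_assoc, ← pow_add, ← pow_add, add_comm]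
    have hit := D.iterR y2 (j₁ * k) hψy2 k
    rw [bpsi_iter] at hit
    have hzpow : z ^ (j₁ * k * k) = a ^ (s * p ^ (q + 1)) := by
      rw [pow_mul' a s, ← hb₀, hzb, ← pow_mul]
      apply bk_pow_eq_of_mod hb₀p
      have h1 : t' * (j₁ * k * k) = t' * j₁ * k ^ 2 := by ring
      rw [h1]; exact hmod
    refine ⟨s, x ^ k, y2, a, hs, ?_, ?_, D.hRexp y2 hy2R, ?_, ?_, ?_, hxa⟩
    · have hxkH : x ^ k ∈ Subgroup.closure ({x ^ k, y2, a} : Set G) :=
        Subgroup.subset_closure (by simp)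
      have hy2H : y2 ∈ Subgroup.closure ({x ^ k, y2, a} : Set G) :=
        Subgroup.subset_closure (by simp)
      have haH : a ∈ Subgroup.closure ({x ^ k, y2, a} : Set G) :=
        Subgroup.subset_closure (by simp)
      have hxH : x ∈ Subgroup.closure ({x ^ k, y2, a} : Set G) := by
        obtain ⟨k', hk'⟩ := bk_exists_inv hpp k hkp
        have e := Subgroup.pow_mem _ hxkH k'
        rw [← pow_mul, bk_pow_eq_of_mod D.hxp hk', pow_one] at e
        exact e
      have hzH : z ∈ Subgroup.closure ({x ^ k, y2, a} : Set G) := by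
        rw [hzb, hb₀]; exact Subgroup.pow_mem _ (Subgroup.pow_mem _ haH _) _
      have hyjk : y ^ (j₁ * k) ∈ Subgroup.closure ({x ^ k, y2, a} : Set G) := by
        have e : y ^ (j₁ * k) = ((z ^ i₁) ^ k)⁻¹ * y2 * (z ^ (j₁ * k.choose 2))⁻¹ := by
          rw [hy2, hr₁eq, (hyzc.symm.pow_pow i₁ j₁).mul_pow, ← pow_mul y]
          group
        rw [e]
        exact Subgroup.mul_mem _ (Subgroup.mul_mem _
          (Subgroup.inv_mem _ (Subgroup.pow_mem _ (Subgroup.pow_mem _ hzH _) _)) hy2H)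
          (Subgroup.inv_mem _ (Subgroup.pow_mem _ hzH _))
      have hyH : y ∈ Subgroup.closure ({x ^ k, y2, a} : Set G) := by
        have hjk : ¬ p ∣ j₁ * k := fun hd => (hpp.dvd_mul.mp hd).elim hj hkp
        obtain ⟨w, hw⟩ := bk_exists_inv hpp (j₁ * k) hjk
        have e := Subgroup.pow_mem _ hyjk w
        rw [← pow_mul, bk_pow_eq_of_mod D.yp hw, pow_one] at e
        exact e
      exact D.closure_top _ hxH haH hyH hzH
    · rw [← pow_mul, mul_comm, pow_mul, D.hxp, one_pow]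
    · rw [← ha, pow_orderOf_eq_one]
    · exact D.hcomm y2 hy2C a D.haC
    · rw [hit, hzpow]

end Cfsg.Agent.H15
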