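import Mathlib
import Cfsg.Agent.H15.Blk4
import Cfsg.Agent.S0639

set_option autoImplicit false

namespace Cfsg.Agent.H15

open Cfsg

universe u

/-- Blackburn's classification of the `p`-groups of `p`-rank at most two, `p` odd. -/
theorem blk_main {G : Type u} [Group G] [Finite G] {p : ℕ} [Fact p.Prime] (hp : p ≠ 2) (n : ℕ)
    (hG : Nat.card G = p ^ n) (hrk : Cfsg.PRankLE p 2 G) :
    Cfsg.IsMetacyclic G ∨
    (3 ≤ n ∧ ∃ x y z : G, Subgroup.closure ({x, y, z} : Set G) = ⊤ ∧ x ^ p = 1 ∧ y ^ p = 1 ∧
        z ^ p ^ (n - 2) = 1 ∧ x * z = z * x ∧ y * z = z * y ∧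
        x⁻¹ * y * x = y * z ^ p ^ (n - 3)) ∨
    (4 ≤ n ∧ ∃ (s : ℕ) (x y z : G), (s = 1 ∨ ¬ IsSquare (s : ZMod p)) ∧
        Subgroup.closure ({x, y, z} : Set G) = ⊤ ∧
        x ^ p = 1 ∧ y ^ p = 1 ∧ z ^ p ^ (n - 2) = 1 ∧ y * z = z * y ∧
        x⁻¹ * y * x = y * z ^ (s * p ^ (n - 3)) ∧ x⁻¹ * z * x = y * z) ∨
    (p = 3 ∧ 2 ≤ n ∧ (⊤ : Subgroup G).lowerCentralSeries (n - 2) ≠ ⊥) := by
  have hpp : p.Prime := Fact.out
  have hGp : IsPGroup p G := IsPGroup.of_card hG
  by_cases hcyc : IsCyclic G
  · left
    refine ⟨⊤, inferInstance, ?_, ?_⟩
    · obtain ⟨g, hg⟩ := hcyc.exists_generator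
      exact ⟨⟨⟨g, Subgroup.mem_top g⟩, fun x => by
        obtain ⟨k, hk⟩ := Subgroup.mem_zpowers_iff.mp (hg x.1)
        exact ⟨k, Subtype.ext (by simpa using hk)⟩⟩⟩
    · have : Subsingleton (G ⧸ (⊤ : Subgroup G)) := QuotientGroup.subsingleton_quotient_top
      exact isCyclic_of_subsingleton
  · obtain ⟨R, hRn, hRcard, hRexp, hRcomm, hΩ, hC⟩ := blk_setup hp n hG hrk hcyc
    rcases hC with hCtop | hidx
    · left
      apply pc_metacyclic hp G hGp _ R (fun u hu => hΩ u (by rw [hCtop]; trivial) hu) hRcard.le
      intro u hu
      have huR := hΩ u (by rw [hCtop]; trivial) hu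
      rw [Subgroup.mem_center_iff]
      intro g
      have hg : g ∈ Subgroup.centralizer (R : Set G) := by rw [hCtop]; trivial
      exact (Subgroup.mem_centralizer_iff.mp hg u huR).symm
    · have hRC : R ≤ Subgroup.centralizer (R : Set G) := by
        intro r hr
        exact Subgroup.mem_centralizer_iff.mpr (fun h hh => hRcomm h hh r hr)
      have hn3 : 3 ≤ n := by
        have h1 := Subgroup.card_mul_index (Subgroup.centralizer (R : Set G))
        rw [hidx, hG] at h1
        have h2 := Subgroup.card_le_of_le hRC
        rw [hRcard] at h2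
        have h3 : p ^ 3 ≤ p ^ n := by
          calc p ^ 3 = p ^ 2 * p := by ring
            _ ≤ Nat.card (Subgroup.centralizer (R : Set G)) * p := Nat.mul_le_mul_right _ h2
            _ = p ^ n := h1
        exact (Nat.pow_le_pow_iff_right hpp.one_lt).mp h3
      have hclass : Group.nilpotencyClass G = n - 1 →
          (⊤ : Subgroup G).lowerCentralSeries (n - 2) ≠ ⊥ := by
        intro hc h
        have : Group.IsNilpotent G := hGp.isNilpotent
        have h1 := Subgroup.lowerCentralSeries_eq_bot_iff_nilpotencyClass_le.mp h
        omega
      by_cases hA : ∃ x : G, x ∉ Subgroup.centralizer (R : Set G) ∧ x ^ p = 1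
      · obtain ⟨x, hxC, hxp⟩ := hA
        by_cases hcm : ∃ C' : Subgroup (Subgroup.centralizer (R : Set G)),
            IsCyclic C' ∧ C'.index = p
        · obtain ⟨a, y, z, D⟩ := blk_coords n hG R hRcard hRexp hRcomm hΩ hidx x hxC hxp hcm
          rcases Nat.lt_or_ge n 4 with hn4 | hn4
          · have hn : n = 3 := by omega
            subst hn
            right; left
            refine ⟨le_refl 3, x, y, z, ?_, D.hxp, D.yp, ?_, ?_, D.hyz, ?_⟩
            · have hxH : x ∈ Subgroup.closure ({x, y, z} : Set G) :=
                Subgroup.subset_closure (by simp)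
              have hyH : y ∈ Subgroup.closure ({x, y, z} : Set G) :=
                Subgroup.subset_closure (by simp)
              have hzH : z ∈ Subgroup.closure ({x, y, z} : Set G) :=
                Subgroup.subset_closure (by simp)
              have hap : a ^ p = 1 := by
                have h := D.ha
                have h1 : (3 : ℕ) - 2 = 1 := rfl
                rw [h1, pow_one] at h
                rw [← h]
                exact pow_orderOf_eq_one a
              obtain ⟨i, j, hij⟩ := D.hR a (D.hΩ a D.haC hap)
              have haH : a ∈ Subgroup.closure ({x, y, z} : Set G) := by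
                rw [hij]
                exact Subgroup.mul_mem _ (Subgroup.pow_mem _ hzH _) (Subgroup.pow_mem _ hyH _)
              exact D.closure_top _ hxH haH hyH hzH
            · show z ^ p ^ 1 = 1
              rw [pow_one]
              exact D.zp
            · have h := D.hxz
              rw [bpsi_apply] at h
              calc x * z = x * (x⁻¹ * z * x) := by rw [h]
                _ = z * x := by group
            · rw [← bpsi_apply, D.hxy]
              show y * z = y * z ^ p ^ 0
              rw [pow_zero, pow_one]
          · rcases blk_fam hp n hn4 D with h | h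
            · right; left
              exact ⟨hn3, h⟩
            · right; right; left
              exact ⟨hn4, h⟩
        · push Not at hcm
          obtain ⟨hp3, hc⟩ := blk_AI hp n hG R hRcard hRexp hRcomm hΩ hidx x hxC hxp
            (fun C' hC' hi => hcm C' hC' hi)
          right; right; right
          exact ⟨hp3, by omega, hclass hc⟩
      · push Not at hA
        have hB : ∀ u : G, u ^ p = 1 → u ∈ R := by
          intro u hu
          by_contra huR
          by_cases huC : u ∈ Subgroup.centralizer (R : Set G)
          · exact huR (hΩ u huC hu)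
          · exact hA u huC hu
        by_cases hp3 : p = 3
        · subst hp3
          rcases blk_B n hG R hRcard hRexp hRcomm hidx hB with h | h
          · left
            exact h
          · right; right; right
            exact ⟨rfl, by omega, hclass h⟩
        · left
          have hp3' : 3 < p := by
            have := hpp.two_le
            omega
          apply Cfsg.Agent.S0639.result hp3' hGp
          have hle : Cfsg.omegaOne p (⊤ : Subgroup G) ≤ R := by
            unfold Cfsg.omegaOne
            rw [Subgroup.closure_le]
            rintro u ⟨-, hu⟩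
            exact hB u hu
          exact (Subgroup.card_le_of_le hle).trans hRcard.le

end Cfsg.Agent.H15
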