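import Mathlib
import Cfsg.Agent.S4117
import Cfsg.Agent.H72.Fg8Defs

set_option autoImplicit false

/-!
S4151 project, piece R2: coprime action by conjugation on a subgroup with cyclic Sylow
subgroups, internal form `H = W ⋊ C_H(Q)`.
-/

namespace Cfsg.Agent.H15.Fg8

open Cfsg Cfsg.Agent.H72.Zas
open scoped Pointwise

universe u

/-- the conjugation action of `Q` on a subgroup `H` that it normalizes -/
@[reducible] def conjAct {G : Type u} [Group G] (H Q : Subgroup G)
    (hn : ∀ q ∈ Q, ∀ h ∈ H, q * h * q⁻¹ ∈ H) : MulDistribMulAction ↥Q ↥H where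
  smul q h := ⟨(q : G) * (h : G) * (q : G)⁻¹, hn q q.2 h h.2⟩
  one_smul h := by
    apply Subtype.ext
    show ((1 : Q) : G) * (h : G) * ((1 : Q) : G)⁻¹ = h
    simp
  mul_smul a b h := by
    apply Subtype.ext
    show ((a * b : Q) : G) * (h : G) * ((a * b : Q) : G)⁻¹ =
      (a : G) * ((b : G) * (h : G) * (b : G)⁻¹) * (a : G)⁻¹
    simp only [Subgroup.coe_mul]
    group
  smul_mul a h k := by
    apply Subtype.ext
    show (a : G) * ((h * k : H) : G) * (a : G)⁻¹ =
      ((a : G) * (h : G) * (a : G)⁻¹) * ((a : G) * (k : G) * (a : G)⁻¹)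
    simp only [Subgroup.coe_mul]
    group
  smul_one a := by
    apply Subtype.ext
    show (a : G) * ((1 : H) : G) * (a : G)⁻¹ = 1
    simp

theorem stR2 : StR2.{u} := by
  intro G _ _ H Q hn hcop hcyc
  let _ := conjAct H Q hn
  have hsmul : ∀ (q : Q) (h : H), ((q • h : H) : G) = (q : G) * (h : G) * (q : G)⁻¹ :=
    fun q h => rfl
  obtain ⟨h1, -, h3, h4, h5⟩ := Cfsg.Agent.S4117.result (G := ↥H) (A := ↥Q) hcop
    (fun p _ P => hcyc p P)
  set W' : Subgroup H :=
    Subgroup.closure {y : H | ∃ (a : Q) (g : H), y = g⁻¹ * a • g} with hW'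
  set C' : Subgroup H := (H ⊓ Subgroup.centralizer (Q : Set G)).subgroupOf H with hC'
  have hfix : (C' : Set H) = MulAction.fixedPoints Q H := by
    ext h
    simp only [SetLike.mem_coe, hC', Subgroup.mem_subgroupOf, Subgroup.mem_inf,
      MulAction.mem_fixedPoints, Subgroup.mem_centralizer_iff]
    constructor
    · rintro ⟨-, hc⟩ q
      apply Subtype.ext
      rw [hsmul, hc q q.2]
      group
    · intro hq
      refine ⟨h.2, fun q hqQ => ?_⟩
      have := congrArg Subtype.val (hq ⟨q, hqQ⟩)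
      rw [hsmul] at this
      simp only at this
      calc q * (h : G) = q * (h : G) * q⁻¹ * q := by group
        _ = (h : G) * q := by rw [this]
  rw [← hfix] at h1 h4 h5
  rw [Subgroup.closure_eq] at h5
  have : W'.Normal := h3
  have hdisj : Disjoint W' C' := by
    rw [Subgroup.disjoint_def]
    intro x hx hx'
    have : x ∈ ((W' : Set H) ∩ (C' : Set H)) := ⟨hx, hx'⟩
    rw [h4] at this
    exact this
  have hmul : (W' : Set H) * (C' : Set H) = Set.univ := by
    rw [← Subgroup.normal_mul, h5, Subgroup.coe_top]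
  have hcompl : W'.IsComplement' C' :=
    Subgroup.isComplement'_of_disjoint_and_mul_eq_univ hdisj hmul
  have hcard : Nat.card W' * Nat.card C' = Nat.card H := hcompl.card_mul_card
  have hCle : H ⊓ Subgroup.centralizer (Q : Set G) ≤ H := inf_le_left
  have hcardC : Nat.card C' = Nat.card ↥(H ⊓ Subgroup.centralizer (Q : Set G)) :=
    Nat.card_congr (Subgroup.subgroupOfEquivOfLe hCle).toEquiv
  have hcardW : Nat.card (W'.map H.subtype) = Nat.card W' :=
    (Nat.card_congr (W'.equivMapOfInjective H.subtype H.subtype_injective).toEquiv).symm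
  have hCpos : 0 < Nat.card C' := Nat.card_pos
  have hdiv : Nat.card H / Nat.card C' = Nat.card W' := by
    rw [← hcard]
    exact Nat.mul_div_cancel _ hCpos
  have h1' : (Nat.card C').Coprime (Nat.card W') := by
    have : Nat.card ((C' : Set H)) = Nat.card C' := rfl
    rw [this, hdiv] at h1
    exact h1
  refine ⟨W'.map H.subtype, Subgroup.map_subtype_le W', ?_, ?_, ?_, ?_, ?_⟩
  · rintro g hg _ ⟨w, hw, rfl⟩
    refine ⟨⟨g, hg⟩ * w * ⟨g, hg⟩⁻¹, h3.conj_mem w hw ⟨g, hg⟩, ?_⟩
    simp
  · rintro g hg _ ⟨w, hw, rfl⟩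
    refine ⟨(⟨g, hg⟩ : Q) • w, Cfsg.Agent.S4117.smul_mem_closure (⟨g, hg⟩ : Q) hw, ?_⟩
    rw [Subgroup.coe_subtype, hsmul]
  · have h6 : (W' ⊔ C').map H.subtype = H := by
      rw [h5, ← MonoidHom.range_eq_map, Subgroup.range_subtype]
    rw [Subgroup.map_sup, hC', Subgroup.map_subgroupOf_eq_of_le hCle] at h6
    exact h6
  · rw [← hcardC, hcardW]
    exact h1'
  · rw [← hcardC, hcardW]
    exact hcard

end Cfsg.Agent.H15.Fg8
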