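import Mathlib
import Cfsg.Agent.H15.Fg8R2

set_option autoImplicit false

/-!
S4151 project, piece R1a: a `p`-subgroup of a TI subgroup `H` acting non-trivially on a normal
subgroup `O` of coprime order acts faithfully and fixed-point-freely on a finite abelian group
(reduction to the solvable case Q6 through an invariant Sylow subgroup of `O`).
-/

namespace Cfsg.Agent.H15.Fg8

open Cfsg Cfsg.Agent.H72.Zas
open scoped Pointwise

universe u

theorem mem_normalizer_of_forall_conj {G : Type*} [Group G] {H : Subgroup G} [Finite H] {g : G}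
    (h : ∀ u ∈ H, g * u * g⁻¹ ∈ H) : g ∈ Subgroup.normalizer (H : Set G) := by
  rw [Subgroup.mem_normalizer_iff]
  intro v
  refine ⟨h v, fun hv => ?_⟩
  let φ : H → H := fun u => ⟨g * u * g⁻¹, h u u.2⟩
  have hinj : Function.Injective φ := by
    intro a b hab
    have h1 : g * (a : G) * g⁻¹ = g * (b : G) * g⁻¹ := congrArg Subtype.val hab
    exact Subtype.ext (mul_left_cancel (mul_right_cancel h1))
  obtain ⟨u, hu⟩ := (Finite.injective_iff_surjective.1 hinj) ⟨g * v * g⁻¹, hv⟩
  have h2 : g * (u : G) * g⁻¹ = g * v * g⁻¹ := congrArg Subtype.val hu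
  have h3 : (u : G) = v := mul_left_cancel (mul_right_cancel h2)
  rw [← h3]
  exact u.2

/-- an element of `O` normalizing `H` centralizes `H` (coprime orders, `O` normal) -/
theorem centralizes_of_mem_normalizer {G : Type u} [Group G] [Finite G] (H O : Subgroup G)
    (hO : O.Normal) (hcop : (Nat.card O).Coprime (Nat.card H)) (x : G) (hx : x ∈ O)
    (hxN : x ∈ Subgroup.normalizer (H : Set G)) : ∀ h ∈ H, x * h = h * x := by
  intro h hh
  have h1 : x * h * x⁻¹ ∈ H := (Subgroup.mem_normalizer_iff.1 hxN h).1 hh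
  have h2 : x * h * x⁻¹ * h⁻¹ ∈ H := H.mul_mem h1 (H.inv_mem hh)
  have h3 : x * h * x⁻¹ * h⁻¹ ∈ O := by
    have : x * h * x⁻¹ * h⁻¹ = x * (h * x⁻¹ * h⁻¹) := by group
    rw [this]
    exact O.mul_mem hx (hO.conj_mem _ (O.inv_mem hx) h)
  have h4 : O ⊓ H = ⊥ := (Subgroup.disjoint_of_coprime_natCard hcop).eq_bot
  have h5 : x * h * x⁻¹ * h⁻¹ ∈ O ⊓ H := ⟨h3, h2⟩
  rw [h4, Subgroup.mem_bot] at h5
  calc x * h = x * h * x⁻¹ * h⁻¹ * (h * x) := by group
    _ = h * x := by rw [h5, one_mul]

theorem stR1a (h6 : StQ6.{u}) : StR1a.{u} := by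
  intro G _ _ H O hTI hO hcop hne p _ P hPH hP
  by_cases hPbot : P = ⊥
  · -- trivial group: act on the trivial group
    refine ⟨PUnit, inferInstance, inferInstance, 1, ?_, ?_⟩
    · intro a b _
      have ha : (a : G) ∈ (⊥ : Subgroup G) := hPbot ▸ a.2
      have hb : (b : G) ∈ (⊥ : Subgroup G) := hPbot ▸ b.2
      rw [Subgroup.mem_bot] at ha hb
      exact Subtype.ext (ha.trans hb.symm)
    · intro h hh
      exfalso
      apply hh
      have ha : (h : G) ∈ (⊥ : Subgroup G) := hPbot ▸ h.2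
      rw [Subgroup.mem_bot] at ha
      exact Subtype.ext ha
  have hp : p.Prime := Fact.out
  -- a non-trivial element of `P`
  obtain ⟨⟨u0, hu0P⟩, hu01⟩ := (Subgroup.ne_bot_iff_exists_ne_one.1 hPbot)
  have hu0 : (u0 : G) ≠ 1 := fun h => hu01 (Subtype.ext h)
  -- `p` does not divide the order of `O`
  have hpO : ¬ p ∣ Nat.card O := by
    intro hdvd
    have hPnt : Nontrivial P := (Subgroup.nontrivial_iff_ne_bot P).2 hPbot
    obtain ⟨k, hk⟩ := hP.exists_card_eq
    have hk1 : k ≠ 0 := by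
      intro h0
      rw [h0, pow_zero] at hk
      exact (Finite.one_lt_card (α := P)).ne' hk
    have h1 : p ∣ Nat.card P := by rw [hk]; exact dvd_pow_self p hk1
    have h2 : p ∣ Nat.card H := h1.trans (Subgroup.card_dvd_of_le hPH)
    exact hp.one_lt.ne' (Nat.eq_one_of_dvd_coprimes hcop hdvd h2)
  -- (a) an element of `O` commuting with a non-trivial element of `H` centralizes `H`
  have ha : ∀ u ∈ H, u ≠ 1 → ∀ x ∈ O, x * u = u * x → ∀ h ∈ H, x * h = h * x := by
    intro u hu hu1 x hx hxu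
    have hxN : x ∈ Subgroup.normalizer (H : Set G) := by
      by_contra hcon
      apply hu1
      apply hTI x hcon u hu
      rw [hxu, mul_inv_cancel_right]
      exact hu
    exact centralizes_of_mem_normalizer H O hO hcop x hx hxN
  -- the conjugation action of `P` on `O`
  have hnO : ∀ q ∈ P, ∀ h ∈ O, q * h * q⁻¹ ∈ O := fun q _ h hh => hO.conj_mem h hh q
  let _ := conjAct O P hnO
  have hsmul : ∀ (q : P) (h : O), ((q • h : O) : G) = (q : G) * (h : G) * (q : G)⁻¹ :=
    fun q h => rfl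
  -- invariant Sylow subgroups
  have hfix : ∀ (r : ℕ) [Fact r.Prime], ∃ R : Sylow r O, ∀ q : P, q • R = R := by
    intro r _
    have hdvd : Nat.card (Sylow r O) ∣ Nat.card O := by
      obtain ⟨R0⟩ : Nonempty (Sylow r O) := inferInstance
      exact (Sylow.card_dvd_index R0).trans (Subgroup.index_dvd_card _)
    have hnd : ¬ p ∣ Nat.card (Sylow r O) := fun h => hpO (h.trans hdvd)
    obtain ⟨R, hR⟩ := hP.nonempty_fixed_point_of_prime_not_dvd_card (Sylow r O) hnd
    exact ⟨R, fun q => hR q⟩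
  -- one of them is not centralizing `H`
  have hex : ∃ (r : ℕ) (_ : Fact r.Prime) (R : Sylow r O), (∀ q : P, q • R = R) ∧
      ∃ y ∈ (R : Subgroup O), ∃ h ∈ H, (y : G) * h ≠ h * (y : G) := by
    by_contra hcon
    push Not at hcon
    apply hne
    set C0 : Subgroup O := (Subgroup.centralizer (H : Set G)).subgroupOf O with hC0
    have hdvd : Nat.card O ∣ Nat.card C0 := by
      rw [Nat.dvd_iff_prime_pow_dvd_dvd]
      intro r k hr hrk
      have : Fact r.Prime := ⟨hr⟩
      obtain ⟨R, hR⟩ := hfix r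
      have h1 : r ^ k ∣ Nat.card (R : Subgroup O) := R.pow_dvd_card_of_pow_dvd_card hrk
      have h2 : (R : Subgroup O) ≤ C0 := by
        intro y hy
        rw [hC0, Subgroup.mem_subgroupOf, Subgroup.mem_centralizer_iff]
        intro h hh
        exact (hcon r ⟨hr⟩ R hR y hy h hh).symm
      exact h1.trans (Subgroup.card_dvd_of_le h2)
    have htop : C0 = ⊤ := by
      apply Subgroup.eq_top_of_card_eq
      exact Nat.dvd_antisymm (Subgroup.card_subgroup_dvd_card C0) hdvd
    intro x hx h hh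
    have : (⟨x, hx⟩ : O) ∈ C0 := by rw [htop]; exact Subgroup.mem_top _
    rw [hC0, Subgroup.mem_subgroupOf, Subgroup.mem_centralizer_iff] at this
    exact (this h hh).symm
  obtain ⟨r, hrF, R, hRfix, y0, hy0R, h0, hh0H, hy0⟩ := hex
  have hr : r.Prime := hrF.out
  -- the image of `R` in `G`
  set RG : Subgroup G := (R : Subgroup O).map O.subtype with hRG
  have hRGO : RG ≤ O := Subgroup.map_subtype_le _
  have hRGp : IsPGroup r RG := R.isPGroup'.map O.subtype
  have hPnR : ∀ q ∈ P, ∀ y ∈ RG, q * y * q⁻¹ ∈ RG := by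
    rintro q hq _ ⟨y, hy, rfl⟩
    have h1 : (⟨q, hq⟩ : P) • y ∈ (⟨q, hq⟩ : P) • (R : Subgroup O) :=
      Subgroup.smul_mem_pointwise_smul y _ _ hy
    rw [← Sylow.pointwise_smul_def, hRfix] at h1
    exact ⟨_, h1, rfl⟩
  have hy0G : (y0 : G) ∈ RG := ⟨y0, hy0R, rfl⟩
  -- `y0` does not commute with `u0`
  have hy0u0 : (y0 : G) * u0 ≠ u0 * (y0 : G) := by
    intro hc
    exact hy0 (ha u0 (hPH hu0P) hu0 y0 y0.2 hc h0 hh0H)
  -- the group `K = R P`
  set K : Subgroup G := RG ⊔ P with hK
  have hRK : RG ≤ K := le_sup_left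
  have hPK : P ≤ K := le_sup_right
  have hKn : K ≤ Subgroup.normalizer (RG : Set G) := by
    apply sup_le
    · exact Subgroup.le_normalizer
    · intro q hq
      exact mem_normalizer_of_forall_conj (fun y hy => hPnR q hq y hy)
  set H' : Subgroup K := P.subgroupOf K with hH'
  set O' : Subgroup K := RG.subgroupOf K with hO'
  have hO'n : O'.Normal := by
    constructor
    intro n hn g
    rw [hO', Subgroup.mem_subgroupOf] at hn ⊢
    have hg := hKn g.2
    have := (Subgroup.mem_normalizer_iff.1 hg (n : G)).1 hn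
    simpa using this
  have hcardO' : Nat.card O' = Nat.card RG :=
    Nat.card_congr (Subgroup.subgroupOfEquivOfLe hRK).toEquiv
  have hcardH' : Nat.card H' = Nat.card P :=
    Nat.card_congr (Subgroup.subgroupOfEquivOfLe hPK).toEquiv
  have hcop' : (Nat.card O').Coprime (Nat.card H') := by
    rw [hcardO', hcardH']
    exact Nat.Coprime.coprime_dvd_left (Subgroup.card_dvd_of_le hRGO)
      (Nat.Coprime.coprime_dvd_right (Subgroup.card_dvd_of_le hPH) hcop)
  have hsolv : Group.IsSolvable O' := by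
    have h1 : IsPGroup r O' := hRGp.comap_subtype
    have : Group.IsNilpotent O' := h1.isNilpotent
    infer_instance
  have hne' : ¬ ∀ x ∈ O', ∀ h ∈ H', x * h = h * x := by
    intro hc
    have := hc ⟨y0, hRK hy0G⟩ (by rw [hO', Subgroup.mem_subgroupOf]; exact hy0G)
      ⟨u0, hPK hu0P⟩ (by rw [hH', Subgroup.mem_subgroupOf]; exact hu0P)
    exact hy0u0 (congrArg Subtype.val this)
  -- `H'` is a TI subgroup of `K`
  have hsupK : O' ⊔ H' = ⊤ := by
    rw [hO', hH', ← Subgroup.subgroupOf_sup hRK hPK]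
    exact Subgroup.subgroupOf_self K
  have hTI' : Cfsg.IsTISubset (H' : Set K) := by
    intro g hg x hx hgx
    by_contra hx1
    apply hg
    have hgmem : g ∈ ((O' ⊔ H' : Subgroup K) : Set K) := by
      rw [hsupK]; exact Subgroup.mem_top g
    have := hO'n
    rw [Subgroup.normal_mul, Set.mem_mul] at hgmem
    obtain ⟨y, hy, v, hv, rfl⟩ := hgmem
    rw [SetLike.mem_coe, hO', Subgroup.mem_subgroupOf] at hy
    rw [SetLike.mem_coe, hH', Subgroup.mem_subgroupOf] at hv
    rw [SetLike.mem_coe, hH', Subgroup.mem_subgroupOf] at hx hgx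
    -- `w = v x v⁻¹`
    have hw : (v : G) * (x : G) * (v : G)⁻¹ ∈ P := P.mul_mem (P.mul_mem hv hx) (P.inv_mem hv)
    have hw1 : (v : G) * (x : G) * (v : G)⁻¹ ≠ 1 := by
      intro h
      apply hx1
      apply Subtype.ext
      have : (x : G) = (v : G)⁻¹ * ((v : G) * (x : G) * (v : G)⁻¹) * (v : G) := by group
      rw [this, h]
      simp
    have hyw : (y : G) * ((v : G) * (x : G) * (v : G)⁻¹) * (y : G)⁻¹ ∈ H := by
      apply hPH
      have : (y : G) * ((v : G) * (x : G) * (v : G)⁻¹) * (y : G)⁻¹ =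
          ((y * v * x * (y * v)⁻¹ : K) : G) := by
        simp only [Subgroup.coe_mul, Subgroup.coe_inv]
        group
      rw [this]
      exact hgx
    have hyN : (y : G) ∈ Subgroup.normalizer (H : Set G) := by
      by_contra hcon
      exact hw1 (hTI (y : G) hcon _ (hPH hw) hyw)
    have hyc := centralizes_of_mem_normalizer H O hO hcop (y : G) (hRGO hy) hyN
    apply mem_normalizer_of_forall_conj
    intro z hz
    rw [hH', Subgroup.mem_subgroupOf] at hz ⊢
    have hvz : (v : G) * (z : G) * (v : G)⁻¹ ∈ P := P.mul_mem (P.mul_mem hv hz) (P.inv_mem hv)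
    have h1 : ((y * v * z * (y * v)⁻¹ : K) : G) =
        (y : G) * ((v : G) * (z : G) * (v : G)⁻¹) * (y : G)⁻¹ := by
      simp only [Subgroup.coe_mul, Subgroup.coe_inv]
      group
    rw [h1, hyc _ (hPH hvz), mul_inv_cancel_right]
    exact hvz
  obtain ⟨U, iC, iF, φ, hφinj, hφfpf⟩ := h6 K H' O' hTI' hO'n hcop' hsolv hne'
  let e : P ≃* H' := (Subgroup.subgroupOfEquivOfLe hPK).symm
  refine ⟨U, iC, iF, φ.comp e.toMonoidHom, ?_, ?_⟩
  · exact hφinj.comp e.injective
  · intro h hh u hu
    apply hφfpf (e h) _ u hu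
    intro h1
    apply hh
    apply e.injective
    rw [h1, map_one]

end Cfsg.Agent.H15.Fg8
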