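import Cfsg.Agent.H86.GsDefs

/-!
# GS-GOOD (helper15, for helper86's S5665): every vector `K`-orthogonal to `u` is a sum of two good vectors
`K`-orthogonal to `u`

`Y = {x | f x u = 0 ∧ f x (J u) = 0}` is a `J`-invariant subspace of dimension at least `2m - 2 > m`; if `psi`
vanished on `Y` then `Y` would be totally isotropic, of dimension at most `m`.
-/

set_option autoImplicit false

namespace Cfsg.Agent.H15.Gs

open Cfsg Cfsg.Geo Cfsg.Agent.H95 Cfsg.Agent.H86.Gs
open scoped MatrixGroups Matrix
open Module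

universe u

section Good

variable {m : ℕ} {F : Type*} [Field F]

/-- The `K`-orthogonal complement of `u` as a subspace. -/
noncomputable def kperp (J : Mat m F) (u : V m F) : Submodule F (V m F) :=
  LinearMap.ker ((sympL u).prod (sympL (J *ᵥ u)))

lemma mem_kperp (J : Mat m F) (u x : V m F) :
    x ∈ kperp J u ↔ sympForm m F x u = 0 ∧ sympForm m F x (J *ᵥ u) = 0 := by
  unfold kperp
  rw [LinearMap.mem_ker, LinearMap.prod_apply]
  exact Prod.mk_eq_zero

lemma finrank_kperp_ge (J : Mat m F) (u : V m F) : 2 * m ≤ finrank F (kperp J u) + 2 := by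
  have h : finrank F (LinearMap.range ((sympL u).prod (sympL (J *ᵥ u)))) + finrank F (kperp J u)
      = 2 * m := by
    rw [← finrank_sp (F := F) (m := m)]
    exact LinearMap.finrank_range_add_finrank_ker ((sympL u).prod (sympL (J *ᵥ u)))
  have h2 : finrank F (LinearMap.range ((sympL u).prod (sympL (J *ᵥ u)))) ≤ 2 := by
    calc finrank F (LinearMap.range ((sympL u).prod (sympL (J *ᵥ u))))
        ≤ finrank F (F × F) := Submodule.finrank_le _
      _ = 2 := by simp
  omega

lemma finrank_le_of_isotropic (W : Submodule F (V m F))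
    (h : ∀ x ∈ W, ∀ y ∈ W, sympForm m F x y = 0) : finrank F W ≤ m := by
  have hle : W ≤ (Cfsg.Agent.H17.sympBilin m F).orthogonal W := by
    intro y hy
    rw [LinearMap.BilinForm.mem_orthogonal_iff]
    intro n hn
    rw [Cfsg.Agent.H17.sympBilin_apply]
    exact h n hn y hy
  have h1 : finrank F W ≤ finrank F ((Cfsg.Agent.H17.sympBilin m F).orthogonal W) :=
    Submodule.finrank_mono hle
  have h2 : finrank F ((Cfsg.Agent.H17.sympBilin m F).orthogonal W) = 2 * m - finrank F W := by
    rw [← finrank_sp (F := F) (m := m)]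
    exact LinearMap.BilinForm.finrank_orthogonal
      (Cfsg.Agent.H17.sympBilin_nondegenerate (F := F) m) W
  omega

lemma exists_good {J : Mat m F} {δ : F} (C : Ctx J δ) (hm : 3 ≤ m) (u : V m F) :
    ∃ y₀ : V m F, sympForm m F y₀ u = 0 ∧ sympForm m F y₀ (J *ᵥ u) = 0 ∧ psi J y₀ ≠ 0 := by
  by_contra hcon
  push Not at hcon
  have hpsi : ∀ x ∈ kperp J u, psi J x = 0 := fun x hx => by
    rw [mem_kperp] at hx
    exact hcon x hx.1 hx.2
  have hJ : ∀ x ∈ kperp J u, J *ᵥ x ∈ kperp J u := by
    intro x hx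
    rw [mem_kperp] at hx ⊢
    refine ⟨?_, ?_⟩
    · rw [C.skew, hx.2, neg_zero]
    · rw [C.formJJ, hx.1, mul_zero]
  have hxJy : ∀ x ∈ kperp J u, ∀ y ∈ kperp J u, sympForm m F x (J *ᵥ y) = 0 := by
    intro x hx y hy
    have h1 := hpsi (x + y) (Submodule.add_mem _ hx hy)
    have h2 := hpsi x hx
    have h3 := hpsi y hy
    unfold psi at h1 h2 h3
    rw [Matrix.mulVec_add] at h1
    simp only [sympForm_add_left, sympForm_add_right] at h1
    rw [h2, h3] at h1
    have h4 : sympForm m F y (J *ᵥ x) = sympForm m F x (J *ᵥ y) := by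
      rw [sympForm_skew y (J *ᵥ x), C.skew x y, neg_neg]
    rw [h4] at h1
    have h5 : (2 : F) * sympForm m F x (J *ᵥ y) = 0 := by linear_combination h1
    rcases mul_eq_zero.mp h5 with h | h
    · exact absurd h C.two
    · exact h
  have hiso : ∀ x ∈ kperp J u, ∀ y ∈ kperp J u, sympForm m F x y = 0 := by
    intro x hx y hy
    have hy' : y = J *ᵥ ((-δ⁻¹) • (J *ᵥ y)) := by
      rw [Matrix.mulVec_smul, C.sq, smul_neg, neg_smul, neg_neg, smul_smul,
        inv_mul_cancel₀ C.delta_ne, one_smul]
    rw [hy']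
    exact hxJy x hx _ (Submodule.smul_mem _ _ (hJ y hy))
  have h1 := finrank_le_of_isotropic _ hiso
  have h2 := finrank_kperp_ge J u
  omega

end Good

/-- **GS-GOOD**. -/
theorem gsGood : StGood.{u} := by
  intro m F _ J δ C hm u y hy1 hy2
  obtain ⟨y₀, h01, h02, h0⟩ := exists_good C hm u
  obtain ⟨z, hz1, hz2, hz, hzy⟩ : ∃ z : V m F, sympForm m F z u = 0 ∧
      sympForm m F z (J *ᵥ u) = 0 ∧ psi J z ≠ 0 ∧ psi J y + psi J z ≠ 0 := by
    by_cases h : psi J y + psi J y₀ = 0
    · refine ⟨(1 : F) • y₀ + (1 : F) • (J *ᵥ y₀), ?_, ?_, ?_, ?_⟩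
      · rw [sympForm_add_left, sympForm_smul_left, sympForm_smul_left, h01, C.skew, h02]
        simp
      · rw [sympForm_add_left, sympForm_smul_left, sympForm_smul_left, h02, C.formJJ, h01]
        simp
      · rw [C.psi_comb]
        have h1 := C.irr 1
        exact mul_ne_zero (by simpa using h1) h0
      · rw [C.psi_comb]
        intro h'
        have h2 : δ * psi J y₀ = 0 := by linear_combination h' - h
        rcases mul_eq_zero.mp h2 with h'' | h''
        · exact C.delta_ne h''
        · exact h0 h''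
    · exact ⟨y₀, h01, h02, h0, h⟩
  have hsum : psi J (y + z) + psi J (y - z) = 2 * (psi J y + psi J z) := by
    unfold psi
    rw [Matrix.mulVec_add, Matrix.mulVec_sub]
    simp only [sympForm_add_left, sympForm_add_right, sympForm_sub_left, sympForm_sub_right]
    ring
  by_cases hc : psi J (y + z) = 0
  · have hc' : psi J (y - z) ≠ 0 := by
      intro h'
      rw [hc, h', add_zero] at hsum
      exact (mul_ne_zero C.two hzy) hsum.symm
    refine ⟨y - z, z, hc', hz, ?_, ?_, hz1, hz2, by abel⟩
    · rw [sympForm_sub_left, hy1, hz1, sub_zero]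
    · rw [sympForm_sub_left, hy2, hz2, sub_zero]
  · have hneg : psi J ((-1 : F) • z) = psi J z := by
      unfold psi
      rw [Matrix.mulVec_smul, sympForm_smul_left, sympForm_smul_right]
      ring
    refine ⟨y + z, (-1 : F) • z, hc, by rw [hneg]; exact hz, ?_, ?_, ?_, ?_, by module⟩
    · rw [sympForm_add_left, hy1, hz1, add_zero]
    · rw [sympForm_add_left, hy2, hz2, add_zero]
    · rw [sympForm_smul_left, hz1, mul_zero]
    · rw [sympForm_smul_left, hz2, mul_zero]

example : StGood.{u} := gsGood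

end Cfsg.Agent.H15.Gs

#print axioms Cfsg.Agent.H15.Gs.gsGood
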