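import Mathlib
import Cfsg.Agent.H10.HO.Defs

/-!
# HO-NONINN (helper15, for helper10's S2075 project HO)

`|G| = 17 m`, `m ≡ 8 (mod 17)`, `x` of order 17 with `C_G(x) = ⟨x⟩`.  Then `N_G(⟨x⟩)/⟨x⟩` has order 8
(Sylow counting, as in helper20's `Cfsg.Agent.H20.FO.norm13`), so an element `n` with
`n x n⁻¹ = x ^ r` has `r ^ 8 ≡ 1 (mod 17)`.  Hence an automorphism `θ` with
`θ x = ν x^r ν⁻¹`, `r ^ 8 % 17 ≠ 1`, is not inner.
-/

set_option autoImplicit false

namespace Cfsg.Agent.H15.Ho

open Subgroup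

universe u

/-- **HO-NONINN**. -/
theorem nonInn : Cfsg.Agent.H10.HO.StNonInn.{u} := by
  intro G _ _ x ν m r θ hG hm hx17 hx1 hC hr hθ g hg
  classical
  have hp : Fact (Nat.Prime 17) := ⟨by norm_num⟩
  have hord : orderOf x = 17 := orderOf_eq_prime hx17 hx1
  have hPcard : Nat.card (zpowers x) = 17 := by rw [Nat.card_zpowers, hord]
  have hxP : x ∈ zpowers x := mem_zpowers x
  have hPpow : ∀ y ∈ zpowers x, ∃ i : ℕ, y = x ^ i := by
    intro y hy
    rw [← mem_powers_iff_mem_zpowers] at hy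
    obtain ⟨i, rfl⟩ := hy
    exact ⟨i, rfl⟩
  have hCP : centralizer ((zpowers x : Subgroup G) : Set G) = zpowers x := by
    apply le_antisymm
    · intro g hg
      obtain ⟨i, rfl⟩ := hC g (hg x hxP).symm
      exact pow_mem hxP i
    · intro g hg y hy
      obtain ⟨i, rfl⟩ := hPpow g hg
      obtain ⟨j, rfl⟩ := hPpow y hy
      rw [← pow_add, ← pow_add, add_comm]
  have hm17 : ¬ 17 ∣ m := by omega
  have hPp : IsPGroup 17 (zpowers x) := IsPGroup.of_card (n := 1) (by rw [hPcard]; norm_num)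
  obtain ⟨Q, hPQ⟩ := hPp.exists_le_sylow
  have hQcard : Nat.card (Q : Subgroup G) = 17 := by
    have hm0 : m ≠ 0 := by rintro rfl; exact hm17 (dvd_zero 17)
    rw [Sylow.card_eq_multiplicity, hG, Nat.factorization_mul (by norm_num) hm0]
    simp [Nat.factorization_eq_zero_of_not_dvd hm17,
      (by norm_num : Nat.Prime 17).factorization_self]
  have hQP : zpowers x = (Q : Subgroup G) :=
    Subgroup.eq_of_le_of_card_ge hPQ (by rw [hQcard, hPcard])
  have hn1 : Nat.card (Sylow 17 G) = (normalizer ((Q : Subgroup G) : Set G)).index :=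
    Sylow.card_eq_index_normalizer Q
  have hn2 : Nat.card (Sylow 17 G) ≡ 1 [MOD 17] := card_sylow_modEq_one 17 G
  rw [← hQP] at hn1
  have hCN : centralizer ((zpowers x : Subgroup G) : Set G) ≤
      normalizer ((zpowers x : Subgroup G) : Set G) := centralizer_le_normalizer _
  have hs16 : (centralizer ((zpowers x : Subgroup G) : Set G)).relIndex
      (normalizer ((zpowers x : Subgroup G) : Set G)) ∣ 16 := by
    have key := card_dvd_of_injective _
      (QuotientGroup.kerLift_injective (zpowers x).normalizerMonoidHom)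
    rw [normalizerMonoidHom_ker, ← index, ← relIndex] at key
    have hcyc : IsCyclic (zpowers x) := isCyclic_of_prime_card hPcard
    rw [IsCyclic.card_mulAut, hPcard, Nat.totient_prime (by norm_num : Nat.Prime 17)] at key
    exact key
  have hNcard : Nat.card (centralizer ((zpowers x : Subgroup G) : Set G)) *
      (centralizer ((zpowers x : Subgroup G) : Set G)).relIndex
        (normalizer ((zpowers x : Subgroup G) : Set G)) =
      Nat.card (normalizer ((zpowers x : Subgroup G) : Set G)) := by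
    have := Subgroup.card_mul_index ((centralizer ((zpowers x : Subgroup G) : Set G)).subgroupOf
      (normalizer ((zpowers x : Subgroup G) : Set G)))
    rw [← this]
    congr 1
    exact (Nat.card_congr (Subgroup.subgroupOfEquivOfLe hCN).toEquiv).symm
  rw [hCP] at hs16 hNcard
  rw [hPcard] at hNcard
  have h5 := (normalizer ((zpowers x : Subgroup G) : Set G)).card_mul_index
  rw [hG, ← hn1, ← hNcard] at h5
  have hs8 : (zpowers x).relIndex (normalizer ((zpowers x : Subgroup G) : Set G)) = 8 := by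
    have hmem : (zpowers x).relIndex (normalizer ((zpowers x : Subgroup G) : Set G)) ∈
        Nat.divisors 16 := Nat.mem_divisors.2 ⟨hs16, by norm_num⟩
    have hd : Nat.divisors 16 = {1, 2, 4, 8, 16} := by decide
    rw [hd] at hmem
    simp only [Finset.mem_insert, Finset.mem_singleton] at hmem
    have hn2' : Nat.card (Sylow 17 G) % 17 = 1 := hn2
    have h6 : (zpowers x).relIndex (normalizer ((zpowers x : Subgroup G) : Set G)) *
        Nat.card (Sylow 17 G) = m := by
      have h17 : 17 * ((zpowers x).relIndex (normalizer ((zpowers x : Subgroup G) : Set G)) *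
          Nat.card (Sylow 17 G)) = 17 * m := by rw [← h5]; ring
      exact Nat.eq_of_mul_eq_mul_left (by norm_num) h17
    have h7 : ((zpowers x).relIndex (normalizer ((zpowers x : Subgroup G) : Set G)) *
        Nat.card (Sylow 17 G)) % 17 = 8 := by rw [h6]; exact hm
    rw [Nat.mul_mod, hn2'] at h7
    rcases hmem with h | h | h | h | h <;> rw [h] at h7 <;> omega
  have hRcard : Nat.card (zpowers x).normalizerMonoidHom.range = 8 := by
    rw [← Subgroup.index_ker, normalizerMonoidHom_ker, hCP]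
    exact hs8
  -- the element `n = ν⁻¹ g` normalizes `⟨x⟩` and maps `x` to `x ^ r`
  have hgx : g * x * g⁻¹ = ν * x ^ r * ν⁻¹ := by
    rw [← hθ, hg]
    rfl
  have hn : (ν⁻¹ * g) * x * (ν⁻¹ * g)⁻¹ = x ^ r := by
    have e1 : (ν⁻¹ * g) * x * (ν⁻¹ * g)⁻¹ = ν⁻¹ * (g * x * g⁻¹) * ν := by group
    rw [e1, hgx]
    group
  have hfwd : ∀ h ∈ zpowers x, (ν⁻¹ * g) * h * (ν⁻¹ * g)⁻¹ ∈ zpowers x := by
    intro h hh
    obtain ⟨i, rfl⟩ := hPpow h hh
    have e1 : (ν⁻¹ * g) * x ^ i * (ν⁻¹ * g)⁻¹ = (x ^ r) ^ i := by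
      rw [← hn, conj_pow]
    rw [e1]
    exact pow_mem (pow_mem hxP r) i
  have hnN : ν⁻¹ * g ∈ normalizer ((zpowers x : Subgroup G) : Set G) := by
    rw [mem_normalizer_iff]
    intro h
    constructor
    · exact hfwd h
    · intro hh
      have hinj : Function.Injective
          (fun y : zpowers x => (⟨(ν⁻¹ * g) * y.1 * (ν⁻¹ * g)⁻¹, hfwd y.1 y.2⟩ : zpowers x)) := by
        intro y1 y2 h12
        have h0 : (ν⁻¹ * g) * y1.1 * (ν⁻¹ * g)⁻¹ = (ν⁻¹ * g) * y2.1 * (ν⁻¹ * g)⁻¹ :=
          congrArg Subtype.val h12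
        exact Subtype.ext (mul_left_cancel (mul_right_cancel h0))
      have hsurj := Finite.surjective_of_injective hinj
      obtain ⟨y, hy⟩ := hsurj ⟨(ν⁻¹ * g) * h * (ν⁻¹ * g)⁻¹, hh⟩
      have h0 : (ν⁻¹ * g) * y.1 * (ν⁻¹ * g)⁻¹ = (ν⁻¹ * g) * h * (ν⁻¹ * g)⁻¹ :=
        congrArg Subtype.val hy
      have h1 : y.1 = h := mul_left_cancel (mul_right_cancel h0)
      rw [← h1]
      exact y.2
  obtain ⟨τ, hτdef⟩ : ∃ τ : (zpowers x).normalizerMonoidHom.range,
      τ.1 = (zpowers x).normalizerMonoidHom ⟨ν⁻¹ * g, hnN⟩ := ⟨⟨_, ⟨_, rfl⟩⟩, rfl⟩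
  have hτx : ((τ.1 ⟨x, hxP⟩ : zpowers x) : G) = x ^ r := by
    rw [hτdef]
    exact hn
  have h8 : τ.1 ^ 8 = 1 := by
    have h := pow_card_eq_one' (G := (zpowers x).normalizerMonoidHom.range) (x := τ)
    rw [hRcard] at h
    exact_mod_cast congrArg Subtype.val h
  have hpow : ∀ n : ℕ, (((τ.1 ^ n) ⟨x, hxP⟩ : zpowers x) : G) = x ^ (r ^ n) := by
    intro n
    induction n with
    | zero => simp
    | succ n ih =>
      rw [pow_succ', MulAut.mul_apply]
      have h1 : (τ.1 ^ n) ⟨x, hxP⟩ = (⟨x, hxP⟩ : zpowers x) ^ (r ^ n) :=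
        Subtype.ext (by rw [ih]; simp)
      rw [h1, map_pow]
      simp only [SubmonoidClass.coe_pow, hτx]
      rw [← pow_mul, pow_succ']
  have h1 := hpow 8
  rw [h8] at h1
  simp only [MulAut.one_apply] at h1
  have hmod : r ^ 8 ≡ 1 [MOD 17] := by
    rw [← hord]
    apply (pow_eq_pow_iff_modEq (x := x)).1
    rw [pow_one]
    exact h1.symm
  exact hr hmod

example : Cfsg.Agent.H10.HO.StNonInn.{u} := nonInn

end Cfsg.Agent.H15.Ho

#print axioms Cfsg.Agent.H15.Ho.nonInn
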