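import Mathlib
import Cfsg.Agent.H95.HupDefs
import Cfsg.Agent.H60.Cores

/-!
# S3360-64A (team piece for helper95)

A solvable group acting faithfully and transitively on the nonzero vectors of a space with `64`
elements has a nontrivial normal `7`-subgroup.
-/

set_option autoImplicit false

universe u w

namespace Cfsg.Agent.H15.Hup

open Cfsg.Agent.H95.Hup

theorem pow_three_modEq_seven : ∀ a c : ℕ, c ≤ a → a ≤ 4 → 3 ^ a ≡ 3 ^ c [MOD 7] → a = c := by
  intro a c h1 h2
  interval_cases a <;> interval_cases c <;> decide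

theorem s64a (hDvd : DvdStmt.{u, w}) (hOT : OTStmt.{u, w}) (hFit : FitStmt.{w})
    (hGL6 : GL6Stmt.{u, w}) : S64AStmt.{u, w} := by
  intro V _ _ _ _ G _ _ ρ hsolv hinj htrans hV
  have hp7 : Nat.Prime 7 := by norm_num
  have : Fact (Nat.Prime 7) := ⟨hp7⟩
  have h63 : 63 ∣ Nat.card G := by
    have h := hDvd 2 ρ htrans
    rwa [hV] at h
  have hG6 := hGL6 ρ hinj hV
  obtain ⟨y, hy⟩ := exists_prime_orderOf_dvd_card' (G := G) 7 (dvd_trans (by norm_num) h63)
  rcases hFit hsolv 7 y hp7 hy with h | ⟨s, hs, hs7, u, hu, hyu⟩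
  · exact h
  exfalso
  have hsF : Fact s.Prime := ⟨hs⟩
  obtain ⟨S, hS⟩ : ∃ S : Subgroup G, S = Cfsg.pCore s G := ⟨_, rfl⟩
  rw [← hS] at hu
  have hSn : S.Normal := by
    rw [hS]
    exact Subgroup.sSup_normal _ (fun _ h => h.1)
  have hSp : IsPGroup s S := by
    rw [hS]
    exact Cfsg.Agent.H60.isPGroup_pCore s
  have hSne : S ≠ ⊥ := by
    intro h
    rw [h, Subgroup.mem_bot] at hu
    apply hyu
    rw [hu, mul_one, one_mul]
  have hs63 : s ∣ 63 := by
    by_contra hnot
    apply hSne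
    refine hOT 2 ρ hinj htrans s hs ?_ S hSn hSp
    rwa [hV]
  have hs3 : s = 3 := by
    have h1 : s ∣ 3 ^ 2 * 7 := hs63
    rcases (Nat.Prime.dvd_mul hs).mp h1 with h | h
    · exact (Nat.prime_dvd_prime_iff_eq hs Nat.prime_three).mp (hs.dvd_of_dvd_pow h)
    · exact absurd ((Nat.prime_dvd_prime_iff_eq hs hp7).mp h) hs7
  obtain ⟨a, ha⟩ := hSp.exists_card_eq
  rw [hs3] at ha
  have ha4 : a ≤ 4 := by
    have h1 : 3 ^ a ∣ 20158709760 := by
      rw [← ha]
      exact dvd_trans (Subgroup.card_subgroup_dvd_card S) hG6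
    by_contra hlt
    push Not at hlt
    have h2 : 3 ^ 5 ∣ 20158709760 := dvd_trans (pow_dvd_pow 3 hlt) h1
    norm_num at h2
  -- the action of `⟨y⟩` on `S` by conjugation
  let act : MulAction (Subgroup.zpowers y) S :=
    MulAction.compHom S ((MulAut.conjNormal (H := S)).comp (Subgroup.zpowers y).subtype)
  have hsmul : ∀ (g : Subgroup.zpowers y) (v : S), ((g • v : S) : G) = g * v * (g : G)⁻¹ := by
    intro g v
    rfl
  have hP : IsPGroup 7 (Subgroup.zpowers y) :=
    IsPGroup.of_card (n := 1) (by rw [Nat.card_zpowers, hy, pow_one])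
  have hmod := hP.card_modEq_card_fixedPoints S
  obtain ⟨C, hC⟩ : ∃ C : Subgroup S, C = (Subgroup.centralizer {y}).subgroupOf S := ⟨_, rfl⟩
  have hfix : MulAction.fixedPoints (Subgroup.zpowers y) S = (C : Set S) := by
    ext v
    rw [MulAction.mem_fixedPoints, SetLike.mem_coe, hC, Subgroup.mem_subgroupOf,
      Subgroup.mem_centralizer_iff]
    constructor
    · intro h z hz
      rw [Set.mem_singleton_iff] at hz
      subst hz
      have h1 := congrArg Subtype.val (h ⟨z, Subgroup.mem_zpowers z⟩)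
      rw [hsmul] at h1
      simp only at h1
      calc z * (v : G) = z * (v : G) * z⁻¹ * z := by group
        _ = (v : G) * z := by rw [h1]
    · intro h g
      have h1 : y ∈ Subgroup.centralizer {(v : G)} := by
        rw [Subgroup.mem_centralizer_iff]
        intro z hz
        rw [Set.mem_singleton_iff] at hz
        subst hz
        exact (h y rfl).symm
      have h2 : (g : G) ∈ Subgroup.centralizer {(v : G)} :=
        (Subgroup.zpowers_le.mpr h1) g.2
      rw [Subgroup.mem_centralizer_iff] at h2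
      have h3 := h2 (v : G) rfl
      apply Subtype.ext
      rw [hsmul, ← h3]
      group
  have hcardfix : Nat.card (MulAction.fixedPoints (Subgroup.zpowers y) S) = Nat.card C := by
    rw [hfix]
    rfl
  rw [hcardfix, ha] at hmod
  have hCdvd : Nat.card C ∣ 3 ^ a := by
    rw [← ha]
    exact Subgroup.card_subgroup_dvd_card C
  obtain ⟨c, hca, hc⟩ := (Nat.dvd_prime_pow Nat.prime_three).mp hCdvd
  rw [hc] at hmod
  have hac := pow_three_modEq_seven a c hca ha4 hmod
  have hCtop : C = ⊤ := by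
    apply (Subgroup.card_eq_iff_eq_top C).mp
    rw [hc, ha, hac]
  have huC : (⟨u, hu⟩ : S) ∈ C := by
    rw [hCtop]
    exact Subgroup.mem_top _
  rw [hC, Subgroup.mem_subgroupOf, Subgroup.mem_centralizer_iff] at huC
  exact hyu (huC y rfl)

end Cfsg.Agent.H15.Hup

example : Cfsg.Agent.H95.Hup.DvdStmt.{u, w} → Cfsg.Agent.H95.Hup.OTStmt.{u, w} →
    Cfsg.Agent.H95.Hup.FitStmt.{w} → Cfsg.Agent.H95.Hup.GL6Stmt.{u, w} →
    Cfsg.Agent.H95.Hup.S64AStmt.{u, w} := Cfsg.Agent.H15.Hup.s64a
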