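import Mathlib
import Cfsg.Agent.H26.P2Defs

/-!
# S4705 piece P2-TRF (helper15): transfer into an abelian Sylow subgroup

A central element of order dividing `r` lying in the commutator subgroup is trivial when the Sylow
`r`-subgroups are abelian.
-/

set_option autoImplicit false

namespace Cfsg.Agent.H15.P2

universe u

theorem trf : Cfsg.Agent.H26.P2.StTrf.{u} := by
  intro G _ _ r _ R hab z hz hzc hzr
  classical
  have hcomm : ∀ g : G, g * z = z * g := fun g => Subgroup.mem_center_iff.mp hz g
  -- `z ∈ R`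
  have hzR : z ∈ (R : Subgroup G) := by
    have hp : IsPGroup r (Subgroup.zpowers z) := by
      intro x
      obtain ⟨k, hk⟩ := x.2
      refine ⟨1, ?_⟩
      apply Subtype.ext
      rw [pow_one, Subgroup.coe_pow, ← hk, ← zpow_natCast, ← zpow_mul, mul_comm, zpow_mul,
        zpow_natCast, hzr, one_zpow]
      rfl
    obtain ⟨Q, hQ⟩ := hp.exists_le_sylow
    obtain ⟨g, rfl⟩ := MulAction.exists_smul_eq G Q R
    have hzQ : z ∈ (Q : Subgroup G) := hQ (Subgroup.mem_zpowers z)
    rw [Sylow.coe_subgroup_smul]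
    have h1 : MulAut.conj g • z = z := by
      rw [MulAut.smul_def, MulAut.conj_apply]
      rw [hcomm g, mul_inv_cancel_right]
    rw [← h1]
    exact Subgroup.smul_mem_pointwise_smul _ _ _ hzQ
  let _inst : CommGroup ↥(R : Subgroup G) :=
    { (inferInstance : Group ↥(R : Subgroup G)) with
      mul_comm := fun a b => Subtype.ext (hab a a.2 b b.2) }
  have key := MonoidHom.transfer_eq_pow (MonoidHom.id ↥(R : Subgroup G)) z (fun k g₀ _ => by
    have h2 : g₀⁻¹ * z ^ k = z ^ k * g₀⁻¹ :=
      Subgroup.mem_center_iff.mp (Subgroup.pow_mem _ hz k) g₀⁻¹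
    rw [h2, inv_mul_cancel_right])
  have h1 : MonoidHom.transfer (MonoidHom.id ↥(R : Subgroup G)) z = 1 :=
    MonoidHom.mem_ker.mp (Abelianization.commutator_subset_ker _ hzc)
  rw [h1] at key
  have h2 : z ^ (R : Subgroup G).index = 1 := (congrArg Subtype.val key).symm
  have h3 : orderOf z ∣ (R : Subgroup G).index := orderOf_dvd_of_pow_eq_one h2
  have h4 : orderOf z ∣ r := orderOf_dvd_of_pow_eq_one hzr
  have hr : r.Prime := Fact.out
  rcases (Nat.dvd_prime hr).mp h4 with h5 | h5
  · exact orderOf_eq_one_iff.mp h5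
  · exfalso
    rw [h5] at h3
    exact R.not_dvd_index h3

example : Cfsg.Agent.H26.P2.StTrf.{u} := trf

end Cfsg.Agent.H15.P2

#print axioms Cfsg.Agent.H15.P2.trf
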