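import Cfsg.Agent.H45.R2Defs

set_option autoImplicit false

/-!
# S1152 + S1157 (helper45), piece R5

The involution `h(-1,-1)` commutes with the image of `ψ`.
-/

open Cfsg Cfsg.Lie Cfsg.Agent.H22 Cfsg.Agent.H22.GEx Cfsg.Agent.H22.Ree Cfsg.Agent.H45.R2 Matrix

namespace Cfsg.Agent.H15.R2

variable {K : Type*} [Field K] [CharP K 3] {e : ℕ} (C : Ctx K e)

theorem p73 : pairZ chevG2 7 3 = 1 := by decide +kernel
theorem p63 : pairZ chevG2 6 3 = -1 := by decide +kernel
theorem p71 : pairZ chevG2 7 1 = -3 := by decide +kernel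
theorem p61 : pairZ chevG2 6 1 = 1 := by decide +kernel

theorem acomm : ACommStmt C := by
  intro g
  obtain ⟨a, ha⟩ : ∃ a : GL chevG2.Idx K, a = (C.hh (-1) (-1) : GL chevG2.Idx K) := ⟨_, rfl⟩
  rw [← ha]
  have hne : (-1 : K) ≠ 0 := neg_ne_zero.mpr one_ne_zero
  have key : ∀ (r : ℕ) (_ : r < chevG2.nroots), chi (-1 : K) (-1) r = 1 → ∀ t : K,
      a * (xg K C.θ r t : GL chevG2.Idx K) = (xg K C.θ r t : GL chevG2.Idx K) * a := by
    intro r hr hchi t
    have h := C.hh_mul_xg (-1) (-1) hne hne r hr t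
    rw [hchi, one_mul] at h
    rw [ha]
    exact congrArg (fun z : ↥(chevG2.group K) => (z : GL chevG2.Idx K)) h
  have m1 : (-1 : K) ^ (-1 : ℤ) = -1 := by
    rw [_root_.zpow_neg, zpow_one]; norm_num
  have c8 : chi (-1 : K) (-1) 8 = 1 := by
    obtain ⟨-, -, v8, -, -, -⟩ := chi_vals (-1 : K) (-1)
    rw [v8, m1, zpow_one]; norm_num
  have c10 : chi (-1 : K) (-1) 10 = 1 := by
    obtain ⟨-, -, -, -, v10, -⟩ := chi_vals (-1 : K) (-1)
    rw [v10, m1, zpow_ofNat]; norm_num
  have c3 : chi (-1 : K) (-1) 3 = 1 := by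
    unfold chi
    rw [p73, p63, m1, zpow_one]; norm_num
  have c1 : chi (-1 : K) (-1) 1 = 1 := by
    unfold chi
    rw [p71, p61, zpow_one, _root_.zpow_neg, zpow_ofNat]; norm_num
  have hcen : ∀ x : GL chevG2.Idx K, a * x = x * a →
      x ∈ Subgroup.centralizer ({a} : Set (GL chevG2.Idx K)) := by
    intro x hx
    rw [Subgroup.mem_centralizer_iff]
    intro h hh
    rw [Set.mem_singleton_iff.mp hh]
    exact hx
  have h8 : ∀ s : SpecialLinearGroup (Fin 2) K,
      phi8 K s ∈ Subgroup.centralizer ({a} : Set (GL chevG2.Idx K)) := by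
    intro s
    rw [phi8_apply]
    apply SL2.phi_mem
    · intro t
      rw [X8_eq C]
      exact hcen _ (key 8 (by decide) c8 t)
    · intro t
      rw [Y8_eq C]
      exact hcen _ (key 3 (by decide) c3 t)
  have h10 : ∀ s : SpecialLinearGroup (Fin 2) K,
      phi10 K s ∈ Subgroup.centralizer ({a} : Set (GL chevG2.Idx K)) := by
    intro s
    rw [phi10_apply]
    apply SL2.phi_mem
    · intro t
      rw [X10_eq C]
      exact hcen _ (key 10 (by decide) c10 t)
    · intro t
      rw [Y10_eq C]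
      exact hcen _ (key 1 (by decide) c1 t)
  have hpsi : psi C.τ g ∈ Subgroup.centralizer ({a} : Set (GL chevG2.Idx K)) := by
    unfold psi
    exact Subgroup.mul_mem _ (h8 _) (h10 _)
  exact Subgroup.mem_centralizer_iff.mp hpsi a (Set.mem_singleton a)

example : ACommStmt C := acomm C

end Cfsg.Agent.H15.R2
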