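import Cfsg.Agent.H45.R2Defs

set_option autoImplicit false

/-!
# S1152 + S1157 (helper45), piece R4

`ψ` maps `SL₂(K)` into the Ree group `²G₂`.
-/

open Cfsg Cfsg.Lie Cfsg.Agent.H22 Cfsg.Agent.H22.GEx Cfsg.Agent.H22.Ree Cfsg.Agent.H45.R2 Matrix

namespace Cfsg.Agent.H15.R2

variable {K : Type*} [Field K] [CharP K 3] {e : ℕ} (C : Ctx K e)

theorem mem (hc : CommStmt (K := K)) (hv : ValStmt C) : MemStmt C := by
  have hu : ∀ u : K, psi C.τ (SL2.uM u) ∈ twistedG2 K e := fun u => by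
    rw [hv.1 u]
    exact C.RP_mem 0 u 0
  have hl : ∀ u : K, psi C.τ (SL2.lM u) ∈ twistedG2 K e := fun u => by
    rw [hv.2 u]
    exact C.RN_mem 0 (-u) 0
  have hmul := psi_mul hc C.τ
  have caseA : ∀ g : SpecialLinearGroup (Fin 2) K, g.1 1 0 ≠ 0 →
      psi C.τ g ∈ twistedG2 K e := by
    intro g hg
    have e1 := SL2.decomp g hg
    rw [e1, hmul, hmul]
    exact Subgroup.mul_mem _ (hu _) (Subgroup.mul_mem _ (hl _) (hu _))
  intro g
  by_cases hg : g.1 1 0 = 0
  · have hd := SL2.det_eq g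
    rw [hg, mul_zero, sub_zero] at hd
    have h00 : g.1 0 0 ≠ 0 := by
      intro h0
      rw [h0, zero_mul] at hd
      exact zero_ne_one hd
    have h1 : psi C.τ (SL2.nM * g) ∈ twistedG2 K e := by
      apply caseA
      rw [SL2.nM_mul_10]
      exact neg_ne_zero.mpr h00
    have h2 : psi C.τ (SL2.nM : SpecialLinearGroup (Fin 2) K) ∈ twistedG2 K e := by
      rw [nM_eq, hmul, hmul]
      exact Subgroup.mul_mem _ (hu _) (Subgroup.mul_mem _ (hl _) (hu _))
    rw [hmul] at h1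
    have h3 : psi C.τ g = (psi C.τ SL2.nM)⁻¹ * (psi C.τ SL2.nM * psi C.τ g) := by group
    rw [h3]
    exact Subgroup.mul_mem _ (Subgroup.inv_mem _ h2) h1
  · exact caseA g hg

example (hc : CommStmt (K := K)) (hv : ValStmt C) : MemStmt C := mem C hc hv

end Cfsg.Agent.H15.R2
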