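import Mathlib

/-!
# Groups of class less than `p` are regular

The `p^n`-th power map of a group of class `< p` whose derived subgroup has exponent dividing `p^n`
is multiplicative.  Proof by induction on the class, with a homogeneity argument in the power
`G × G → G`.
-/

set_option autoImplicit false
open scoped commutatorElement

universe u

namespace Cfsg.Agent.H15

theorem rg_comm_mul_right {Q : Type*} [Group Q] (A B C : Q)
    (hc : ∀ g : Q, g * ⁅A, C⁆ = ⁅A, C⁆ * g) : ⁅A, B * C⁆ = ⁅A, B⁆ * ⁅A, C⁆ := by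
  have h1 := hc B⁻¹
  simp only [commutatorElement_def] at h1 ⊢
  calc A * (B * C) * A⁻¹ * (B * C)⁻¹ = A * B * A⁻¹ * ((A * C * A⁻¹ * C⁻¹) * B⁻¹) := by group
    _ = A * B * A⁻¹ * (B⁻¹ * (A * C * A⁻¹ * C⁻¹)) := by rw [h1]
    _ = A * B * A⁻¹ * B⁻¹ * (A * C * A⁻¹ * C⁻¹) := by group

theorem rg_comm_pow_right {Q : Type*} [Group Q] (A B : Q)
    (hc : ∀ g : Q, g * ⁅A, B⁆ = ⁅A, B⁆ * g) (k : ℕ) : ⁅A, B ^ k⁆ = ⁅A, B⁆ ^ k := by
  induction k with
  | zero => simp
  | succ k ih => rw [pow_succ, rg_comm_mul_right A (B ^ k) B hc, ih, pow_succ]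

theorem rg_comm_mul_left {Q : Type*} [Group Q] (A₁ A₂ B : Q)
    (hc : ∀ g : Q, g * ⁅A₂, B⁆ = ⁅A₂, B⁆ * g) : ⁅A₁ * A₂, B⁆ = ⁅A₁, B⁆ * ⁅A₂, B⁆ := by
  have h1 := hc A₁
  have h2 := hc ⁅A₁, B⁆
  rw [h2]
  simp only [commutatorElement_def] at h1 ⊢
  calc A₁ * A₂ * B * (A₁ * A₂)⁻¹ * B⁻¹
      = (A₁ * (A₂ * B * A₂⁻¹ * B⁻¹)) * B * A₁⁻¹ * B⁻¹ := by group
    _ = ((A₂ * B * A₂⁻¹ * B⁻¹) * A₁) * B * A₁⁻¹ * B⁻¹ := by rw [h1]
    _ = A₂ * B * A₂⁻¹ * B⁻¹ * (A₁ * B * A₁⁻¹ * B⁻¹) := by group

theorem rg_comm_pow_left {Q : Type*} [Group Q] (A B : Q)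
    (hc : ∀ g : Q, g * ⁅A, B⁆ = ⁅A, B⁆ * g) (m : ℕ) : ⁅A ^ m, B⁆ = ⁅A, B⁆ ^ m := by
  induction m with
  | zero => simp
  | succ m ih => rw [pow_succ, rg_comm_mul_left (A ^ m) A B hc, ih, pow_succ]

theorem rg_comm_central_mul {Q : Type*} [Group Q] (c X D : Q) (hc : ∀ g : Q, g * c = c * g) :
    ⁅c * X, D⁆ = ⁅X, D⁆ := by
  have h1 := hc (X * D * X⁻¹)
  simp only [commutatorElement_def]
  calc c * X * D * (c * X)⁻¹ * D⁻¹ = c * (X * D * X⁻¹) * c⁻¹ * D⁻¹ := by group
    _ = (X * D * X⁻¹) * c * c⁻¹ * D⁻¹ := by rw [h1]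
    _ = X * D * X⁻¹ * D⁻¹ := by group

/-- the `i`-th term (from `0`) of the lower central series of the whole group -/
abbrev rgL (K : Type*) [Group K] (i : ℕ) : Subgroup K := (⊤ : Subgroup K).lowerCentralSeries i

instance rgL_normal (K : Type*) [Group K] (i : ℕ) : (rgL K i).Normal := by
  unfold rgL; infer_instance

variable {K : Type*} [Group K]

theorem rg_comm_lcs_one (i : ℕ) {a b : K} (ha : a ∈ rgL K i) (hb : b ∈ rgL K 1) :
    ⁅a, b⁆ ∈ rgL K (i + 2) := by
  set N := rgL K (i + 2) with hN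
  let π := QuotientGroup.mk' N
  have hπ : Function.Surjective π := QuotientGroup.mk'_surjective N
  have htop : (⊤ : Subgroup K).map π = ⊤ := Subgroup.map_top_of_surjective π hπ
  have h2 : ⁅⁅(rgL K i).map π, (⊤ : Subgroup (K ⧸ N))⁆, (⊤ : Subgroup (K ⧸ N))⁆ = ⊥ := by
    rw [← htop, ← Subgroup.map_commutator, ← Subgroup.map_commutator]
    exact QuotientGroup.map_mk'_self N
  have h1 : ⁅⁅(⊤ : Subgroup (K ⧸ N)), (rgL K i).map π⁆, (⊤ : Subgroup (K ⧸ N))⁆ = ⊥ := by
    rw [Subgroup.commutator_comm (⊤ : Subgroup (K ⧸ N)) ((rgL K i).map π)]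
    exact h2
  have h3 := Subgroup.commutator_commutator_eq_bot_of_rotate h1 h2
  have h4 : π b ∈ ⁅(⊤ : Subgroup (K ⧸ N)), (⊤ : Subgroup (K ⧸ N))⁆ := by
    rw [← htop, ← Subgroup.map_commutator]
    exact ⟨b, hb, rfl⟩
  have h5 : ⁅π b, π a⁆ ∈ (⊥ : Subgroup (K ⧸ N)) := by
    rw [← h3]
    exact Subgroup.commutator_mem_commutator h4 ⟨a, ha, rfl⟩
  rw [Subgroup.mem_bot] at h5
  have h6 : π ⁅a, b⁆ = 1 := by
    rw [map_commutatorElement, ← commutatorElement_inv, h5, inv_one]
  exact (QuotientGroup.eq_one_iff _).mp h6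

theorem rg_homog (θ : K →* K) (k : ℕ)
    (h1 : ∀ g : K, θ g * (g ^ k)⁻¹ ∈ rgL K 1) :
    ∀ i : ℕ, ∀ w ∈ rgL K i, θ w * (w ^ (k ^ (i + 1)))⁻¹ ∈ rgL K (i + 1) := by
  intro i
  induction i with
  | zero => intro w _; simpa using h1 w
  | succ i ih =>
    intro w hw
    set N := rgL K (i + 2) with hN
    let π := QuotientGroup.mk' N
    have hπ : Function.Surjective π := QuotientGroup.mk'_surjective N
    have hcen : ∀ a ∈ rgL K (i + 1), ∀ g : K ⧸ N, g * π a = π a * g := by
      intro a ha g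
      obtain ⟨g, rfl⟩ := hπ g
      have h2 : ⁅a, g⁆ ∈ N := Subgroup.commutator_mem_commutator ha (Subgroup.mem_top g)
      have h3 : π ⁅a, g⁆ = 1 := (QuotientGroup.eq_one_iff _).mpr h2
      rw [map_commutatorElement, commutatorElement_eq_one_iff_mul_comm] at h3
      exact h3.symm
    have hcen2 : ∀ a ∈ rgL K i, ∀ C g : K ⧸ N, g * ⁅π a, C⁆ = ⁅π a, C⁆ * g := by
      intro a ha C g
      obtain ⟨C, rfl⟩ := hπ C
      rw [← map_commutatorElement]
      exact hcen _ (Subgroup.commutator_mem_commutator ha (Subgroup.mem_top C)) g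
    suffices hs : π (θ w) = π w ^ (k ^ (i + 2)) by
      have h2 : π (θ w * (w ^ (k ^ (i + 2)))⁻¹) = 1 := by
        rw [map_mul, map_inv, map_pow, hs, mul_inv_cancel]
      exact (QuotientGroup.eq_one_iff _).mp h2
    have hw' : w ∈ Subgroup.closure {x | ∃ a ∈ rgL K i, ∃ g ∈ (⊤ : Subgroup K), ⁅a, g⁆ = x} := hw
    induction hw' using Subgroup.closure_induction with
    | mem x hx =>
      obtain ⟨a, ha, g, -, rfl⟩ := hx
      set m := k ^ (i + 1) with hm
      obtain ⟨a', ha'eq⟩ : ∃ a', a' = θ a * (a ^ m)⁻¹ := ⟨_, rfl⟩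
      obtain ⟨b', hb'eq⟩ : ∃ b', b' = θ g * (g ^ k)⁻¹ := ⟨_, rfl⟩
      have ha' : a' ∈ rgL K (i + 1) := by rw [ha'eq]; exact ih a ha
      have hb' : b' ∈ rgL K 1 := by rw [hb'eq]; exact h1 g
      have e1 : θ a = a' * a ^ m := by rw [ha'eq]; group
      have e2 : θ g = b' * g ^ k := by rw [hb'eq]; group
      have ham : a ^ m ∈ rgL K i := Subgroup.pow_mem _ ha m
      rw [map_commutatorElement, map_commutatorElement, map_commutatorElement, e1, e2, map_mul, map_mul,
        rg_comm_central_mul _ _ _ (hcen _ ha'),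
        rg_comm_mul_right _ _ _ (hcen2 _ ham _)]
      have h4 : ⁅π (a ^ m), π b'⁆ = 1 := by
        rw [← map_commutatorElement]
        exact (QuotientGroup.eq_one_iff _).mpr (rg_comm_lcs_one i ham hb')
      rw [h4, one_mul, map_pow, map_pow, rg_comm_pow_right _ _ (by rw [← map_pow]; exact hcen2 _ ham _),
        rg_comm_pow_left _ _ (hcen2 _ ha _), ← pow_mul, pow_succ k (i + 1)]
    | one => simp
    | mul x y hx hy ihx ihy =>
      have hcomm : Commute (π x) (π y) := (hcen x hx (π y)).symm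
      rw [map_mul, map_mul, map_mul, ihx hx, ihy hy, hcomm.mul_pow]
    | inv x hx ihx => rw [map_inv, map_inv, map_inv, ihx hx, inv_pow]


/-- Step A: modulo the last term of the lower central series the power map is multiplicative. -/
theorem rg_stepA (q c : ℕ)
    (IH : ∀ (G : Type u) [Group G], rgL G (c - 1) = ⊥ →
      (∀ s ∈ commutator G, s ^ q = 1) → ∀ x y : G, (x * y) ^ q = x ^ q * y ^ q)
    (K : Type u) [Group K] (hexp : ∀ s ∈ commutator K, s ^ q = 1) (u v : K) :
    (u * v) ^ q * (u ^ q * v ^ q)⁻¹ ∈ rgL K (c - 1) := by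
  set N := rgL K (c - 1) with hN
  let π := QuotientGroup.mk' N
  have hπ : Function.Surjective π := QuotientGroup.mk'_surjective N
  have htop : (⊤ : Subgroup K).map π = ⊤ := Subgroup.map_top_of_surjective π hπ
  have h1 : rgL (K ⧸ N) (c - 1) = ⊥ := by
    show (⊤ : Subgroup (K ⧸ N)).lowerCentralSeries (c - 1) = ⊥
    rw [← htop, ← Subgroup.map_lowerCentralSeries]
    exact QuotientGroup.map_mk'_self N
  have h2 : ∀ s ∈ commutator (K ⧸ N), s ^ q = 1 := by
    intro s hs
    rw [commutator_def, ← htop, ← Subgroup.map_commutator] at hs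
    obtain ⟨t, ht, rfl⟩ := hs
    rw [← map_pow, hexp t (by rwa [commutator_def]), map_one]
  have h3 := IH (K ⧸ N) h1 h2 (π u) (π v)
  have h4 : π ((u * v) ^ q * (u ^ q * v ^ q)⁻¹) = 1 := by
    simp only [map_mul, map_inv, map_pow]
    rw [h3, mul_inv_cancel]
  exact (QuotientGroup.eq_one_iff _).mp h4

/-- Step B: multiplying by an element of the derived subgroup does not change the power. -/
theorem rg_stepB (q c : ℕ) (hc : 2 ≤ c)
    (IH : ∀ (G : Type u) [Group G], rgL G (c - 1) = ⊥ →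
      (∀ s ∈ commutator G, s ^ q = 1) → ∀ x y : G, (x * y) ^ q = x ^ q * y ^ q)
    (K : Type u) [Group K] (hK : rgL K c = ⊥) (hexp : ∀ s ∈ commutator K, s ^ q = 1) (u g : K)
    (hg : g ∈ commutator K) : (u * g) ^ q = u ^ q := by
  set N := rgL K 2 with hN
  let π := QuotientGroup.mk' N
  have hπ : Function.Surjective π := QuotientGroup.mk'_surjective N
  let M : Subgroup K :=
    (Subgroup.centralizer ((Subgroup.centralizer {π u} : Subgroup (K ⧸ N)) : Set (K ⧸ N))).comap π
  have hM : ∀ t : K, t ∈ M ↔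
      ∀ w : K ⧸ N, (w * π u = π u * w) → w * π t = π t * w := by
    intro t
    show π t ∈ Subgroup.centralizer _ ↔ _
    rw [Subgroup.mem_centralizer_iff]
    constructor
    · intro h w hw
      refine h w ?_
      rw [SetLike.mem_coe, Subgroup.mem_centralizer_iff]
      intro y hy
      rw [Set.mem_singleton_iff] at hy
      rw [hy, hw]
    · intro h w hw
      rw [SetLike.mem_coe, Subgroup.mem_centralizer_iff] at hw
      exact h w (hw (π u) rfl).symm
  have huM : u ∈ M := (hM u).mpr fun w hw => hw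
  have hcomm : ∀ t ∈ commutator K, ∀ w : K ⧸ N, w * π t = π t * w := by
    intro t ht w
    obtain ⟨w, rfl⟩ := hπ w
    have h2 : ⁅t, w⁆ ∈ N :=
      Subgroup.commutator_mem_commutator (show t ∈ rgL K 1 from ht) (Subgroup.mem_top w)
    have h3 : π ⁅t, w⁆ = 1 := (QuotientGroup.eq_one_iff _).mpr h2
    rw [map_commutatorElement, commutatorElement_eq_one_iff_mul_comm] at h3
    exact h3.symm
  have hgM : ∀ t ∈ commutator K, t ∈ M := fun t ht => (hM t).mpr fun w _ => hcomm t ht w
  have hMM : ⁅M, M⁆ ≤ N := by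
    rw [Subgroup.commutator_le]
    intro a ha b hb
    have h1 : π a * π u = π u * π a := by
      have := (hM a).mp ha (π u) rfl
      exact this.symm
    have h2 := (hM b).mp hb (π a) h1
    have h3 : π ⁅a, b⁆ = 1 := by
      rw [map_commutatorElement, commutatorElement_eq_one_iff_mul_comm]; exact h2
    exact (QuotientGroup.eq_one_iff _).mp h3
  have hlcs : ∀ i, 1 ≤ i → M.lowerCentralSeries i ≤ rgL K (i + 1) := by
    intro i hi
    induction i, hi using Nat.le_induction with
    | base => exact hMM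
    | succ i hi ih =>
      show ⁅M.lowerCentralSeries i, M⁆ ≤ ⁅rgL K (i + 1), ⊤⁆
      exact Subgroup.commutator_mono ih le_top
  have hMc : rgL ↥M (c - 1) = ⊥ := by
    have h1 : (rgL ↥M (c - 1)).map M.subtype = ⊥ := by
      show ((⊤ : Subgroup ↥M).lowerCentralSeries (c - 1)).map M.subtype = ⊥
      rw [Subgroup.top_subtype_lowerCentralSeries]
      have h2 := hlcs (c - 1) (by omega)
      rw [show c - 1 + 1 = c by omega, hK] at h2
      exact le_bot_iff.mp h2
    exact (Subgroup.map_eq_bot_iff_of_injective _ M.subtype_injective).mp h1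
  have hMexp : ∀ s ∈ commutator ↥M, s ^ q = 1 := by
    intro s hs
    have h1 : (s : K) ∈ commutator K := by
      have h2 : (s : K) ∈ (commutator ↥M).map M.subtype := ⟨s, hs, rfl⟩
      rw [Subgroup.map_subtype_commutator] at h2
      rw [commutator_def]
      exact Subgroup.commutator_mono le_top le_top h2
    exact Subtype.ext (by simpa using hexp _ h1)
  have h3 := IH ↥M hMc hMexp ⟨u, huM⟩ ⟨g, hgM g hg⟩
  have h4 := congrArg Subtype.val h3
  simp only [Subgroup.coe_mul, Subgroup.coe_pow] at h4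
  rw [h4, hexp g hg, mul_one]

/-- The core step: a two-generator group with scaling endomorphism. -/
theorem rg_core (p : ℕ) [hp : Fact p.Prime] (n c : ℕ) (hc2 : 2 ≤ c)
    (IH : ∀ (G : Type u) [Group G], rgL G (c - 1) = ⊥ →
      (∀ s ∈ commutator G, s ^ (p ^ n) = 1) →
      ∀ x y : G, (x * y) ^ (p ^ n) = x ^ (p ^ n) * y ^ (p ^ n))
    (K : Type u) [Group K] (hK : rgL K c = ⊥) (hexp : ∀ s ∈ commutator K, s ^ (p ^ n) = 1)
    (k : ℕ) (hk0 : (k : ZMod p) ≠ 0) (hk1 : (k : ZMod p) ^ (c - 1) ≠ 1)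
    (X Y : K) (hgen : Subgroup.closure {X, Y} = ⊤) (θ : K →* K) (hX : θ X = X ^ k)
    (hY : θ Y = Y ^ k) :
    (X * Y) ^ (p ^ n) = X ^ (p ^ n) * Y ^ (p ^ n) := by
  obtain ⟨q, hq⟩ : ∃ q, q = p ^ n := ⟨_, rfl⟩
  rw [← hq] at IH hexp ⊢
  have hc1 : 1 ≤ c - 1 := by omega
  have hB : ∀ u g : K, g ∈ commutator K → (u * g) ^ q = u ^ q :=
    fun u g hg => rg_stepB q c hc2 IH K hK hexp u g hg
  have hcent : ∀ u v : K, v * u ^ q = u ^ q * v := by
    intro u v
    have h1 : (v * u * v⁻¹) ^ q = u ^ q := by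
      have h2 : v * u * v⁻¹ = u * ⁅u⁻¹, v⁆ := by
        simp only [commutatorElement_def]; group
      rw [h2]
      refine hB u _ ?_
      rw [commutator_def]
      exact Subgroup.commutator_mem_commutator (Subgroup.mem_top _) (Subgroup.mem_top _)
    rw [conj_pow] at h1
    calc v * u ^ q = (v * u ^ q * v⁻¹) * v := by group
      _ = u ^ q * v := by rw [h1]
  obtain ⟨z, hz⟩ : ∃ z, z = (X * Y) ^ q * (X ^ q * Y ^ q)⁻¹ := ⟨_, rfl⟩
  have hzL : z ∈ rgL K (c - 1) := by rw [hz]; exact rg_stepA q c IH K hexp X Y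
  have hzc : z ∈ commutator K := (Subgroup.lowerCentralSeries_antitone ⊤ hc1) hzL
  have hzq : z ^ q = 1 := hexp z hzc
  have h5 : (X ^ k * Y ^ k) ^ q = ((X * Y) ^ q) ^ k := by
    have hg : (X ^ k * Y ^ k)⁻¹ * (X * Y) ^ k ∈ commutator K := by
      rw [← Abelianization.ker_of (G := K), MonoidHom.mem_ker]
      simp [mul_pow]
    have h6 := hB (X ^ k * Y ^ k) _ hg
    rw [mul_inv_cancel_left] at h6
    rw [← h6, ← pow_mul, ← pow_mul, mul_comm]
  have h6 : θ z = z ^ k := by
    have h7 : θ z = (X ^ k * Y ^ k) ^ q * ((X ^ k) ^ q * (Y ^ k) ^ q)⁻¹ := by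
      simp only [hz, map_mul, map_inv, map_pow, hX, hY]
    rw [h7, h5, hz]
    have hab : Commute (X ^ q) (Y ^ q) := (hcent X (Y ^ q)).symm
    have hdab : Commute ((X * Y) ^ q) (X ^ q * Y ^ q)⁻¹ :=
      (show Commute ((X * Y) ^ q) (X ^ q * Y ^ q) from (hcent (X * Y) (X ^ q * Y ^ q)).symm).inv_right
    rw [hdab.mul_pow, inv_pow, hab.mul_pow, ← pow_mul X k q, ← pow_mul Y k q, mul_comm k q,
      pow_mul, pow_mul]
  have hθ1 : ∀ g : K, θ g * (g ^ k)⁻¹ ∈ rgL K 1 := by
    intro g
    show _ ∈ commutator K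
    rw [← Abelianization.ker_of (G := K), MonoidHom.mem_ker, map_mul, map_inv, map_pow]
    have hh : (Abelianization.of.comp θ) = (powMonoidHom k).comp (Abelianization.of (G := K)) := by
      apply MonoidHom.eq_of_eqOn_dense hgen
      intro t ht
      rcases ht with rfl | rfl
      · simp [hX]
      · simp [hY]
    have h8 := DFunLike.congr_fun hh g
    simp only [MonoidHom.comp_apply, powMonoidHom_apply] at h8
    rw [h8, mul_inv_cancel]
  have h7 := rg_homog θ k hθ1 (c - 1) z hzL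
  rw [show c - 1 + 1 = c by omega, hK, Subgroup.mem_bot, mul_inv_eq_one] at h7
  have h9 : z ^ (k ^ c) = z ^ k := by rw [← h7, h6]
  have hz1 : z = 1 := by
    by_contra hne
    have ho : orderOf z ∣ p ^ n := by rw [← hq]; exact orderOf_dvd_of_pow_eq_one hzq
    obtain ⟨j, hj, hoj⟩ := (Nat.dvd_prime_pow hp.out).mp ho
    have hj0 : j ≠ 0 := by
      rintro rfl
      rw [pow_zero, orderOf_eq_one_iff] at hoj
      exact hne hoj
    have hpo : p ∣ orderOf z := by rw [hoj]; exact dvd_pow_self p hj0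
    have hmod : k ^ c ≡ k [MOD orderOf z] := pow_eq_pow_iff_modEq.mp h9
    have hmodp : k ^ c ≡ k [MOD p] := hmod.of_dvd hpo
    have hZ : ((k : ZMod p)) ^ c = k := by
      have h10 := (ZMod.natCast_eq_natCast_iff _ _ _).mpr hmodp
      simpa using h10
    have h11 : (k : ZMod p) ^ (c - 1) = 1 := by
      have h10 : (k : ZMod p) ^ (c - 1) * k = 1 * k := by
        rw [← pow_succ, show c - 1 + 1 = c by omega, hZ, one_mul]
      exact mul_right_cancel₀ hk0 h10
    exact hk1 h11
  rw [hz, mul_inv_eq_one] at hz1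
  exact hz1


/-- In a group of class `≤ c < p` whose derived subgroup has exponent dividing `p ^ n`, the
`p ^ n`-th power map is multiplicative. -/
theorem rg_pow_mul (p : ℕ) [hp : Fact p.Prime] (n : ℕ) :
    ∀ c : ℕ, c < p → ∀ (G : Type u) [Group G], rgL G c = ⊥ →
      (∀ s ∈ commutator G, s ^ (p ^ n) = 1) →
      ∀ x y : G, (x * y) ^ (p ^ n) = x ^ (p ^ n) * y ^ (p ^ n) := by
  intro c
  induction c using Nat.strong_induction_on with
  | _ c IH =>
    intro hcp G _ hG hexp x y
    rcases Nat.lt_or_ge c 2 with hc | hc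
    · have h1 : commutator G = ⊥ := by
        have h2 : rgL G 1 ≤ rgL G c := by
          rcases Nat.eq_zero_or_pos c with h0 | h0
          · subst h0
            rw [hG]
            have h3 : rgL G 1 ≤ rgL G 0 := Subgroup.lowerCentralSeries_antitone ⊤ (Nat.zero_le 1)
            rwa [hG] at h3
          · have h3 : c = 1 := by omega
            rw [h3]
        rw [hG] at h2
        exact le_bot_iff.mp h2
      have hcomm : Commute x y := by
        have h2 : ⁅x, y⁆ ∈ commutator G := by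
          rw [commutator_def]
          exact Subgroup.commutator_mem_commutator (Subgroup.mem_top _) (Subgroup.mem_top _)
        rw [h1, Subgroup.mem_bot, commutatorElement_eq_one_iff_commute] at h2
        exact h2
      exact hcomm.mul_pow _
    · obtain ⟨k, hk0, hk1⟩ : ∃ k : ℕ, (k : ZMod p) ≠ 0 ∧ (k : ZMod p) ^ (c - 1) ≠ 1 := by
        obtain ⟨g, hg⟩ := IsCyclic.exists_ofOrder_eq_natCard (α := (ZMod p)ˣ)
        have hcard : Nat.card (ZMod p)ˣ = p - 1 := by
          rw [Nat.card_eq_fintype_card, ZMod.card_units]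
        refine ⟨(g : ZMod p).val, ?_, ?_⟩
        · rw [ZMod.natCast_zmod_val]
          exact g.ne_zero
        · rw [ZMod.natCast_zmod_val]
          intro h
          have h2 : g ^ (c - 1) = 1 := Units.ext (by simpa using h)
          have h3 := orderOf_dvd_of_pow_eq_one h2
          rw [hg, hcard] at h3
          have h4 := Nat.le_of_dvd (by omega) h3
          omega
      let P := G × G → G
      let X : P := fun t => t.1
      let Y : P := fun t => t.2
      let H : Subgroup P := Subgroup.closure {X, Y}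
      let θP : P →* P :=
        { toFun := fun φ t => φ (t.1 ^ k, t.2 ^ k)
          map_one' := rfl
          map_mul' := fun _ _ => rfl }
      have hXH : X ∈ H := Subgroup.subset_closure (by simp)
      have hYH : Y ∈ H := Subgroup.subset_closure (by simp)
      have hθX : θP X = X ^ k := rfl
      have hθY : θP Y = Y ^ k := rfl
      have hθH : ∀ h ∈ H, θP h ∈ H := by
        have h1 : H ≤ H.comap θP := by
          show Subgroup.closure {X, Y} ≤ _
          rw [Subgroup.closure_le]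
          intro t ht
          rcases ht with rfl | rfl
          · show θP X ∈ H
            rw [hθX]; exact Subgroup.pow_mem _ hXH k
          · show θP Y ∈ H
            rw [hθY]; exact Subgroup.pow_mem _ hYH k
        exact fun h hh => h1 hh
      let θ : ↥H →* ↥H := (θP.comp H.subtype).codRestrict H (fun h => hθH h h.2)
      have hPc : rgL P c = ⊥ := by
        rw [eq_bot_iff]
        intro w hw
        rw [Subgroup.mem_bot]
        funext t
        have h1 : Pi.evalMonoidHom (fun _ : G × G => G) t w ∈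
            ((⊤ : Subgroup P).lowerCentralSeries c).map (Pi.evalMonoidHom (fun _ : G × G => G) t) :=
          ⟨w, hw, rfl⟩
        rw [Subgroup.map_lowerCentralSeries] at h1
        have h2 := Subgroup.lowerCentralSeries_mono c (le_top : _ ≤ (⊤ : Subgroup G)) h1
        change _ ∈ rgL G c at h2
        rw [hG] at h2
        exact h2
      have hHc : rgL ↥H c = ⊥ := by
        have h1 : (rgL ↥H c).map H.subtype = ⊥ := by
          show ((⊤ : Subgroup ↥H).lowerCentralSeries c).map H.subtype = ⊥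
          rw [Subgroup.top_subtype_lowerCentralSeries]
          have h2 := Subgroup.lowerCentralSeries_mono c (le_top : H ≤ (⊤ : Subgroup P))
          change _ ≤ rgL P c at h2
          rw [hPc] at h2
          exact le_bot_iff.mp h2
        exact (Subgroup.map_eq_bot_iff_of_injective _ H.subtype_injective).mp h1
      have hHexp : ∀ s ∈ commutator ↥H, s ^ (p ^ n) = 1 := by
        intro s hs
        have h1 : (s : P) ∈ commutator P := by
          have h2 : (s : P) ∈ (commutator ↥H).map H.subtype := ⟨s, hs, rfl⟩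
          rw [Subgroup.map_subtype_commutator] at h2
          rw [commutator_def]
          exact Subgroup.commutator_mono le_top le_top h2
        apply Subtype.ext
        funext t
        have h3 : Pi.evalMonoidHom (fun _ : G × G => G) t (s : P) ∈ commutator G := by
          have h4 : Pi.evalMonoidHom (fun _ : G × G => G) t (s : P) ∈
              (commutator P).map (Pi.evalMonoidHom (fun _ : G × G => G) t) := ⟨_, h1, rfl⟩
          rw [commutator_def, Subgroup.map_commutator] at h4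
          rw [commutator_def]
          exact Subgroup.commutator_mono le_top le_top h4
        exact hexp _ h3
      have hgen : Subgroup.closure ({⟨X, hXH⟩, ⟨Y, hYH⟩} : Set ↥H) = ⊤ := by
        apply Subgroup.map_injective H.subtype_injective
        rw [MonoidHom.map_closure, ← MonoidHom.range_eq_map, Subgroup.range_subtype]
        show Subgroup.closure _ = Subgroup.closure {X, Y}
        congr 1
        simp [Set.image_pair]
      have key := rg_core p n c hc (IH (c - 1) (by omega) (by omega)) ↥H hHc hHexp k hk0 hk1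
        ⟨X, hXH⟩ ⟨Y, hYH⟩ hgen θ (Subtype.ext hθX) (Subtype.ext hθY)
      exact congrArg (fun h : ↥H => (h : P) (x, y)) key


/-- A group of class `< p` is regular (for all `p ^ n`-th powers). -/
theorem rg_regular {G : Type u} [Group G] {p : ℕ} [hp : Fact p.Prime]
    (hcl : (⊤ : Subgroup G).lowerCentralSeries (p - 1) = ⊥) (a b : G) (n : ℕ) :
    ∃ c ∈ Subgroup.closure {y : G | ∃ x ∈ ⁅Subgroup.closure ({a, b} : Set G),
        Subgroup.closure ({a, b} : Set G)⁆, y = x ^ (p ^ n)},
      (a * b) ^ (p ^ n) = a ^ (p ^ n) * b ^ (p ^ n) * c := by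
  set H := Subgroup.closure ({a, b} : Set G) with hH
  set D := ⁅H, H⁆ with hD
  set N := Subgroup.closure {y : G | ∃ x ∈ D, y = x ^ (p ^ n)} with hN
  have hDH : D ≤ H := Subgroup.commutator_le_self H
  have hnorm : ∀ h ∈ H, ∀ y ∈ N, h * y * h⁻¹ ∈ N := by
    intro h hh y hy
    induction hy using Subgroup.closure_induction with
    | mem y hy =>
      obtain ⟨x, hx, rfl⟩ := hy
      rw [← conj_pow]
      refine Subgroup.subset_closure ⟨h * x * h⁻¹, ?_, rfl⟩
      have h1 : h * x * h⁻¹ = ⁅h, x⁆ * x := by simp [commutatorElement_def]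
      rw [h1]
      exact D.mul_mem (Subgroup.commutator_mem_commutator hh (hDH hx)) hx
    | one => simp
    | mul y z _ _ ihy ihz =>
      have h1 : h * (y * z) * h⁻¹ = (h * y * h⁻¹) * (h * z * h⁻¹) := by group
      rw [h1]; exact N.mul_mem ihy ihz
    | inv y _ ihy =>
      have h1 : h * y⁻¹ * h⁻¹ = (h * y * h⁻¹)⁻¹ := by group
      rw [h1]; exact N.inv_mem ihy
  let N' : Subgroup ↥H := N.subgroupOf H
  have : N'.Normal := ⟨fun y hy h => by
    rw [Subgroup.mem_subgroupOf] at hy ⊢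
    exact hnorm h h.2 y hy⟩
  let π := QuotientGroup.mk' N'
  have hπ : Function.Surjective π := QuotientGroup.mk'_surjective N'
  have htop : (⊤ : Subgroup ↥H).map π = ⊤ := Subgroup.map_top_of_surjective π hπ
  have hp1 : p - 1 < p := Nat.sub_lt hp.out.pos one_pos
  have hHc : rgL ↥H (p - 1) = ⊥ := by
    have h1 : (rgL ↥H (p - 1)).map H.subtype = ⊥ := by
      show ((⊤ : Subgroup ↥H).lowerCentralSeries (p - 1)).map H.subtype = ⊥
      rw [Subgroup.top_subtype_lowerCentralSeries]
      have h2 := Subgroup.lowerCentralSeries_mono (p - 1) (le_top : H ≤ (⊤ : Subgroup G))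
      change _ ≤ (⊤ : Subgroup G).lowerCentralSeries (p - 1) at h2
      rw [hcl] at h2
      exact le_bot_iff.mp h2
    exact (Subgroup.map_eq_bot_iff_of_injective _ H.subtype_injective).mp h1
  have hQc : rgL (↥H ⧸ N') (p - 1) = ⊥ := by
    show (⊤ : Subgroup (↥H ⧸ N')).lowerCentralSeries (p - 1) = ⊥
    rw [← htop, ← Subgroup.map_lowerCentralSeries]
    change (rgL ↥H (p - 1)).map π = ⊥
    rw [hHc, Subgroup.map_bot]
  have hQexp : ∀ s ∈ commutator (↥H ⧸ N'), s ^ (p ^ n) = 1 := by
    intro s hs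
    rw [commutator_def, ← htop, ← Subgroup.map_commutator] at hs
    obtain ⟨t, ht, rfl⟩ := hs
    rw [← map_pow]
    apply (QuotientGroup.eq_one_iff _).mpr
    rw [Subgroup.mem_subgroupOf]
    have h1 : (t : G) ∈ D := by
      have h2 : (t : G) ∈ (commutator ↥H).map H.subtype := ⟨t, by rwa [commutator_def], rfl⟩
      rwa [Subgroup.map_subtype_commutator] at h2
    rw [Subgroup.coe_pow]
    exact Subgroup.subset_closure ⟨_, h1, rfl⟩
  have ha : a ∈ H := Subgroup.subset_closure (by simp)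
  have hb : b ∈ H := Subgroup.subset_closure (by simp)
  have key := rg_pow_mul p n (p - 1) hp1 (↥H ⧸ N') hQc hQexp (π ⟨a, ha⟩) (π ⟨b, hb⟩)
  refine ⟨(a ^ (p ^ n) * b ^ (p ^ n))⁻¹ * (a * b) ^ (p ^ n), ?_, by group⟩
  have h1 : π (((⟨a, ha⟩ : ↥H) ^ (p ^ n) * (⟨b, hb⟩ : ↥H) ^ (p ^ n))⁻¹ *
      ((⟨a, ha⟩ : ↥H) * ⟨b, hb⟩) ^ (p ^ n)) = 1 := by
    simp only [map_mul, map_inv, map_pow]
    rw [key, inv_mul_cancel]
  have h2 := (QuotientGroup.eq_one_iff _).mp h1
  rw [Subgroup.mem_subgroupOf] at h2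
  simpa using h2

end Cfsg.Agent.H15
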