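import Mathlib
import Cfsg.Agent.H86.SLTwo
import Cfsg.Agent.H86.FusAlperin
import Cfsg.Agent.H86.GrpLemmas
import Cfsg.Agent.H3.PGroup

set_option autoImplicit false
set_option maxHeartbeats 400000

/-!
Generic group-theoretic lemmas for the study of essential subgroups of rank two
(`p ≥ 5`): power formulas, the action on a quotient by a characteristic subgroup, and
coordinates adapted to a copy of `SL₂(p)` acting on a quotient of order `p²`.
-/

namespace Cfsg.Agent.H15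

open Cfsg
open scoped commutatorElement

section RsBasic

variable {G : Type*} [Group G]

theorem rs_pow_comm (x y : G) (h2 : Commute y ⁅y, x⁆) (k : ℕ) :
    y ^ k * x = ⁅y, x⁆ ^ k * x * y ^ k := by
  induction k with
  | zero => simp
  | succ k ih =>
    have hyx : y * x = ⁅y, x⁆ * x * y := by
      rw [commutatorElement_def]; group
    calc y ^ (k + 1) * x = y * (y ^ k * x) := by rw [pow_succ', mul_assoc]
      _ = y * (⁅y, x⁆ ^ k * x * y ^ k) := by rw [ih]
      _ = ⁅y, x⁆ ^ k * (y * x) * y ^ k := by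
        rw [← mul_assoc, ← mul_assoc, (h2.pow_right k).eq, mul_assoc (⁅y, x⁆ ^ k)]
      _ = ⁅y, x⁆ ^ k * (⁅y, x⁆ * x * y) * y ^ k := by rw [← hyx]
      _ = ⁅y, x⁆ ^ (k + 1) * x * y ^ (k + 1) := by
        rw [pow_succ, pow_succ']; simp only [mul_assoc]

/-- The power of a product when the commutator commutes with both factors. -/
theorem rs_mul_pow (x y : G) (h1 : Commute x ⁅y, x⁆) (h2 : Commute y ⁅y, x⁆) (N : ℕ) :
    (x * y) ^ N = x ^ N * y ^ N * ⁅y, x⁆ ^ (N.choose 2) := by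
  induction N with
  | zero => simp
  | succ N ih =>
    have hch : (N + 1).choose 2 = N + N.choose 2 := by
      rw [Nat.choose_succ_succ, Nat.choose_one_right]
    have hx : ∀ k : ℕ, Commute x (⁅y, x⁆ ^ k) := fun k => h1.pow_right k
    have hy : ∀ k : ℕ, Commute y (⁅y, x⁆ ^ k) := fun k => h2.pow_right k
    have h3 := rs_pow_comm x y h2 N
    have e0 : (x * y) * ⁅y, x⁆ ^ (N.choose 2) = ⁅y, x⁆ ^ (N.choose 2) * (x * y) :=
      ((hx (N.choose 2)).mul_left (hy (N.choose 2))).eq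
    have e1 : ⁅y, x⁆ ^ N * x = x * ⁅y, x⁆ ^ N := (hx N).eq.symm
    have e2 : ⁅y, x⁆ ^ N * y ^ N = y ^ N * ⁅y, x⁆ ^ N := (((hy N).pow_left N).eq).symm
    have e3 : ⁅y, x⁆ ^ N * y = y * ⁅y, x⁆ ^ N := (hy N).eq.symm
    calc (x * y) ^ (N + 1) = (x * y) ^ N * (x * y) := pow_succ _ _
      _ = x ^ N * y ^ N * ⁅y, x⁆ ^ (N.choose 2) * (x * y) := by rw [ih]
      _ = x ^ N * (y ^ N * x) * y * ⁅y, x⁆ ^ (N.choose 2) := by
        rw [mul_assoc (x ^ N * y ^ N), ← e0]; simp only [mul_assoc]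
      _ = x ^ N * (⁅y, x⁆ ^ N * x * y ^ N) * y * ⁅y, x⁆ ^ (N.choose 2) := by rw [h3]
      _ = x ^ N * (x * (⁅y, x⁆ ^ N * y ^ N)) * y * ⁅y, x⁆ ^ (N.choose 2) := by
        rw [e1, mul_assoc x]
      _ = x ^ N * (x * (y ^ N * ⁅y, x⁆ ^ N)) * y * ⁅y, x⁆ ^ (N.choose 2) := by rw [e2]
      _ = x ^ N * x * y ^ N * (⁅y, x⁆ ^ N * y) * ⁅y, x⁆ ^ (N.choose 2) := by simp only [mul_assoc]
      _ = x ^ N * x * y ^ N * (y * ⁅y, x⁆ ^ N) * ⁅y, x⁆ ^ (N.choose 2) := by rw [e3]
      _ = x ^ (N + 1) * y ^ (N + 1) * ⁅y, x⁆ ^ ((N + 1).choose 2) := by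
        rw [hch, pow_add ⁅y, x⁆ N, pow_succ x, pow_succ y]; simp only [mul_assoc]

theorem rs_conj_pow {t u v : G} (h1 : t * u * t⁻¹ = u * v) (h2 : t * v * t⁻¹ = v) (k : ℕ) :
    t ^ k * u * (t ^ k)⁻¹ = u * v ^ k := by
  induction k with
  | zero => simp
  | succ k ih =>
    have h3 : t * v ^ k * t⁻¹ = v ^ k := by
      have : t * v ^ k * t⁻¹ = (t * v * t⁻¹) ^ k := by rw [conj_pow]
      rw [this, h2]
    calc t ^ (k + 1) * u * (t ^ (k + 1))⁻¹ = t * (t ^ k * u * (t ^ k)⁻¹) * t⁻¹ := by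
          rw [pow_succ']; group
      _ = t * (u * v ^ k) * t⁻¹ := by rw [ih]
      _ = (t * u * t⁻¹) * (t * v ^ k * t⁻¹) := by group
      _ = u * v ^ (k + 1) := by rw [h1, h3, pow_succ', mul_assoc]

theorem rs_conj_pow_fix {t v : G} (h2 : t * v * t⁻¹ = v) (k : ℕ) :
    t ^ k * v * (t ^ k)⁻¹ = v := by
  have h : Commute t v := by
    show t * v = v * t
    calc t * v = t * v * t⁻¹ * t := by group
      _ = v * t := by rw [h2]
  have := (h.pow_left k).eq
  rw [this]; group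

/-- A `p`-element normalizing a group of order `p` centralizes it. -/
theorem rs_pfix {p : ℕ} [hp : Fact p.Prime] {w x : G} {m r : ℕ} (hw : w ^ p ^ m = 1)
    (hx : x ^ p = 1) (h : w * x * w⁻¹ = x ^ r) : w * x * w⁻¹ = x := by
  by_cases hx1 : x = 1
  · subst hx1; simp
  have key : ∀ j : ℕ, w ^ j * x * (w ^ j)⁻¹ = x ^ (r ^ j) := by
    intro j
    induction j with
    | zero => simp
    | succ j ih =>
      calc w ^ (j + 1) * x * (w ^ (j + 1))⁻¹ = w * (w ^ j * x * (w ^ j)⁻¹) * w⁻¹ := by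
            rw [pow_succ']; group
        _ = w * x ^ (r ^ j) * w⁻¹ := by rw [ih]
        _ = (w * x * w⁻¹) ^ (r ^ j) := by rw [conj_pow]
        _ = x ^ (r ^ (j + 1)) := by rw [h, ← pow_mul, pow_succ']
  have h1 := key (p ^ m)
  rw [hw] at h1
  simp only [one_mul, inv_one, mul_one] at h1
  have hox : orderOf x = p := orderOf_eq_prime hx hx1
  have h2 : r ^ p ^ m ≡ 1 [MOD p] := by
    have h2' : r ^ p ^ m ≡ 1 [MOD orderOf x] := by
      apply (pow_eq_pow_iff_modEq).1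
      rw [pow_one]; exact h1.symm
    rwa [hox] at h2'
  have h3 : (r : ZMod p) = 1 := by
    have h4 := (ZMod.natCast_eq_natCast_iff _ _ _).2 h2
    push_cast at h4
    rwa [ZMod.pow_card_pow] at h4
  have h5 : r ≡ 1 [MOD p] := by
    apply (ZMod.natCast_eq_natCast_iff _ _ _).1
    simpa using h3
  rw [h]
  have : x ^ r = x ^ 1 := by
    apply (pow_eq_pow_iff_modEq).2
    rw [hox]; exact h5
  rw [this, pow_one]

theorem rs_coset_pow (P : Subgroup G) {w n : G} (hw : ∀ u ∈ P, w⁻¹ * u * w ∈ P) (hn : n ∈ P)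
    (k : ℕ) : ∃ n' ∈ P, (w * n) ^ k = w ^ k * n' := by
  induction k with
  | zero => exact ⟨1, P.one_mem, by simp⟩
  | succ k ih =>
    obtain ⟨n', hn', h⟩ := ih
    refine ⟨w⁻¹ * n' * w * n, P.mul_mem (hw n' hn') hn, ?_⟩
    rw [pow_succ, h, pow_succ]; group

theorem rs_coset_pow' (P : Subgroup G) {w n : G} (hw : ∀ u ∈ P, w * u * w⁻¹ ∈ P) (hn : n ∈ P)
    (k : ℕ) : ∃ n' ∈ P, (n * w) ^ k = n' * w ^ k := by
  induction k with
  | zero => exact ⟨1, P.one_mem, by simp⟩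
  | succ k ih =>
    obtain ⟨n', hn', h⟩ := ih
    refine ⟨n * (w * n' * w⁻¹), P.mul_mem hn (hw n' hn'), ?_⟩
    rw [pow_succ', h, pow_succ']; group

theorem rs_ppart {A : Type*} [Group A] [Finite A] (p : ℕ) [hp : Fact p.Prime] (α : A) :
    ∃ M : ℕ, (orderOf (α ^ p ^ M)).Coprime p := by
  obtain ⟨M, b, hb, h⟩ := Nat.exists_eq_pow_mul_and_not_dvd (orderOf_pos α).ne' p hp.out.ne_one
  refine ⟨M, ?_⟩
  have h1 : orderOf (α ^ p ^ M) = b := by
    rw [orderOf_pow' α (pow_ne_zero M hp.out.ne_zero), h, Nat.gcd_mul_right_left,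
      Nat.mul_div_cancel_left _ (pow_pos hp.out.pos M)]
  rw [h1]
  exact ((Nat.Prime.coprime_iff_not_dvd hp.out).2 hb).symm

end RsBasic

section RsStep

variable {Ω : Type*} [Group Ω] {S : Subgroup Ω}

/-- A proper subgroup of a finite `p`-group is normalized by an element outside it whose
`p`-th power lies in it. -/
theorem rs_step [Finite S] {p : ℕ} [Fact p.Prime] (hS : IsPGroup p S) {P : Subgroup Ω}
    (hPS : P < S) :
    ∃ t ∈ S, t ∈ Subgroup.normalizer (P : Set Ω) ∧ t ∉ P ∧ t ^ p ∈ P := by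
  classical
  obtain ⟨g, hgN, hgP⟩ := H86.exists_mem_normalizerIn_not_mem hS hPS
  have hgS : g ∈ S := (H86.mem_normalizerIn_iff.1 hgN).1
  have hgn : g ∈ Subgroup.normalizer (P : Set Ω) := (H86.mem_normalizerIn_iff.1 hgN).2
  obtain ⟨m, hm⟩ := hS ⟨g, hgS⟩
  have hm' : g ^ p ^ m = 1 := by simpa using congrArg Subtype.val hm
  have hex : ∃ j, g ^ p ^ j ∈ P := ⟨m, by rw [hm']; exact P.one_mem⟩
  have hj : g ^ p ^ (Nat.find hex) ∈ P := Nat.find_spec hex
  have hj0 : Nat.find hex ≠ 0 := by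
    intro h0
    rw [h0] at hj
    simp only [pow_zero, pow_one] at hj
    exact hgP hj
  obtain ⟨i, hi⟩ := Nat.exists_eq_succ_of_ne_zero hj0
  refine ⟨g ^ p ^ i, S.pow_mem hgS _, (Subgroup.normalizer _).pow_mem hgn _, ?_, ?_⟩
  · exact Nat.find_min hex (by omega : i < Nat.find hex)
  · rw [← pow_mul, ← pow_succ, ← Nat.succ_eq_add_one, ← hi]; exact hj

end RsStep

section QAut

variable {T : Type*} [Group T]

/-- The action of the automorphism group on the quotient by a characteristic subgroup. -/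
noncomputable def qAut (Z : Subgroup T) [hZ : Z.Characteristic] : MulAut T →* MulAut (T ⧸ Z) where
  toFun α := QuotientGroup.congr Z Z α (Subgroup.characteristic_iff_map_eq.mp hZ α)
  map_one' := by
    ext q
    obtain ⟨u, rfl⟩ := QuotientGroup.mk_surjective q
    rfl
  map_mul' α β := by
    ext q
    obtain ⟨u, rfl⟩ := QuotientGroup.mk_surjective q
    rfl

theorem qAut_mk (Z : Subgroup T) [Z.Characteristic] (α : MulAut T) (u : T) :
    qAut Z α (QuotientGroup.mk u) = QuotientGroup.mk (α u) := rfl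

theorem qAut_eq_one_iff (Z : Subgroup T) [Z.Characteristic] (α : MulAut T) :
    qAut Z α = 1 ↔ ∀ u : T, u⁻¹ * α u ∈ Z := by
  constructor
  · intro h u
    have h1 := congrArg (fun f : MulAut (T ⧸ Z) => f (QuotientGroup.mk u)) h
    simp only [qAut_mk, MulAut.one_apply] at h1
    exact QuotientGroup.eq.1 h1.symm
  · intro h
    ext q
    obtain ⟨u, rfl⟩ := QuotientGroup.mk_surjective q
    rw [qAut_mk, MulAut.one_apply]
    exact (QuotientGroup.eq.2 (h u)).symm

end QAut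

end Cfsg.Agent.H15
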