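import Mathlib
import Cfsg.Agent.H15.Res1

set_option autoImplicit false
set_option maxHeartbeats 800000

/-!
Coordinates adapted to a copy of `SL₂(p)` acting on a group of order `p²` and exponent `p`,
and the same for the action of a group of automorphisms on a quotient of order `p²`.
-/

namespace Cfsg.Agent.H15

open Cfsg Matrix
open scoped commutatorElement

section SL2Coords

/-- The diagonal matrix `diag(u, v)` with `u * v = 1`. -/
def slDiag {K : Type*} [Field K] (u v : K) (h : u * v = 1) :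
    Matrix.SpecialLinearGroup (Fin 2) K :=
  ⟨!![u, 0; 0, v], by rw [Matrix.det_fin_two_of, h]; ring⟩

theorem slDiag_coe {K : Type*} [Field K] (u v : K) (h : u * v = 1) :
    (slDiag u v h : Matrix (Fin 2) (Fin 2) K) = !![u, 0; 0, v] := rfl

theorem slDiag_mul_upper {K : Type*} [Field K] (u v : K) (h : u * v = 1) :
    slDiag u v h * H86.slUpper (1 : K) = H86.slUpper (u ^ 2) * slDiag u v h := by
  apply Subtype.ext
  rw [Matrix.SpecialLinearGroup.coe_mul, Matrix.SpecialLinearGroup.coe_mul, slDiag_coe,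
    H86.slUpper_coe, H86.slUpper_coe]
  have h' : u ^ 2 * v = u := by rw [pow_two, mul_assoc, h, mul_one]
  rw [Matrix.mul_fin_two, Matrix.mul_fin_two]
  simp [h']

theorem slDiag_mulVec {K : Type*} [Field K] (u v : K) (h : u * v = 1) (w : Fin 2 → K) :
    (slDiag u v h : Matrix (Fin 2) (Fin 2) K) *ᵥ w = ![u * w 0, v * w 1] := by
  rw [slDiag_coe]
  ext i
  fin_cases i <;> simp [Matrix.mulVec, dotProduct, Fin.sum_univ_two]

variable {H : Type*} [CommGroup H] [Finite H] {p : ℕ} [hp : Fact p.Prime]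

/-- Coordinates for a group of automorphisms of `C_p × C_p` containing two elements of order `p`
generating different subgroups: the group contains a copy of `SL₂(p)` in these coordinates. -/
theorem sl2_coords (hcard : Nat.card H = p ^ 2) (hexp : ∀ x : H, x ^ p = 1)
    (G : Subgroup (MulAut H)) {a b : MulAut H} (ha : a ∈ G) (hb : b ∈ G)
    (hao : orderOf a = p) (hbo : orderOf b = p) (hab : b ∉ Subgroup.zpowers a) :
    ∃ x y : H, x ≠ 1 ∧ y ∉ Subgroup.zpowers x ∧ a x = x ∧ a y = y * x ∧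
      (∃ l ∈ G, l x = x * y ∧ l y = y) ∧
      ∀ μ : (ZMod p)ˣ, ∃ g ∈ G, g x = x ^ (μ : ZMod p).val ∧
        g y = y ^ ((μ⁻¹ : (ZMod p)ˣ) : ZMod p).val ∧
        g * a * g⁻¹ = a ^ ((μ : ZMod p) ^ 2).val := by
  have hδa := H86.autComm_mem_fixSub hcard hexp hao
  have hδb := H86.autComm_mem_fixSub hcard hexp hbo
  obtain ⟨y, hy1, hby⟩ := H86.exists_fixed_ne_one hcard hbo
  have hCb : H86.fixSub b = Subgroup.zpowers y := H86.fixSub_eq_zpowers hcard hexp hbo hy1 hby
  have hya : y ∉ H86.fixSub a := by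
    intro hya
    have hCa : H86.fixSub a = Subgroup.zpowers y := H86.fixSub_eq_zpowers hcard hexp hao hy1 hya
    have hne : H86.fixSub a ≠ ⊤ := by
      intro htop
      have h1 := H86.card_fixSub hcard hao
      rw [htop, Subgroup.card_top, hcard] at h1
      have hp1 := hp.out.one_lt
      nlinarith
    obtain ⟨w, hw⟩ : ∃ w, w ∉ H86.fixSub a := by
      by_contra hall
      push Not at hall
      exact hne (eq_top_iff.2 (fun w _ => hall w))
    have hxa : H86.autComm a w ∈ H86.fixSub a := hδa w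
    have hx1 : H86.autComm a w ≠ 1 := by
      intro h1
      apply hw
      rw [← H86.autComm_ker, MonoidHom.mem_ker]
      exact h1
    have hCa' : H86.fixSub a = Subgroup.zpowers (H86.autComm a w) :=
      H86.fixSub_eq_zpowers hcard hexp hao hx1 hxa
    have haw : a w = w * H86.autComm a w := by rw [H86.autComm_apply, mul_inv_cancel_left]
    have hbx : b (H86.autComm a w) = H86.autComm a w := by
      have : H86.autComm a w ∈ H86.fixSub b := by rw [hCb, ← hCa]; exact hxa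
      exact this
    have hbw' : H86.autComm b w ∈ Subgroup.zpowers (H86.autComm a w) := by
      rw [← hCa', hCa, ← hCb]; exact hδb w
    obtain ⟨j, hj⟩ := (Submonoid.mem_powers_iff _ _).1 (mem_powers_iff_mem_zpowers.2 hbw')
    have hbw : b w = w * H86.autComm a w ^ j := by
      rw [hj, H86.autComm_apply, mul_inv_cancel_left]
    have hgen : Subgroup.zpowers (H86.autComm a w) ⊔ Subgroup.zpowers w = ⊤ :=
      H86.zpowers_sup_eq_top hcard hexp hx1 (by rw [← hCa']; exact hw)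
    have hbeq : b = a ^ j := by
      apply H86.aut_ext_of_gen hgen
      · rw [hbx, H86.aut_pow_apply_fixed hxa]
      · rw [hbw, H86.aut_pow_apply_mul haw hxa]
    apply hab
    rw [hbeq]
    exact Subgroup.pow_mem _ (Subgroup.mem_zpowers a) j
  obtain ⟨x, hx⟩ : ∃ x, x = H86.autComm a y := ⟨_, rfl⟩
  have hxa : a x = x := by rw [hx]; exact hδa y
  have hx1 : x ≠ 1 := by
    intro h1
    apply hya
    rw [← H86.autComm_ker, MonoidHom.mem_ker, ← hx]
    exact h1
  have hCa : H86.fixSub a = Subgroup.zpowers x := H86.fixSub_eq_zpowers hcard hexp hao hx1 hxa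
  have hay : a y = y * x := by rw [hx, H86.autComm_apply, mul_inv_cancel_left]
  have hyx : y ∉ Subgroup.zpowers x := by rw [← hCa]; exact hya
  have hxb : x ∉ H86.fixSub b := by
    intro hxb
    have hCb' : H86.fixSub b = Subgroup.zpowers x := H86.fixSub_eq_zpowers hcard hexp hbo hx1 hxb
    apply hya
    rw [hCa, ← hCb']
    exact hby
  have hδx : H86.autComm b x ∈ Subgroup.zpowers y := by rw [← hCb]; exact hδb x
  obtain ⟨k, hk⟩ := (Submonoid.mem_powers_iff _ _).1 (mem_powers_iff_mem_zpowers.2 hδx)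
  have hbx : b x = x * y ^ k := by rw [hk, H86.autComm_apply, mul_inv_cancel_left]
  have hoy : orderOf y = p := orderOf_eq_prime (hexp y) hy1
  have hkp : ¬ p ∣ k := by
    intro hdvd
    apply hxb
    rw [← H86.autComm_ker, MonoidHom.mem_ker, ← hk]
    rw [← hoy] at hdvd
    exact orderOf_dvd_iff_pow_eq_one.1 hdvd
  have hcop : k.Coprime (orderOf y) := by
    rw [hoy]; exact (Nat.Coprime.symm ((Nat.Prime.coprime_iff_not_dvd hp.out).2 hkp))
  obtain ⟨n, hn⟩ := exists_pow_eq_self_of_coprime hcop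
  have hb'y : (b ^ n) y = y := H86.aut_pow_apply_fixed hby n
  have hbyk : b (y ^ k) = y ^ k := by rw [map_pow, hby]
  have hb'x : (b ^ n) x = x * y := by rw [H86.aut_pow_apply_mul hbx hbyk, hn]
  let e : Multiplicative (Fin 2 → ZMod p) ≃* H :=
    MulEquiv.ofBijective (H86.coordHom hexp x y) (H86.coordHom_bijective hcard hexp hx1 hyx)
  have he : ∀ v : Fin 2 → ZMod p, e (Multiplicative.ofAdd v) = x ^ (v 0).val * y ^ (v 1).val :=
    fun v => rfl
  have hU : H86.slHom e (H86.slUpper 1) = a := by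
    ext h
    obtain ⟨v, rfl⟩ := e.surjective h
    obtain ⟨w, rfl⟩ := Multiplicative.ofAdd.surjective v
    rw [H86.slHom_apply, H86.slUpper_mulVec, he, he, map_mul, map_pow, map_pow, hxa, hay]
    simp only [Matrix.cons_val_zero, Matrix.cons_val_one]
    rw [H86.pow_val_add (hexp x), mul_pow, mul_assoc, mul_comm (x ^ (w 1).val)]
  have hL : H86.slHom e (H86.slLower 1) = b ^ n := by
    ext h
    obtain ⟨v, rfl⟩ := e.surjective h
    obtain ⟨w, rfl⟩ := Multiplicative.ofAdd.surjective v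
    rw [H86.slHom_apply, H86.slLower_mulVec, he, he, map_mul, map_pow, map_pow, hb'x, hb'y]
    simp only [Matrix.cons_val_zero, Matrix.cons_val_one]
    rw [H86.pow_val_add (hexp y), mul_pow, mul_assoc]
  have hcomap : (⊤ : Subgroup (Matrix.SpecialLinearGroup (Fin 2) (ZMod p))) ≤
      G.comap (H86.slHom e) := by
    rw [← H86.sl2_closure_eq_top p, Subgroup.closure_le]
    rintro M (rfl | rfl)
    · show H86.slHom e (H86.slUpper 1) ∈ G
      rw [hU]; exact ha
    · show H86.slHom e (H86.slLower 1) ∈ G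
      rw [hL]; exact G.pow_mem hb n
  have hmem : ∀ M, H86.slHom e M ∈ G := fun M => hcomap (Subgroup.mem_top M)
  have hval1 : (1 : ZMod p).val = 1 := by
    haveI : Fact (1 < p) := ⟨hp.out.one_lt⟩
    exact ZMod.val_one p
  have hx_e : x = e (Multiplicative.ofAdd ![1, 0]) := by
    rw [he]; simp [hval1]
  have hy_e : y = e (Multiplicative.ofAdd ![0, 1]) := by
    rw [he]; simp [hval1]
  refine ⟨x, y, hx1, hyx, hxa, hay, ⟨b ^ n, G.pow_mem hb n, hb'x, hb'y⟩, fun μ => ?_⟩
  have hμ : (μ : ZMod p) * ((μ⁻¹ : (ZMod p)ˣ) : ZMod p) = 1 := Units.mul_inv μ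
  refine ⟨H86.slHom e (slDiag (μ : ZMod p) ((μ⁻¹ : (ZMod p)ˣ) : ZMod p) hμ), hmem _, ?_, ?_, ?_⟩
  · conv_lhs => rw [hx_e]
    rw [H86.slHom_apply, slDiag_mulVec, he]
    simp only [Matrix.cons_val_zero, Matrix.cons_val_one, mul_one, mul_zero, ZMod.val_zero,
      pow_zero]
  · conv_lhs => rw [hy_e]
    rw [H86.slHom_apply, slDiag_mulVec, he]
    simp only [Matrix.cons_val_zero, Matrix.cons_val_one, mul_one, mul_zero, ZMod.val_zero,
      pow_zero, one_mul]
  · rw [mul_inv_eq_iff_eq_mul, ← hU, ← map_pow, ← map_mul, ← map_mul, H86.slUpper_pow,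
      ZMod.natCast_zmod_val, slDiag_mul_upper]

end SL2Coords


section SLQ

variable {T : Type*} [Group T] [Finite T] {p : ℕ} [hp : Fact p.Prime]

/-- A group `A` of automorphisms of a `p`-group `T` with `O_p(A) = Inn(T)`, acting on a
quotient `T/Z` of order `p²` and exponent `p` with kernel inside `Inn(T)`, and containing an
element `τ` of order `p` modulo `Inn(T)`: coordinates on `T/Z` adapted to `τ` in which the image
of `A` contains `SL₂(p)`. -/
theorem slq (hT : IsPGroup p T) (Z : Subgroup T) [hZc : Z.Characteristic]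
    (hcard : Nat.card (T ⧸ Z) = p ^ 2) (hexp : ∀ u : T, u ^ p ∈ Z)
    (A : Subgroup (MulAut T))
    (hrad : (pCore p ↥A).map A.subtype = Inn T)
    (hβ : ∀ α ∈ A, (∀ u : T, u⁻¹ * α u ∈ Z) → α ∈ Inn T)
    (L : Set T) (hL : ∀ v : T, ∃ q ∈ L, q⁻¹ * v ∈ Z)
    (τ : MulAut T) (hτA : τ ∈ A) (hτ : τ ∉ Inn T) (hτp : τ ^ p ∈ Inn T) :
    ∃ x ∈ L, ∃ y ∈ L,
      (∀ u : T, ∃ i j : ℕ, (x ^ i * y ^ j)⁻¹ * u ∈ Z) ∧
      (∀ i j : ℕ, x ^ i * y ^ j ∈ Z → p ∣ i ∧ p ∣ j) ∧
      x⁻¹ * τ x ∈ Z ∧ (y * x)⁻¹ * τ y ∈ Z ∧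
      (∃ l ∈ A, (x * y)⁻¹ * l x ∈ Z ∧ y⁻¹ * l y ∈ Z) ∧
      ∀ μ : (ZMod p)ˣ, ∃ η ∈ A, (x ^ (μ : ZMod p).val)⁻¹ * η x ∈ Z ∧
        (y ^ ((μ⁻¹ : (ZMod p)ˣ) : ZMod p).val)⁻¹ * η y ∈ Z ∧
        ∀ τ' ∈ A, (∀ u, (τ u)⁻¹ * τ' u ∈ Z) →
          η * τ' * η⁻¹ * (τ' ^ ((μ : ZMod p) ^ 2).val)⁻¹ ∈ Inn T := by
  classical
  have hVc : ∀ a b : T ⧸ Z, a * b = b * a :=
    (IsPGroup.isMulCommutative_of_card_eq_prime_sq hcard).is_comm.comm
  letI : CommGroup (T ⧸ Z) := { (inferInstance : Group (T ⧸ Z)) with mul_comm := hVc }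
  have hVexp : ∀ v : T ⧸ Z, v ^ p = 1 := by
    intro v
    obtain ⟨u, rfl⟩ := QuotientGroup.mk_surjective v
    rw [← QuotientGroup.mk_pow]
    exact (QuotientGroup.eq_one_iff _).2 (hexp u)
  have hInnV : ∀ α ∈ Inn T, qAut Z α = 1 := by
    rintro _ ⟨g, rfl⟩
    ext q
    obtain ⟨u, rfl⟩ := QuotientGroup.mk_surjective q
    rw [qAut_mk, MulAut.one_apply, MulAut.conj_apply, QuotientGroup.mk_mul, QuotientGroup.mk_mul,
      QuotientGroup.mk_inv, hVc (g : T ⧸ Z), mul_inv_cancel_right]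
  have hInnp : IsPGroup p (Inn T) :=
    hT.of_surjective (MulAut.conj : T →* MulAut T).rangeRestrict
      (MonoidHom.rangeRestrict_surjective _)
  obtain ⟨aV, haV⟩ : ∃ aV : MulAut (T ⧸ Z), aV = qAut Z τ := ⟨_, rfl⟩
  have haV1 : aV ≠ 1 := by
    intro h
    rw [haV] at h
    exact hτ (hβ τ hτA ((qAut_eq_one_iff Z τ).1 h))
  have haVp : aV ^ p = 1 := by
    rw [haV, ← map_pow]
    exact hInnV _ hτp
  have hao : orderOf aV = p := orderOf_eq_prime haVp haV1
  obtain ⟨g₀, hg₀A, hg₀⟩ : ∃ g₀ ∈ A, qAut Z g₀ * aV * (qAut Z g₀)⁻¹ ∉ Subgroup.zpowers aV := by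
    by_contra hcon
    push Not at hcon
    let ϕ : ↥A →* MulAut (T ⧸ Z) := (qAut Z).comp A.subtype
    let N : Subgroup ↥A := (Subgroup.zpowers aV).comap ϕ
    have hN : N.Normal := by
      constructor
      intro n hn g
      show ϕ (g * n * g⁻¹) ∈ Subgroup.zpowers aV
      rw [map_mul, map_mul, map_inv]
      obtain ⟨k, hk⟩ := Subgroup.mem_zpowers_iff.1 (show ϕ n ∈ Subgroup.zpowers aV from hn)
      rw [← hk, ← conj_zpow]
      exact Subgroup.zpow_mem _ (hcon g g.2) k
    have hNp : IsPGroup p N := by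
      apply IsPGroup.comap_of_ker_isPGroup
      · apply IsPGroup.of_card (n := 1)
        rw [Nat.card_zpowers, hao, pow_one]
      · have hle : ϕ.ker ≤ (Inn T).comap A.subtype := by
          intro α hα
          rw [MonoidHom.mem_ker] at hα
          exact hβ α α.2 ((qAut_eq_one_iff Z α).1 hα)
        exact (hInnp.comap_of_injective A.subtype (Subgroup.subtype_injective A)).to_le hle
    have hle := H86.le_pCore hN hNp
    apply hτ
    rw [← hrad]
    refine ⟨⟨τ, hτA⟩, hle ?_, rfl⟩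
    show ϕ ⟨τ, hτA⟩ ∈ Subgroup.zpowers aV
    rw [haV]
    exact Subgroup.mem_zpowers _
  obtain ⟨bV, hbV⟩ : ∃ bV : MulAut (T ⧸ Z), bV = qAut Z g₀ * aV * (qAut Z g₀)⁻¹ := ⟨_, rfl⟩
  rw [← hbV] at hg₀
  have hbV1 : bV ≠ 1 := by
    intro h
    apply hg₀
    rw [h]; exact Subgroup.one_mem _
  have hbVp : bV ^ p = 1 := by
    rw [hbV, conj_pow, haVp, mul_one, mul_inv_cancel]
  have hbo : orderOf bV = p := orderOf_eq_prime hbVp hbV1
  let G : Subgroup (MulAut (T ⧸ Z)) := A.map (qAut Z)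
  have haVG : aV ∈ G := ⟨τ, hτA, haV.symm⟩
  have hbVG : bV ∈ G := by
    refine ⟨g₀ * τ * g₀⁻¹, A.mul_mem (A.mul_mem hg₀A hτA) (A.inv_mem hg₀A), ?_⟩
    rw [map_mul, map_mul, map_inv, hbV, haV]
  obtain ⟨xV, yV, hx1, hyx, hax, hay, ⟨lV, hlVG, hlx, hly⟩, htor⟩ :=
    sl2_coords hcard hVexp G haVG hbVG hao hbo hg₀
  obtain ⟨x₀, hx₀⟩ := QuotientGroup.mk_surjective xV
  obtain ⟨y₀, hy₀⟩ := QuotientGroup.mk_surjective yV
  obtain ⟨x, hxL, hxx⟩ := hL x₀
  obtain ⟨y, hyL, hyy⟩ := hL y₀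
  have ex : xV = QuotientGroup.mk x := by rw [← hx₀]; exact (QuotientGroup.eq.2 hxx).symm
  have ey : yV = QuotientGroup.mk y := by rw [← hy₀]; exact (QuotientGroup.eq.2 hyy).symm
  subst ex ey
  refine ⟨x, hxL, y, hyL, ?_, ?_, ?_, ?_, ?_, ?_⟩
  · intro u
    obtain ⟨v, hv⟩ := (H86.coordHom_bijective hcard hVexp hx1 hyx).2 (QuotientGroup.mk u)
    obtain ⟨w, rfl⟩ := Multiplicative.ofAdd.surjective v
    rw [H86.coordHom_apply] at hv
    refine ⟨(w 0).val, (w 1).val, ?_⟩
    apply QuotientGroup.eq.1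
    rw [QuotientGroup.mk_mul, QuotientGroup.mk_pow, QuotientGroup.mk_pow]; exact hv
  · intro i j hij
    apply H86.coord_unique hVexp hx1 hyx
    rw [← QuotientGroup.mk_pow, ← QuotientGroup.mk_pow, ← QuotientGroup.mk_mul]
    exact (QuotientGroup.eq_one_iff _).2 hij
  · apply QuotientGroup.eq.1
    rw [← qAut_mk, ← haV]; exact hax.symm
  · apply QuotientGroup.eq.1
    rw [← qAut_mk, QuotientGroup.mk_mul, ← haV]; exact hay.symm
  · obtain ⟨l, hlA, rfl⟩ := hlVG
    refine ⟨l, hlA, ?_, ?_⟩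
    · apply QuotientGroup.eq.1
      rw [← qAut_mk, QuotientGroup.mk_mul]; exact hlx.symm
    · apply QuotientGroup.eq.1
      rw [← qAut_mk]; exact hly.symm
  · intro μ
    obtain ⟨gV, ⟨η, hηA, rfl⟩, hgx, hgy, hrel⟩ := htor μ
    refine ⟨η, hηA, ?_, ?_, ?_⟩
    · apply QuotientGroup.eq.1
      rw [← qAut_mk, QuotientGroup.mk_pow]; exact hgx.symm
    · apply QuotientGroup.eq.1
      rw [← qAut_mk, QuotientGroup.mk_pow]; exact hgy.symm
    · intro τ' hτ'A hτ'
      have e1 : qAut Z τ' = aV := by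
        ext q
        obtain ⟨u, rfl⟩ := QuotientGroup.mk_surjective q
        rw [haV, qAut_mk, qAut_mk]
        exact (QuotientGroup.eq.2 (hτ' u)).symm
      apply hβ _ (A.mul_mem (A.mul_mem (A.mul_mem hηA hτ'A) (A.inv_mem hηA))
        (A.inv_mem (A.pow_mem hτ'A _)))
      rw [← qAut_eq_one_iff, map_mul, map_mul, map_mul, map_inv, map_inv, map_pow, e1]
      exact mul_inv_eq_one.2 hrel

end SLQ

section Frat

variable {T : Type*} [Group T] [Finite T] {p : ℕ} [hp : Fact p.Prime]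

theorem rs_eq_top_of_lt {H K : Subgroup T} {q : ℕ} (hq : q.Prime)
    (hidx : H.index = q) (h : H < K) : K = ⊤ := by
  have h1 := Subgroup.relIndex_mul_index h.le
  rw [hidx] at h1
  have h2 : K.index ∣ q := ⟨_, by rw [← h1, mul_comm]⟩
  rcases (Nat.dvd_prime hq).1 h2 with h3 | h3
  · exact Subgroup.index_eq_one.1 h3
  · exfalso
    rw [h3] at h1
    have h4 : H.relIndex K = 1 := by
      have h5 : H.relIndex K * q = 1 * q := by rw [h1, one_mul]
      exact Nat.eq_of_mul_eq_mul_right hq.pos h5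
    exact absurd (Subgroup.relIndex_eq_one.1 h4) (not_le_of_gt h)

theorem rs_frat_comm (hT : IsPGroup p T) (u v : T ⧸ frattini T) : u * v = v * u := by
  obtain ⟨u, rfl⟩ := QuotientGroup.mk_surjective u
  obtain ⟨v, rfl⟩ := QuotientGroup.mk_surjective v
  rw [← QuotientGroup.mk_mul, ← QuotientGroup.mk_mul]
  apply QuotientGroup.eq.2
  have h := H3.commutator_le_frattini hT
    (Subgroup.commutator_mem_commutator (Subgroup.mem_top v⁻¹) (Subgroup.mem_top u⁻¹))
  have e : (u * v)⁻¹ * (v * u) = ⁅v⁻¹, u⁻¹⁆ := by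
    rw [commutatorElement_def]; group
  rw [e]; exact h

/-- A finite `p`-group generated by two elements has Frattini quotient of order at most `p²`. -/
theorem rs_frat_le (hT : IsPGroup p T) {a b : T}
    (hgen : Subgroup.closure ({a, b} : Set T) = ⊤) : Nat.card (T ⧸ frattini T) ≤ p ^ 2 := by
  classical
  letI : CommGroup (T ⧸ frattini T) :=
    { (inferInstance : Group (T ⧸ frattini T)) with mul_comm := rs_frat_comm hT }
  have hexp : ∀ v : T ⧸ frattini T, v ^ p = 1 := by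
    intro v
    obtain ⟨u, rfl⟩ := QuotientGroup.mk_surjective v
    rw [← QuotientGroup.mk_pow]
    exact (QuotientGroup.eq_one_iff _).2 (H3.pow_mem_frattini hT u)
  have hsurj : Function.Surjective (fun ij : Fin p × Fin p =>
      (QuotientGroup.mk a : T ⧸ frattini T) ^ (ij.1 : ℕ) * (QuotientGroup.mk b) ^ (ij.2 : ℕ)) := by
    intro q
    obtain ⟨u, rfl⟩ := QuotientGroup.mk_surjective q
    have hu : (QuotientGroup.mk u : T ⧸ frattini T) ∈ Subgroup.closure
        ({(QuotientGroup.mk a : T ⧸ frattini T), QuotientGroup.mk b} : Set (T ⧸ frattini T)) := by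
      have h1 : (Subgroup.closure ({a, b} : Set T)).map (QuotientGroup.mk' (frattini T)) =
          Subgroup.closure ({(QuotientGroup.mk a : T ⧸ frattini T), QuotientGroup.mk b} :
            Set (T ⧸ frattini T)) := by
        rw [MonoidHom.map_closure, Set.image_pair]
        rfl
      rw [← h1, hgen]
      exact ⟨u, Subgroup.mem_top u, rfl⟩
    obtain ⟨m, n, hmn⟩ := Subgroup.mem_closure_pair.1 hu
    have hp0 : (0 : ℤ) < p := by exact_mod_cast hp.out.pos
    have key : ∀ (c : T ⧸ frattini T) (m : ℤ), ∃ i : Fin p, c ^ m = c ^ (i : ℕ) := by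
      intro c m
      have h1 : c ^ m = c ^ (m % (p : ℤ)) := zpow_eq_zpow_emod' m (hexp c)
      have h2 : 0 ≤ m % (p : ℤ) := Int.emod_nonneg _ hp0.ne'
      have h3 : m % (p : ℤ) < p := Int.emod_lt_of_pos _ hp0
      refine ⟨⟨(m % (p : ℤ)).toNat, by omega⟩, ?_⟩
      rw [h1]
      conv_lhs => rw [← Int.toNat_of_nonneg h2]
      rw [zpow_natCast]
    obtain ⟨i, hi⟩ := key (QuotientGroup.mk a) m
    obtain ⟨j, hj⟩ := key (QuotientGroup.mk b) n
    refine ⟨(i, j), ?_⟩
    show (QuotientGroup.mk a : T ⧸ frattini T) ^ (i : ℕ) * (QuotientGroup.mk b) ^ (j : ℕ) = _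
    rw [← hi, ← hj, hmn]
  have h1 := Nat.card_le_card_of_surjective _ hsurj
  rw [Nat.card_prod, Nat.card_fin] at h1
  rw [pow_two]; exact h1

/-- A finite `p`-group generated by two elements, neither of which generates it, has Frattini
quotient of order `p²`. -/
theorem rs_frat_eq (hT : IsPGroup p T) {a b : T}
    (hgen : Subgroup.closure ({a, b} : Set T) = ⊤) (ha : Subgroup.zpowers a ≠ ⊤)
    (hb : Subgroup.zpowers b ≠ ⊤) : Nat.card (T ⧸ frattini T) = p ^ 2 := by
  have hle := rs_frat_le hT hgen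
  obtain ⟨n, hn⟩ := IsPGroup.iff_card.1 hT
  have hdvd : (frattini T).index ∣ p ^ n := by rw [← hn]; exact Subgroup.index_dvd_card _
  obtain ⟨k, -, hk⟩ := (Nat.dvd_prime_pow hp.out).1 hdvd
  rw [← Subgroup.index_eq_card] at hle ⊢
  rw [hk] at hle ⊢
  have hk2 : k ≤ 2 := (Nat.pow_le_pow_iff_right hp.out.one_lt).1 hle
  have hk0 : k ≠ 0 := by
    rintro rfl
    rw [pow_zero] at hk
    have h1 : frattini T = ⊤ := Subgroup.index_eq_one.1 hk
    have h2 : (⊥ : Subgroup T) = ⊤ := frattini_nongenerating (by rw [h1]; simp)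
    exact ha (top_unique (h2 ▸ bot_le))
  have hk1 : k ≠ 1 := by
    rintro rfl
    rw [pow_one] at hk
    by_cases haf : a ∈ frattini T
    · apply hb
      apply frattini_nongenerating
      apply top_unique
      rw [← hgen, Subgroup.closure_le]
      rintro c (rfl | rfl)
      · exact Subgroup.mem_sup_right haf
      · exact Subgroup.mem_sup_left (Subgroup.mem_zpowers _)
    · apply ha
      apply frattini_nongenerating
      apply rs_eq_top_of_lt hp.out hk
      refine lt_of_le_of_ne le_sup_right (fun h => haf ?_)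
      rw [h]
      exact Subgroup.mem_sup_left (Subgroup.mem_zpowers a)
  have : k = 2 := by omega
  rw [this]

end Frat

end Cfsg.Agent.H15
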