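import Mathlib
import Cfsg.Agent.H15.Res2
import Cfsg.Agent.H86.EssChain
import Cfsg.Agent.H86.FusExt
import Cfsg.Agent.H86.FusSat
import Cfsg.Agent.H88.Ess
import Cfsg.Agent.H76.FrattiniAut
import Cfsg.Agent.H3.OmegaExp
import Cfsg.Agent.H3.RankTwoAut

set_option autoImplicit false
set_option maxHeartbeats 800000

/-!
Fusion-system lemmas for essential subgroups: extension of automorphisms to overgroups, the
`SL₂(p)`-coordinates on a quotient of an essential subgroup, and consequences of `p`-rank two.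
-/

namespace Cfsg.Agent.H15

open Cfsg Cfsg.FusionSystem Cfsg.Agent.H86
open scoped commutatorElement

section Fus

variable {Ω : Type*} [Group Ω] {S : Subgroup Ω}

/-- If there is no essential subgroup, `S` is normal in `F`. -/
theorem rs_normal_of_no_essential [Finite S] {p : ℕ} [Fact p.Prime] (hS : IsPGroup p S)
    {F : FusionSystem S} (hF : F.IsSaturated p) (hno : ∀ E, ¬ F.IsEssential p E) :
    F.IsNormal S := by
  rw [isNormal_iff_essential hS hF]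
  rintro P (rfl | hP)
  · refine ⟨le_rfl, fun α hα => ?_⟩
    have hαM : Mor F P (autFun P α) := (mem_autGroup_iff le_rfl α).1 hα
    rw [map_subgroupOf_aut_eq_iff le_rfl hαM]
    exact imgS_eq_of_maps (hαM.restrict le_rfl) (fun x hx => hαM.mem hx)
  · exact absurd hP (hno P)

theorem ess_facts [Finite S] {p : ℕ} [Fact p.Prime] (hS : IsPGroup p S) {F : FusionSystem S}
    (hF : F.IsSaturated p) {E : Subgroup Ω} (hE : F.IsEssential p E) :
    E ≤ S ∧ centralizerIn S E ≤ E ∧ F.IsReceptive E ∧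
      (pCore p ↥(F.autGroup E)).map (F.autGroup E).subtype = Inn ↥E ∧ E < S := by
  have hES : E ≤ S := hE.1.1
  have hcen : centralizerIn S E ≤ E := hE.1.2 E (isConj_refl F hES)
  have hfa := saturated_fullyNormalized hS hF hE.2.1
  have hrec := saturated_receptive_of_fullyCentralized hS hF hfa.1
  exact ⟨hES, hcen, hrec, (radical_of_essential hS hE).2, H88.essential_lt hfa.2 hE⟩

theorem conj_aut_facts (F : FusionSystem S) {E : Subgroup Ω} (hES : E ≤ S)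
    (hcen : centralizerIn S E ≤ E) {t : Ω} (htS : t ∈ S)
    {τ : MulAut E} (hτ : ∀ x : E, ((τ x : E) : Ω) = t * x * t⁻¹) :
    τ ∈ F.autGroup E ∧ (t ∉ E → τ ∉ Inn E) ∧
      (∀ k : ℕ, ∀ x : E, (((τ ^ k) x : E) : Ω) = t ^ k * x * (t ^ k)⁻¹) ∧
      (∀ k : ℕ, t ^ k ∈ E → τ ^ k ∈ Inn E) := by
  have hpow : ∀ k : ℕ, ∀ x : E, (((τ ^ k) x : E) : Ω) = t ^ k * x * (t ^ k)⁻¹ := by
    intro k
    induction k with
    | zero => intro x; simp
    | succ k ih =>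
      intro x
      rw [pow_succ', MulAut.mul_apply, hτ, ih, pow_succ']; group
  refine ⟨?_, ?_, hpow, ?_⟩
  · exact autInducedBy_le_autGroup F hES ((mem_autInducedBy_iff S E τ).2 ⟨t, htS, hτ⟩)
  · intro ht hinn
    exact ht (mem_of_induces_inner hES hcen htS hτ hinn)
  · intro k hk
    exact (mem_inn_iff _).2 ⟨t ^ k, hk, hpow k⟩

/-- Extension of an automorphism `δ ∈ Aut_F(P)` of a receptive subgroup containing its
centralizer to an element `w` normalizing `P` whose conjugation `ω` satisfies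
`δ ω δ⁻¹ ≡ ω^K` modulo `Inn(P)`. -/
theorem fus_ext {F : FusionSystem S} {P : Subgroup Ω} (hP : P ≤ S) (hrec : F.IsReceptive P)
    (hcen : centralizerIn S P ≤ P) {δ : MulAut P} (hδ : δ ∈ F.autGroup P) {w : Ω} (hwS : w ∈ S)
    (hwn : w ∈ Subgroup.normalizer (P : Set Ω)) {ω : MulAut P}
    (hω : ∀ x : P, ((ω x : P) : Ω) = w * x * w⁻¹)
    (K : ℕ) (hψ : δ * ω * δ⁻¹ * (ω ^ K)⁻¹ ∈ Inn P) :
    ∃ (R : Subgroup Ω) (f : Ω → Ω), Mor F R f ∧ P ≤ R ∧ w ∈ R ∧ (∀ x : P, f x = (δ x : Ω)) ∧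
      ∃ e ∈ P, f w = e * w ^ K := by
  obtain ⟨n, hn, Hn⟩ := (mem_inn_iff _).1 hψ
  have hωK : ∀ k : ℕ, ∀ x : P, (((ω ^ k) x : P) : Ω) = w ^ k * x * (w ^ k)⁻¹ := by
    intro k
    induction k with
    | zero => intro x; simp
    | succ k ih =>
      intro x
      rw [pow_succ', MulAut.mul_apply, hω, ih, pow_succ']; group
  have hδM : Mor F P (autFun P δ) := (mem_autGroup_iff hP δ).1 hδ
  have key : ∀ x : P, ((δ (ω x) : P) : Ω) = (n * w ^ K) * (δ x : Ω) * (n * w ^ K)⁻¹ := by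
    intro x
    have e1 : (δ * ω * δ⁻¹ * (ω ^ K)⁻¹) ((ω ^ K) (δ x)) = δ (ω x) := by
      simp only [MulAut.mul_apply, MulAut.inv_apply_self]
    rw [← e1, Hn, hωK]; group
  have hwK : w ^ K ∈ Subgroup.normalizer (P : Set Ω) := Subgroup.pow_mem _ hwn K
  have hwR : w ∈ extSub S P (autFun P δ) := by
    rw [mem_extSub_iff hδM]
    refine ⟨hwS, hwn, n * w ^ K, S.mul_mem (hP hn) (S.pow_mem hwS K), fun x hx => ?_⟩
    have e2 : w * x * w⁻¹ = ((ω ⟨x, hx⟩ : P) : Ω) := (hω ⟨x, hx⟩).symm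
    rw [e2, autFun_apply, autFun_of_mem δ hx, key]
  obtain ⟨f', hf', hf'P⟩ := receptive_extend' hrec hδM (imgS_autFun hδM)
  have hPR : P ≤ extSub S P (autFun P δ) := le_extSub hδM
  have hfδ : ∀ x : P, f' x = (δ x : Ω) := by
    intro x
    rw [hf'P x x.2, autFun_apply]
  refine ⟨extSub S P (autFun P δ), f', hf', hPR, hwR, hfδ, ?_⟩
  have hfwS : f' w ∈ S := hf'.mem hwR
  have hc : (n * w ^ K)⁻¹ * f' w ∈ centralizerIn S P := by
    rw [mem_centralizerIn_iff]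
    refine ⟨S.mul_mem (S.inv_mem (S.mul_mem (hP hn) (S.pow_mem hwS K))) hfwS, fun y hy => ?_⟩
    -- write `y = δ x`
    obtain ⟨x, rfl⟩ : ∃ x : P, (δ x : Ω) = y := ⟨δ⁻¹ ⟨y, hy⟩, by simp⟩
    have h1 : f' (w * x * w⁻¹) = f' w * f' x * (f' w)⁻¹ := by
      rw [hf'.map_mul (mul_mem hwR (hPR x.2)) (inv_mem hwR), hf'.map_mul hwR (hPR x.2),
        hf'.map_inv hwR]
    have h2 : f' (w * x * w⁻¹) = (n * w ^ K) * (δ x : Ω) * (n * w ^ K)⁻¹ := by
      have e2 : w * (x : Ω) * w⁻¹ = ((ω x : P) : Ω) := (hω x).symm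
      rw [e2, hfδ, key]
    rw [hfδ] at h1
    have h3 : f' w * (δ x : Ω) * (f' w)⁻¹ = (n * w ^ K) * (δ x : Ω) * (n * w ^ K)⁻¹ :=
      h1.symm.trans h2
    calc (δ x : Ω) * ((n * w ^ K)⁻¹ * f' w)
        = (n * w ^ K)⁻¹ * ((n * w ^ K) * (δ x : Ω) * (n * w ^ K)⁻¹) * f' w := by group
      _ = (n * w ^ K)⁻¹ * (f' w * (δ x : Ω) * (f' w)⁻¹) * f' w := by rw [h3]
      _ = (n * w ^ K)⁻¹ * f' w * (δ x : Ω) := by group
  have hcP := hcen hc
  refine ⟨n * (w ^ K * ((n * w ^ K)⁻¹ * f' w) * (w ^ K)⁻¹),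
    P.mul_mem hn (conj_mem_of_mem_normalizer hwK hcP), ?_⟩
  group

/-- Automorphisms in a radical automorphism group acting trivially on the Frattini quotient
are inner. -/
theorem beta_frattini {T : Type*} [Group T] [Finite T] {p : ℕ} [hp : Fact p.Prime]
    (hT : IsPGroup p T) (A : Subgroup (MulAut T))
    (hrad : (pCore p ↥A).map A.subtype = Inn T) :
    ∀ α ∈ A, (∀ u : T, u⁻¹ * α u ∈ frattini T) → α ∈ Inn T := by
  intro α hαA hα
  let ϕ : ↥A →* MulAut (T ⧸ frattini T) := (qAut (frattini T)).comp A.subtype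
  have hKp : IsPGroup p ϕ.ker := by
    obtain ⟨n, hn⟩ := IsPGroup.iff_card.1 hT
    have hdvd : (frattini T).index ∣ p ^ n := by rw [← hn]; exact Subgroup.index_dvd_card _
    obtain ⟨r, -, hr⟩ := (Nat.dvd_prime_pow hp.out).1 hdvd
    have h1 := H76.card_dvd_of_trivial_on_frattini hn hr (ϕ.ker.map A.subtype) (by
      rintro _ ⟨β, hβ, rfl⟩ x
      have h2 := (qAut_eq_one_iff (frattini T) (β : MulAut T)).1 (MonoidHom.mem_ker.1 hβ) x
      have h3 : (β : MulAut T) x * x⁻¹ = x * (x⁻¹ * (β : MulAut T) x) * x⁻¹ := by group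
      show (β : MulAut T) x * x⁻¹ ∈ frattini T
      rw [h3]
      exact (inferInstance : (frattini T).Normal).conj_mem _ h2 x)
    obtain ⟨j, -, hj⟩ := (Nat.dvd_prime_pow hp.out).1 h1
    have h4 : IsPGroup p (ϕ.ker.map A.subtype) := IsPGroup.of_card hj
    have h5 : ϕ.ker = (ϕ.ker.map A.subtype).comap A.subtype :=
      (Subgroup.comap_map_eq_self_of_injective (Subgroup.subtype_injective A) _).symm
    rw [h5]
    exact h4.comap_of_injective A.subtype (Subgroup.subtype_injective A)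
  have hle := le_pCore (MonoidHom.normal_ker ϕ) hKp
  rw [← hrad]
  refine ⟨⟨α, hαA⟩, hle ?_, rfl⟩
  exact MonoidHom.mem_ker.2 ((qAut_eq_one_iff _ _).2 hα)

/-- The `SL₂(p)`-coordinates on a quotient of order `p²` of an essential subgroup. -/
theorem ess_slq [Finite S] {p : ℕ} [hp : Fact p.Prime] (hS : IsPGroup p S) {F : FusionSystem S}
    (hF : F.IsSaturated p) {E : Subgroup Ω} (hE : F.IsEssential p E)
    (Z : Subgroup ↥E) [Z.Characteristic] (hcard : Nat.card (↥E ⧸ Z) = p ^ 2)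
    (hexp : ∀ u : ↥E, u ^ p ∈ Z)
    (hβ : ∀ α ∈ F.autGroup E, (∀ u : ↥E, u⁻¹ * α u ∈ Z) → α ∈ Inn ↥E)
    (L : Set ↥E) (hL : ∀ v : ↥E, ∃ q ∈ L, q⁻¹ * v ∈ Z)
    {t : Ω} (htS : t ∈ S) (htn : t ∈ Subgroup.normalizer (E : Set Ω)) (htE : t ∉ E)
    (htp : t ^ p ∈ E) :
    ∃ τ : MulAut ↥E, (∀ x : ↥E, ((τ x : ↥E) : Ω) = t * x * t⁻¹) ∧ τ ∈ F.autGroup E ∧
      ∃ x ∈ L, ∃ y ∈ L,
      (∀ u : ↥E, ∃ i j : ℕ, (x ^ i * y ^ j)⁻¹ * u ∈ Z) ∧
      (∀ i j : ℕ, x ^ i * y ^ j ∈ Z → p ∣ i ∧ p ∣ j) ∧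
      x⁻¹ * τ x ∈ Z ∧ (y * x)⁻¹ * τ y ∈ Z ∧
      (∃ l ∈ F.autGroup E, (x * y)⁻¹ * l x ∈ Z ∧ y⁻¹ * l y ∈ Z) ∧
      ∀ μ : (ZMod p)ˣ, ∃ η ∈ F.autGroup E, (x ^ (μ : ZMod p).val)⁻¹ * η x ∈ Z ∧
        (y ^ ((μ⁻¹ : (ZMod p)ˣ) : ZMod p).val)⁻¹ * η y ∈ Z ∧
        ∀ τ' ∈ F.autGroup E, (∀ u, (τ u)⁻¹ * τ' u ∈ Z) →
          η * τ' * η⁻¹ * (τ' ^ ((μ : ZMod p) ^ 2).val)⁻¹ ∈ Inn ↥E := by
  obtain ⟨hES, hcen, hrec, hrad, hlt⟩ := ess_facts hS hF hE
  haveI : Finite E := finite_of_le hES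
  obtain ⟨τ, hτ⟩ := exists_conjAut htn
  obtain ⟨hτA, hτI, hτpow, hτk⟩ := conj_aut_facts F hES hcen htS hτ
  refine ⟨τ, hτ, hτA, ?_⟩
  exact slq (hS.to_le hES) Z hcard hexp (F.autGroup E) hrad hβ L hL τ hτA (hτI htE) (hτk p htp)

end Fus

section Rank

variable {Ω : Type*} [Group Ω] {S : Subgroup Ω}

theorem rank_sub {p : ℕ}
    (hrank3 : ∀ E : Subgroup Ω, E ≤ S → IsElementaryAbelian p E → Nat.card E ≤ p ^ 2)
    {D : Subgroup Ω} (hD : D ≤ S) (A : Subgroup ↥D) (hc : ∀ a ∈ A, ∀ b ∈ A, a * b = b * a)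
    (he : ∀ a ∈ A, a ^ p = 1) : Nat.card A ≤ p ^ 2 := by
  have h1 : Nat.card (A.map D.subtype) = Nat.card A :=
    Subgroup.card_map_of_injective (Subgroup.subtype_injective D)
  rw [← h1]
  apply hrank3 _ ((Subgroup.map_subtype_le A).trans hD)
  refine ⟨⟨⟨?_⟩⟩, ?_⟩
  · rintro ⟨_, a, ha, rfl⟩ ⟨_, b, hb, rfl⟩
    apply Subtype.ext
    show D.subtype a * D.subtype b = D.subtype b * D.subtype a
    rw [← map_mul, ← map_mul, hc a ha b hb]
  · rintro _ ⟨a, ha, rfl⟩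
    rw [← map_pow, he a ha, map_one]

theorem om_mul [Finite S] {p : ℕ} [Fact p.Prime] (hS : IsPGroup p S) (hp : 5 ≤ p)
    (hrank3 : ∀ E : Subgroup Ω, E ≤ S → IsElementaryAbelian p E → Nat.card E ≤ p ^ 2)
    {a b : Ω} (ha : a ∈ S) (hb : b ∈ S) (hap : a ^ p = 1) (hbp : b ^ p = 1) :
    (a * b) ^ p = 1 := by
  have h := H3.mul_pow_eq_one_of_rank_two p (by omega) (Nat.card S) ↥S rfl hS
    (fun A hc he => rank_sub hrank3 le_rfl A hc he) ⟨a, ha⟩ ⟨b, hb⟩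
    (Subtype.ext (by simpa using hap)) (Subtype.ext (by simpa using hbp))
  simpa using congrArg Subtype.val h

/-- `Ω₁(S)` for a `p`-group of rank two, `p ≥ 5`: the elements of order dividing `p`. -/
def omOne [Finite S] {p : ℕ} [Fact p.Prime] (hS : IsPGroup p S) (hp : 5 ≤ p)
    (hrank3 : ∀ E : Subgroup Ω, E ≤ S → IsElementaryAbelian p E → Nat.card E ≤ p ^ 2) :
    Subgroup Ω where
  carrier := {s | s ∈ S ∧ s ^ p = 1}
  mul_mem' := fun ha hb => ⟨S.mul_mem ha.1 hb.1, om_mul hS hp hrank3 ha.1 hb.1 ha.2 hb.2⟩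
  one_mem' := ⟨S.one_mem, one_pow _⟩
  inv_mem' := fun ha => ⟨S.inv_mem ha.1, by rw [inv_pow, ha.2, inv_one]⟩

theorem mem_omOne [Finite S] {p : ℕ} [Fact p.Prime] (hS : IsPGroup p S) (hp : 5 ≤ p)
    (hrank3 : ∀ E : Subgroup Ω, E ≤ S → IsElementaryAbelian p E → Nat.card E ≤ p ^ 2) {s : Ω} :
    s ∈ omOne hS hp hrank3 ↔ s ∈ S ∧ s ^ p = 1 := Iff.rfl

theorem om_card [Finite S] {p : ℕ} [Fact p.Prime] (hS : IsPGroup p S)
    (hrank3 : ∀ E : Subgroup Ω, E ≤ S → IsElementaryAbelian p E → Nat.card E ≤ p ^ 2)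
    (D : Subgroup Ω) (hDS : D ≤ S) (hD : ∀ d ∈ D, d ^ p = 1) : Nat.card D ≤ p ^ 3 := by
  haveI : Finite D := finite_of_le hDS
  apply H3.card_le_cube_of_exponent_of_rank_two (hS.to_le hDS)
  intro A hc
  apply rank_sub hrank3 hDS A hc
  intro a _
  apply Subtype.ext
  simpa using hD a a.2

/-- A subgroup of exponent `p` and order at least `p³` contains every element of order `p`. -/
theorem om_eq [Finite S] {p : ℕ} [Fact p.Prime] (hS : IsPGroup p S) (hp : 5 ≤ p)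
    (hrank3 : ∀ E : Subgroup Ω, E ≤ S → IsElementaryAbelian p E → Nat.card E ≤ p ^ 2)
    {P : Subgroup Ω} (hPS : P ≤ S) (hP : ∀ u ∈ P, u ^ p = 1) (hc : p ^ 3 ≤ Nat.card P) :
    ∀ s ∈ S, s ^ p = 1 → s ∈ P := by
  intro s hs hsp
  have hle : P ≤ omOne hS hp hrank3 := fun u hu => ⟨hPS hu, hP u hu⟩
  have hDS : omOne hS hp hrank3 ≤ S := fun u hu => hu.1
  haveI : Finite (omOne hS hp hrank3) := finite_of_le hDS
  have hcard := om_card hS hrank3 (omOne hS hp hrank3) hDS (fun d hd => hd.2)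
  have heq : P = omOne hS hp hrank3 := Subgroup.eq_of_le_of_card_ge hle (hcard.trans hc)
  rw [heq]
  exact ⟨hs, hsp⟩

/-- A nonabelian finite `p`-group has order at least `p³`. -/
theorem nonab_card {T : Type*} [Group T] [Finite T] {p : ℕ} [hp : Fact p.Prime]
    (hT : IsPGroup p T) {a b : T} (hab : a * b ≠ b * a) : p ^ 3 ≤ Nat.card T := by
  obtain ⟨k, hk⟩ := IsPGroup.iff_card.1 hT
  rw [hk]
  apply Nat.pow_le_pow_right hp.out.pos
  by_contra hlt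
  apply hab
  have hk2 : k ≤ 2 := by omega
  interval_cases k
  · rw [pow_zero] at hk
    haveI : Subsingleton T := (Nat.card_eq_one_iff_unique.1 hk).1
    exact Subsingleton.elim _ _
  · rw [pow_one] at hk
    haveI := isCyclic_of_prime_card hk
    exact (IsCyclic.commGroup.mul_comm a b)
  · exact (IsPGroup.isMulCommutative_of_card_eq_prime_sq hk).is_comm.comm a b

end Rank

end Cfsg.Agent.H15
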