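import Mathlib
import Cfsg.Agent.H15.Res3
import Cfsg.Agent.H15.Metacyclic5

set_option autoImplicit false
set_option maxHeartbeats 800000

/-!
Essential subgroups of rank two (`p ≥ 5`) with Frattini quotient of order `p²`: they are not
non-abelian metacyclic, and they have exponent `p` as soon as some element of order `p` lies
outside the Frattini subgroup.
-/

namespace Cfsg.Agent.H15

open Cfsg Cfsg.FusionSystem Cfsg.Agent.H86
open scoped commutatorElement

section Units

theorem exists_unit_two {p : ℕ} [hp : Fact p.Prime] (hp5 : 5 ≤ p) :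
    ∃ μ : (ZMod p)ˣ, (μ : ZMod p) ≠ 1 ∧ (μ : ZMod p) ^ 2 ≠ 1 ∧
      ((μ⁻¹ : (ZMod p)ˣ) : ZMod p) ≠ 1 := by
  have h3 : ((3 : ℕ) : ZMod p) ≠ 0 := by
    rw [Ne, ZMod.natCast_eq_zero_iff]
    intro h
    have := Nat.le_of_dvd (by norm_num) h
    omega
  have h2 : (2 : ZMod p) ≠ 0 := by
    have : ((2 : ℕ) : ZMod p) ≠ 0 := by
      rw [Ne, ZMod.natCast_eq_zero_iff]
      intro h
      have := Nat.le_of_dvd (by norm_num) h
      omega
    simpa using this
  have h1 : (2 : ZMod p) ≠ 1 := by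
    intro h
    have h' : (1 : ZMod p) = 0 := by linear_combination h
    exact one_ne_zero h'
  refine ⟨Units.mk0 2 h2, ?_, ?_, ?_⟩
  · simpa using h1
  · simp only [Units.val_mk0]
    intro h
    apply h3
    push_cast
    linear_combination h
  · intro h
    have h4 : (Units.mk0 (2 : ZMod p) h2)⁻¹ = 1 := Units.ext (by simpa using h)
    rw [inv_eq_one] at h4
    have := congrArg Units.val h4
    simp only [Units.val_mk0, Units.val_one] at this
    exact h1 this

theorem val_not_modEq_one {p : ℕ} [hp : Fact p.Prime] {c : ZMod p} (hc : c ≠ 1) :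
    ¬ c.val ≡ 1 [MOD p] := by
  intro h
  apply hc
  have := (ZMod.natCast_eq_natCast_iff _ _ _).2 h
  simpa using this

end Units

section PowGen

variable {G : Type*} [Group G]

theorem pow_gen {p : ℕ} [hp : Fact p.Prime] {g : G} (K : Subgroup G) (hg : g ^ p = 1) {a : ℕ}
    (ha : ¬ p ∣ a) (h : g ^ a ∈ K) : g ∈ K := by
  by_cases hg1 : g = 1
  · rw [hg1]; exact K.one_mem
  have ho : orderOf g = p := orderOf_eq_prime hg hg1
  have hcop : a.Coprime (orderOf g) := by
    rw [ho]; exact ((Nat.Prime.coprime_iff_not_dvd hp.out).2 ha).symm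
  obtain ⟨m, hm⟩ := exists_pow_eq_self_of_coprime hcop
  rw [← hm]
  exact K.pow_mem h m

theorem pow_gen' {p : ℕ} [hp : Fact p.Prime] {g : G} (K : Subgroup G) (hg : g ^ p = 1) {a : ℕ}
    (ha : ¬ a ≡ 1 [MOD p]) (h : g ^ a * g⁻¹ ∈ K) : g ∈ K := by
  have h1 : g ^ (a + (p - 1)) = g ^ a * g⁻¹ := by
    have h2 : g ^ (p - 1) = g⁻¹ := by
      apply eq_inv_of_mul_eq_one_left
      rw [← pow_succ, Nat.sub_add_cancel hp.out.pos, hg]
    rw [pow_add, h2]
  apply pow_gen K hg (a := a + (p - 1)) _ (h1 ▸ h)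
  intro hdvd
  apply ha
  have h3 : a + (p - 1) + 1 = a + p := by have := hp.out.pos; omega
  have h4 : a + (p - 1) + 1 ≡ 0 + 1 [MOD p] := Nat.ModEq.add_right 1 ((Nat.modEq_zero_iff_dvd).2 hdvd)
  rw [h3] at h4
  have h5 : a + p ≡ a [MOD p] := by simp [Nat.ModEq]
  exact h5.symm.trans h4

end PowGen

section Frat

variable {Ω : Type*} [Group Ω] {S : Subgroup Ω}

/-- An essential subgroup with Frattini quotient of order `p²`: invariant subgroups not inside
the Frattini subgroup are everything, and there is a `p'`-group of automorphisms `X` with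
`[E, X]` not inside any proper subgroup. -/
theorem ess_frat [Finite S] {p : ℕ} [hp : Fact p.Prime] (hS : IsPGroup p S) (hp5 : 5 ≤ p)
    {F : FusionSystem S} (hF : F.IsSaturated p) {E : Subgroup Ω} (hE : F.IsEssential p E)
    (hfr : Nat.card (↥E ⧸ frattini ↥E) = p ^ 2) :
    (∀ M : Subgroup ↥E, (∀ α ∈ F.autGroup E, ∀ u ∈ M, α u ∈ M) →
      (∃ u ∈ M, u ∉ frattini ↥E) → M = ⊤) ∧
    (∃ X : Subgroup (MulAut ↥E), (Nat.card X).Coprime p ∧
      ∀ H : Subgroup ↥E, (∀ φ ∈ X, ∀ s : ↥E, φ s * s⁻¹ ∈ H) → H = ⊤) := by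
  classical
  obtain ⟨hES, hcen, hrec, hrad, hlt⟩ := ess_facts hS hF hE
  haveI : Finite E := finite_of_le hES
  have hEp : IsPGroup p ↥E := hS.to_le hES
  obtain ⟨t, htS, htn, htE, htp⟩ := rs_step hS hlt
  have hexp : ∀ u : ↥E, u ^ p ∈ frattini ↥E := H3.pow_mem_frattini hEp
  have hβ := beta_frattini hEp (F.autGroup E) hrad
  obtain ⟨τ, hτ, hτA, x, -, y, -, hgen, huniq, hτx, hτy, ⟨l, hlA, hlx, hly⟩, htor⟩ :=
    ess_slq hS hF hE (frattini ↥E) hfr hexp hβ Set.univ (fun v => ⟨v, trivial, by simp⟩)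
      htS htn htE htp
  have hVc : ∀ a b : ↥E ⧸ frattini ↥E, a * b = b * a := rs_frat_comm hEp
  have hxp : (QuotientGroup.mk x : ↥E ⧸ frattini ↥E) ^ p = 1 := by
    rw [← QuotientGroup.mk_pow]; exact (QuotientGroup.eq_one_iff _).2 (hexp x)
  have hyp : (QuotientGroup.mk y : ↥E ⧸ frattini ↥E) ^ p = 1 := by
    rw [← QuotientGroup.mk_pow]; exact (QuotientGroup.eq_one_iff _).2 (hexp y)
  have hgenV : ∀ u : ↥E, ∃ i j : ℕ, (QuotientGroup.mk u : ↥E ⧸ frattini ↥E) =
      (QuotientGroup.mk x) ^ i * (QuotientGroup.mk y) ^ j := by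
    intro u
    obtain ⟨i, j, hij⟩ := hgen u
    refine ⟨i, j, ?_⟩
    rw [← QuotientGroup.mk_pow, ← QuotientGroup.mk_pow, ← QuotientGroup.mk_mul]
    exact (QuotientGroup.eq.2 hij).symm
  -- a subgroup of the quotient containing the images of `x` and `y` is everything
  have htop : ∀ K : Subgroup ↥E, (QuotientGroup.mk x : ↥E ⧸ frattini ↥E) ∈
      K.map (QuotientGroup.mk' (frattini ↥E)) → (QuotientGroup.mk y : ↥E ⧸ frattini ↥E) ∈
      K.map (QuotientGroup.mk' (frattini ↥E)) → K = ⊤ := by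
    intro K hx hy
    apply frattini_nongenerating
    have h1 : K.map (QuotientGroup.mk' (frattini ↥E)) = ⊤ := by
      rw [eq_top_iff]
      intro q _
      obtain ⟨u, rfl⟩ := QuotientGroup.mk_surjective q
      obtain ⟨i, j, hij⟩ := hgenV u
      rw [hij]
      exact Subgroup.mul_mem _ (Subgroup.pow_mem _ hx i) (Subgroup.pow_mem _ hy j)
    have h2 := QuotientGroup.comap_map_mk' (frattini ↥E) K
    rw [h1, Subgroup.comap_top] at h2
    rw [sup_comm]; exact h2.symm
  refine ⟨?_, ?_⟩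
  · rintro M hM ⟨u, huM, huΦ⟩
    have hMV : ∀ α ∈ F.autGroup E, ∀ q ∈ M.map (QuotientGroup.mk' (frattini ↥E)),
        qAut (frattini ↥E) α q ∈ M.map (QuotientGroup.mk' (frattini ↥E)) := by
      rintro α hα _ ⟨m, hm, rfl⟩
      exact ⟨α m, hM α hα m hm, rfl⟩
    have eτx : qAut (frattini ↥E) τ (QuotientGroup.mk x) = QuotientGroup.mk x :=
      (QuotientGroup.eq.2 hτx).symm
    have eτy : qAut (frattini ↥E) τ (QuotientGroup.mk y) =
        QuotientGroup.mk y * QuotientGroup.mk x := (QuotientGroup.eq.2 hτy).symm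
    have elx : qAut (frattini ↥E) l (QuotientGroup.mk x) =
        QuotientGroup.mk x * QuotientGroup.mk y := (QuotientGroup.eq.2 hlx).symm
    obtain ⟨i, j, hij⟩ := hgenV u
    have huV : (QuotientGroup.mk u : ↥E ⧸ frattini ↥E) ∈
        M.map (QuotientGroup.mk' (frattini ↥E)) := ⟨u, huM, rfl⟩
    have hu1 : (QuotientGroup.mk u : ↥E ⧸ frattini ↥E) ≠ 1 := by
      intro h
      exact huΦ ((QuotientGroup.eq_one_iff _).1 h)
    have hxM : (QuotientGroup.mk x : ↥E ⧸ frattini ↥E) ∈
        M.map (QuotientGroup.mk' (frattini ↥E)) := by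
      by_cases hj : p ∣ j
      · have hyj : (QuotientGroup.mk y : ↥E ⧸ frattini ↥E) ^ j = 1 := by
          obtain ⟨c, rfl⟩ := hj
          rw [pow_mul, hyp, one_pow]
        rw [hyj, mul_one] at hij
        apply pow_gen _ hxp (a := i) _ (hij ▸ huV)
        intro hi
        apply hu1
        obtain ⟨c, rfl⟩ := hi
        rw [hij, pow_mul, hxp, one_pow]
      · have h1 := hMV τ hτA _ huV
        rw [hij, map_mul, map_pow, map_pow, eτx, eτy,
          (show Commute (QuotientGroup.mk y : ↥E ⧸ frattini ↥E) (QuotientGroup.mk x) from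
            hVc _ _).mul_pow] at h1
        have h2 : (QuotientGroup.mk x : ↥E ⧸ frattini ↥E) ^ j =
            ((QuotientGroup.mk x) ^ i * (QuotientGroup.mk y) ^ j)⁻¹ *
              ((QuotientGroup.mk x) ^ i * ((QuotientGroup.mk y) ^ j * (QuotientGroup.mk x) ^ j)) := by
          group
        apply pow_gen _ hxp hj
        rw [h2]
        exact Subgroup.mul_mem _ (Subgroup.inv_mem _ (hij ▸ huV)) h1
    have hyM : (QuotientGroup.mk y : ↥E ⧸ frattini ↥E) ∈
        M.map (QuotientGroup.mk' (frattini ↥E)) := by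
      have h1 := hMV l hlA _ hxM
      rw [elx] at h1
      have h2 : (QuotientGroup.mk y : ↥E ⧸ frattini ↥E) =
          (QuotientGroup.mk x)⁻¹ * (QuotientGroup.mk x * QuotientGroup.mk y) := by group
      rw [h2]
      exact Subgroup.mul_mem _ (Subgroup.inv_mem _ hxM) h1
    exact htop M hxM hyM
  · obtain ⟨μ, hμ1, hμ2, hμ3⟩ := exists_unit_two hp5
    obtain ⟨η, hηA, hηx, hηy, -⟩ := htor μ
    obtain ⟨N, hN⟩ := rs_ppart p η
    refine ⟨Subgroup.zpowers (η ^ p ^ N), by rw [Nat.card_zpowers]; exact hN, ?_⟩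
    intro H hH
    have key : ∀ (v : ↥E) (a : ℕ), (QuotientGroup.mk v : ↥E ⧸ frattini ↥E) ^ p = 1 →
        (v ^ a)⁻¹ * η v ∈ frattini ↥E → ¬ a ≡ 1 [MOD p] →
        (QuotientGroup.mk v : ↥E ⧸ frattini ↥E) ∈ H.map (QuotientGroup.mk' (frattini ↥E)) := by
      intro v a hvp hηv ha
      have e1 : qAut (frattini ↥E) η (QuotientGroup.mk v) = (QuotientGroup.mk v) ^ a := by
        rw [← QuotientGroup.mk_pow]; exact (QuotientGroup.eq.2 hηv).symm
      have e2 : ∀ k : ℕ, (qAut (frattini ↥E) η ^ k) (QuotientGroup.mk v) =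
          (QuotientGroup.mk v) ^ (a ^ k) := by
        intro k
        induction k with
        | zero => simp
        | succ k ih =>
          rw [pow_succ', MulAut.mul_apply, ih, map_pow, e1, ← pow_mul, pow_succ']
      have e3 : (QuotientGroup.mk v : ↥E ⧸ frattini ↥E) ^ (a ^ p ^ N) = (QuotientGroup.mk v) ^ a := by
        rw [pow_eq_pow_mod (a ^ p ^ N) hvp, pow_eq_pow_mod a hvp]
        congr 1
        have h1 : ((a ^ p ^ N : ℕ) : ZMod p) = (a : ZMod p) := by
          push_cast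
          exact ZMod.pow_card_pow _
        exact (ZMod.natCast_eq_natCast_iff _ _ _).1 h1
      have e4 : (QuotientGroup.mk ((η ^ p ^ N) v * v⁻¹) : ↥E ⧸ frattini ↥E) =
          (QuotientGroup.mk v) ^ a * (QuotientGroup.mk v)⁻¹ := by
        rw [QuotientGroup.mk_mul, QuotientGroup.mk_inv, ← qAut_mk, map_pow, e2, e3]
      apply pow_gen' _ hvp ha
      rw [← e4]
      exact ⟨_, hH _ (Subgroup.mem_zpowers _) v, rfl⟩
    exact htop H (key x _ hxp hηx (val_not_modEq_one hμ1)) (key y _ hyp hηy (val_not_modEq_one hμ3))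


/-- An essential subgroup is not a non-abelian metacyclic group. -/
theorem kill_meta [Finite S] {p : ℕ} [hp : Fact p.Prime] (hS : IsPGroup p S) (hp5 : 5 ≤ p)
    {F : FusionSystem S} (hF : F.IsSaturated p) {E : Subgroup Ω} (hE : F.IsEssential p E)
    (D : MC ↥E p) (hn : 1 ≤ D.n) : False := by
  obtain ⟨hES, -, -, -, -⟩ := ess_facts hS hF hE
  haveI : Finite E := finite_of_le hES
  have hEp : IsPGroup p ↥E := hS.to_le hES
  have hgen : Subgroup.closure ({D.a, D.b} : Set ↥E) = ⊤ := by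
    rw [eq_top_iff]
    intro g _
    obtain ⟨i, j, rfl⟩ := D.hgen g
    exact Subgroup.mul_mem _ (Subgroup.pow_mem _ (Subgroup.subset_closure (by simp)) i)
      (Subgroup.pow_mem _ (Subgroup.subset_closure (by simp)) j)
  have hnc : ∀ c : ↥E, Subgroup.zpowers c ≠ ⊤ := by
    intro c htop
    have hcomm : ∀ u v : ↥E, u * v = v * u := by
      intro u v
      have hu : u ∈ Subgroup.zpowers c := by rw [htop]; trivial
      have hv : v ∈ Subgroup.zpowers c := by rw [htop]; trivial
      obtain ⟨i, rfl⟩ := Subgroup.mem_zpowers_iff.1 hu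
      obtain ⟨j, rfl⟩ := Subgroup.mem_zpowers_iff.1 hv
      exact zpow_mul_comm c i j
    have := D.comm_all_iff.1 hcomm
    omega
  have hfr := rs_frat_eq hEp hgen (hnc _) (hnc _)
  obtain ⟨-, X, hX, hXH⟩ := ess_frat hS hp5 hF hE hfr
  obtain ⟨H, hH, hHX⟩ := D.exists_proper_of_coprime hn X hX
  exact hH (hXH H hHX)

/-- An essential subgroup of rank two is not of the third type of Blackburn's list. -/
theorem kill_G [Finite S] {p : ℕ} [hp : Fact p.Prime] (hS : IsPGroup p S) (hp5 : 5 ≤ p)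
    (hrank3 : ∀ E : Subgroup Ω, E ≤ S → IsElementaryAbelian p E → Nat.card E ≤ p ^ 2)
    {F : FusionSystem S} (hF : F.IsSaturated p) {E : Subgroup Ω} (hE : F.IsEssential p E)
    {n : ℕ} (hn : 4 ≤ n) (hcard : Nat.card E = p ^ n) {x y z : ↥E}
    (hgen3 : Subgroup.closure ({x, y, z} : Set ↥E) = ⊤) (hx : x ^ p = 1)
    (hz : z ^ p ^ (n - 2) = 1) (hxz : x⁻¹ * z * x = y * z) : False := by
  obtain ⟨hES, -, -, -, -⟩ := ess_facts hS hF hE
  haveI : Finite E := finite_of_le hES
  have hEp : IsPGroup p ↥E := hS.to_le hES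
  have hp1 := hp.out.one_lt
  have hy : y = x⁻¹ * z * x * z⁻¹ := by rw [hxz]; group
  have hgen : Subgroup.closure ({x, z} : Set ↥E) = ⊤ := by
    have h1 : x ∈ Subgroup.closure ({x, z} : Set ↥E) := Subgroup.subset_closure (by simp)
    have h2 : z ∈ Subgroup.closure ({x, z} : Set ↥E) := Subgroup.subset_closure (by simp)
    have h3 : y ∈ Subgroup.closure ({x, z} : Set ↥E) := by
      rw [hy]
      exact mul_mem (mul_mem (mul_mem (inv_mem h1) h2) h1) (inv_mem h2)
    rw [eq_top_iff, ← hgen3, Subgroup.closure_le]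
    intro c hc
    rcases hc with hc | hc | hc
    · rw [hc]; exact h1
    · rw [hc]; exact h3
    · rw [Set.mem_singleton_iff] at hc; rw [hc]; exact h2
  have hcx : Subgroup.zpowers x ≠ ⊤ := by
    intro htop
    have h1 : Nat.card (Subgroup.zpowers x) = p ^ n := by rw [htop, Subgroup.card_top, hcard]
    rw [Nat.card_zpowers] at h1
    have h2 : orderOf x ∣ p := orderOf_dvd_of_pow_eq_one hx
    have h3 := Nat.le_of_dvd hp.out.pos h2
    rw [h1] at h3
    have h4 : p ^ n ≤ p ^ 1 := by rw [pow_one]; exact h3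
    have h5 : n ≤ 1 := (Nat.pow_le_pow_iff_right hp1).1 h4
    omega
  have hcz : Subgroup.zpowers z ≠ ⊤ := by
    intro htop
    have h1 : Nat.card (Subgroup.zpowers z) = p ^ n := by rw [htop, Subgroup.card_top, hcard]
    rw [Nat.card_zpowers] at h1
    have h2 : orderOf z ∣ p ^ (n - 2) := orderOf_dvd_of_pow_eq_one hz
    have h3 := Nat.le_of_dvd (pow_pos hp.out.pos _) h2
    rw [h1] at h3
    have h4 : n ≤ n - 2 := (Nat.pow_le_pow_iff_right hp1).1 h3
    omega
  have hfr := rs_frat_eq hEp hgen hcx hcz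
  obtain ⟨hM, -⟩ := ess_frat hS hp5 hF hE hfr
  let M : Subgroup ↥E :=
    { carrier := {u | u ^ p = 1}
      mul_mem' := fun {a b} ha hb => by
        apply Subtype.ext
        have := om_mul hS hp5 hrank3 (hES a.2) (hES b.2)
          (by simpa using congrArg Subtype.val (show a ^ p = 1 from ha))
          (by simpa using congrArg Subtype.val (show b ^ p = 1 from hb))
        simpa using this
      one_mem' := one_pow _
      inv_mem' := fun {a} ha => by
        show a⁻¹ ^ p = 1
        rw [inv_pow, (show a ^ p = 1 from ha), inv_one] }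
  have hxΦ : x ∉ frattini ↥E := by
    intro haf
    apply hcz
    apply frattini_nongenerating
    apply top_unique
    rw [← hgen, Subgroup.closure_le]
    intro c hc
    rcases hc with hc | hc
    · rw [hc]; exact Subgroup.mem_sup_right haf
    · rw [Set.mem_singleton_iff] at hc; rw [hc]
      exact Subgroup.mem_sup_left (Subgroup.mem_zpowers _)
  have hMtop := hM M (fun α _ u hu => by
    show (α u) ^ p = 1
    rw [← map_pow, (show u ^ p = 1 from hu), map_one]) ⟨x, hx, hxΦ⟩
  have hexpE : ∀ d ∈ E, d ^ p = 1 := by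
    intro d hd
    have h1 : (⟨d, hd⟩ : ↥E) ∈ M := by rw [hMtop]; trivial
    simpa using congrArg Subtype.val (show (⟨d, hd⟩ : ↥E) ^ p = 1 from h1)
  have h3 := om_card hS hrank3 E hES hexpE
  rw [hcard] at h3
  have h4 : n ≤ 3 := (Nat.pow_le_pow_iff_right hp1).1 h3
  omega

end Frat

end Cfsg.Agent.H15
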