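import Mathlib
import Cfsg.Agent.H15.Res4

set_option autoImplicit false
set_option maxHeartbeats 800000

/-!
Groups of the second type of Blackburn's list (a central product of a cyclic group with an
extraspecial group of order `p³` and exponent `p`): structure, and automorphisms of an essential
subgroup of this type acting trivially modulo the centre.
-/

namespace Cfsg.Agent.H15

open Cfsg Cfsg.FusionSystem Cfsg.Agent.H86
open scoped commutatorElement

section TwoGen

theorem two_gen_facts {Q : Type*} [Group Q] {p : ℕ} [hp : Fact p.Prime] {a b : Q}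
    (hab : a * b = b * a) (ha : a ^ p = 1) (hb : b ^ p = 1)
    (hgen : Subgroup.closure ({a, b} : Set Q) = ⊤) :
    (∀ u v : Q, u * v = v * u) ∧ (∀ q : Q, ∃ i j : ℕ, q = a ^ i * b ^ j) ∧
      Nat.card Q ≤ p ^ 2 ∧ ∀ q : Q, q ^ p = 1 := by
  classical
  have hc : ∀ g ∈ ({a, b} : Set Q), g ∈ Subgroup.center Q := by
    intro g hg
    rw [Subgroup.mem_center_iff]
    intro h
    have hle : Subgroup.closure ({a, b} : Set Q) ≤ Subgroup.centralizer ({g} : Set Q) := by
      rw [Subgroup.closure_le]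
      intro c hc
      rw [SetLike.mem_coe, Subgroup.mem_centralizer_iff]
      intro d hd
      rw [Set.mem_singleton_iff] at hd
      subst hd
      rcases hg with hg | hg <;> rcases hc with hc | hc
      · rw [hg, hc]
      · rw [Set.mem_singleton_iff] at hc; rw [hg, hc]; exact hab
      · rw [Set.mem_singleton_iff] at hg; rw [hg, hc]; exact hab.symm
      · rw [Set.mem_singleton_iff] at hg hc; rw [hg, hc]
    have hh : h ∈ Subgroup.centralizer ({g} : Set Q) := hle (by rw [hgen]; trivial)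
    exact (Subgroup.mem_centralizer_iff.1 hh g rfl).symm
  have hcomm : ∀ u v : Q, u * v = v * u := by
    intro u v
    have hu : u ∈ Subgroup.center Q :=
      ((Subgroup.closure_le _).2 (fun g hg => hc g hg)) (by rw [hgen]; trivial)
    exact (Subgroup.mem_center_iff.1 hu v).symm
  letI : CommGroup Q := { (inferInstance : Group Q) with mul_comm := hcomm }
  have hp0 : (0 : ℤ) < p := by exact_mod_cast hp.out.pos
  have key : ∀ (c : Q), c ^ p = 1 → ∀ (m : ℤ), ∃ i : ℕ, i < p ∧ c ^ m = c ^ i := by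
    intro c hc m
    have h1 : c ^ m = c ^ (m % (p : ℤ)) := zpow_eq_zpow_emod' m hc
    have h2 : 0 ≤ m % (p : ℤ) := Int.emod_nonneg _ hp0.ne'
    have h3 : m % (p : ℤ) < p := Int.emod_lt_of_pos _ hp0
    refine ⟨(m % (p : ℤ)).toNat, by omega, ?_⟩
    rw [h1]
    conv_lhs => rw [← Int.toNat_of_nonneg h2]
    rw [zpow_natCast]
  have hform : ∀ q : Q, ∃ i j : ℕ, i < p ∧ j < p ∧ q = a ^ i * b ^ j := by
    intro q
    have hq : q ∈ Subgroup.closure ({a, b} : Set Q) := by rw [hgen]; trivial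
    obtain ⟨m, n, hmn⟩ := Subgroup.mem_closure_pair.1 hq
    obtain ⟨i, hi, hi'⟩ := key a ha m
    obtain ⟨j, hj, hj'⟩ := key b hb n
    exact ⟨i, j, hi, hj, by rw [← hi', ← hj', hmn]⟩
  refine ⟨hcomm, fun q => ?_, ?_, fun q => ?_⟩
  · obtain ⟨i, j, -, -, h⟩ := hform q
    exact ⟨i, j, h⟩
  · have hsurj : Function.Surjective (fun ij : Fin p × Fin p => a ^ (ij.1 : ℕ) * b ^ (ij.2 : ℕ)) := by
      intro q
      obtain ⟨i, j, hi, hj, h⟩ := hform q
      exact ⟨(⟨i, hi⟩, ⟨j, hj⟩), h.symm⟩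
    have h1 := Nat.card_le_card_of_surjective _ hsurj
    rw [Nat.card_prod, Nat.card_fin] at h1
    rw [pow_two]; exact h1
  · obtain ⟨i, j, -, -, h⟩ := hform q
    rw [h, mul_pow, ← pow_mul, ← pow_mul, mul_comm i, mul_comm j, pow_mul, pow_mul, ha, hb,
      one_pow, one_pow, one_mul]

end TwoGen

section CType

variable {T : Type*} [Group T] [Finite T] {p : ℕ} [hp : Fact p.Prime]

theorem ctype_struct {n : ℕ} (hn : 3 ≤ n) (hcard : Nat.card T = p ^ n) {x y z : T}
    (hgen3 : Subgroup.closure ({x, y, z} : Set T) = ⊤)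
    (hx : x ^ p = 1) (hy : y ^ p = 1) (hz : z ^ p ^ (n - 2) = 1) (hxz : x * z = z * x)
    (hyz : y * z = z * y) (hxy : x⁻¹ * y * x = y * z ^ p ^ (n - 3)) :
    Subgroup.center T = Subgroup.zpowers z ∧ Nat.card (T ⧸ Subgroup.center T) = p ^ 2 ∧
      (∀ u : T, u ^ p ∈ Subgroup.center T) ∧ x * y ≠ y * x ∧
      (∀ u : T, ∃ i j : ℕ, (x ^ i * y ^ j)⁻¹ * u ∈ Subgroup.center T) := by
  classical
  have hp1 := hp.out.one_lt
  have hzc : z ∈ Subgroup.center T := by
    rw [Subgroup.mem_center_iff]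
    intro h
    have hle : Subgroup.closure ({x, y, z} : Set T) ≤ Subgroup.centralizer ({z} : Set T) := by
      rw [Subgroup.closure_le]
      intro c hc
      rw [SetLike.mem_coe, Subgroup.mem_centralizer_iff]
      intro d hd
      rw [Set.mem_singleton_iff] at hd
      subst hd
      rcases hc with hc | hc | hc
      · rw [hc]; exact hxz.symm
      · rw [hc]; exact hyz.symm
      · rw [Set.mem_singleton_iff] at hc; rw [hc]
    have hh : h ∈ Subgroup.centralizer ({z} : Set T) := hle (by rw [hgen3]; trivial)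
    exact (Subgroup.mem_centralizer_iff.1 hh z rfl).symm
  have hW : Subgroup.zpowers z ≤ Subgroup.center T := by
    rw [Subgroup.zpowers_le]; exact hzc
  haveI hWn : (Subgroup.zpowers z).Normal := by
    constructor
    intro m hm g
    have h1 := Subgroup.mem_center_iff.1 (hW hm) g
    rw [h1, mul_inv_cancel_right]
    exact hm
  have hab : (QuotientGroup.mk x : T ⧸ Subgroup.zpowers z) * QuotientGroup.mk y =
      QuotientGroup.mk y * QuotientGroup.mk x := by
    have h1 : (QuotientGroup.mk (x⁻¹ * y * x) : T ⧸ Subgroup.zpowers z) = QuotientGroup.mk y := by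
      rw [hxy, QuotientGroup.mk_mul]
      have h2 : (QuotientGroup.mk (z ^ p ^ (n - 3)) : T ⧸ Subgroup.zpowers z) = 1 :=
        (QuotientGroup.eq_one_iff _).2 (Subgroup.pow_mem _ (Subgroup.mem_zpowers z) _)
      rw [h2, mul_one]
    rw [QuotientGroup.mk_mul, QuotientGroup.mk_mul, QuotientGroup.mk_inv] at h1
    calc (QuotientGroup.mk x : T ⧸ Subgroup.zpowers z) * QuotientGroup.mk y
        = QuotientGroup.mk x * ((QuotientGroup.mk x)⁻¹ * QuotientGroup.mk y * QuotientGroup.mk x) := by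
          rw [h1]
      _ = QuotientGroup.mk y * QuotientGroup.mk x := by group
  have hgenQ : Subgroup.closure ({(QuotientGroup.mk x : T ⧸ Subgroup.zpowers z),
      QuotientGroup.mk y} : Set (T ⧸ Subgroup.zpowers z)) = ⊤ := by
    rw [eq_top_iff]
    have h1 : (Subgroup.closure ({x, y, z} : Set T)).map (QuotientGroup.mk' (Subgroup.zpowers z)) = ⊤ := by
      rw [hgen3]
      exact Subgroup.map_top_of_surjective _ (QuotientGroup.mk'_surjective _)
    rw [← h1, MonoidHom.map_closure, Subgroup.closure_le]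
    rintro _ ⟨c, hc, rfl⟩
    rcases hc with hc | hc | hc
    · rw [hc]; exact Subgroup.subset_closure (by simp)
    · rw [hc]; exact Subgroup.subset_closure (by simp)
    · rw [Set.mem_singleton_iff] at hc; rw [hc]
      have h2 : (QuotientGroup.mk' (Subgroup.zpowers z)) z = 1 :=
        (QuotientGroup.eq_one_iff _).2 (Subgroup.mem_zpowers z)
      rw [h2]; exact Subgroup.one_mem _
  have hxQ : (QuotientGroup.mk x : T ⧸ Subgroup.zpowers z) ^ p = 1 := by
    rw [← QuotientGroup.mk_pow, hx]; rfl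
  have hyQ : (QuotientGroup.mk y : T ⧸ Subgroup.zpowers z) ^ p = 1 := by
    rw [← QuotientGroup.mk_pow, hy]; rfl
  obtain ⟨hQcomm, hQgen, hQcard, hQexp⟩ := two_gen_facts hab hxQ hyQ hgenQ
  -- cardinalities
  have hmul := Subgroup.card_eq_card_quotient_mul_card_subgroup (Subgroup.zpowers z)
  rw [hcard, Nat.card_zpowers] at hmul
  have hoz : orderOf z ∣ p ^ (n - 2) := orderOf_dvd_of_pow_eq_one hz
  obtain ⟨k, hk, hkk⟩ := (Nat.dvd_prime_pow hp.out).1 hoz
  rw [hkk] at hmul
  have hQc : Nat.card (T ⧸ Subgroup.zpowers z) = p ^ (n - k) := by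
    have h1 : p ^ (n - k) * p ^ k = Nat.card (T ⧸ Subgroup.zpowers z) * p ^ k := by
      rw [← hmul, ← pow_add]; congr 1; omega
    exact (Nat.eq_of_mul_eq_mul_right (pow_pos hp.out.pos k) h1).symm
  have hk2 : k = n - 2 := by
    rw [hQc] at hQcard
    have := (Nat.pow_le_pow_iff_right hp1).1 hQcard
    omega
  subst hk2
  have hQc2 : Nat.card (T ⧸ Subgroup.zpowers z) = p ^ 2 := by
    rw [hQc]; congr 1; omega
  have hc0 : z ^ p ^ (n - 3) ≠ 1 := by
    apply pow_ne_one_of_lt_orderOf (pow_pos hp.out.pos _).ne'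
    rw [hkk]
    exact Nat.pow_lt_pow_right hp1 (by omega)
  have hxy' : x * y ≠ y * x := by
    intro h
    apply hc0
    have h1 : x⁻¹ * y * x = y := by rw [mul_assoc, ← h]; group
    rw [h1] at hxy
    have h2 : y * z ^ p ^ (n - 3) = y * 1 := by rw [mul_one]; exact hxy.symm
    exact mul_left_cancel h2
  -- the centre
  have hWidx : (Subgroup.zpowers z).index = p ^ 2 := by
    rw [Subgroup.index_eq_card]; exact hQc2
  have hidx : (Subgroup.center T).index ∣ p ^ 2 := by
    rw [← hWidx]; exact Subgroup.index_dvd_of_le hW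
  obtain ⟨j, hj, hjj⟩ := (Nat.dvd_prime_pow hp.out).1 hidx
  have hj2 : j = 2 := by
    by_contra hne
    have hj1 : j = 0 ∨ j = 1 := by omega
    apply hxy'
    rcases hj1 with rfl | rfl
    · rw [pow_zero] at hjj
      have h1 : Subgroup.center T = ⊤ := Subgroup.index_eq_one.1 hjj
      have h2 : y ∈ Subgroup.center T := by rw [h1]; trivial
      exact Subgroup.mem_center_iff.1 h2 x
    · rw [pow_one, Subgroup.index_eq_card] at hjj
      haveI := isCyclic_of_prime_card hjj
      have h1 := MonoidHom.isMulCommutative_of_isCyclic_of_ker_le_center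
        (QuotientGroup.mk' (Subgroup.center T)) (by rw [QuotientGroup.ker_mk'])
      exact h1.is_comm.comm x y
  subst hj2
  have hceq : Subgroup.zpowers z = Subgroup.center T := by
    apply Subgroup.eq_of_le_of_card_ge hW
    have h1 := Subgroup.card_mul_index (Subgroup.center T)
    have h2 := Subgroup.card_mul_index (Subgroup.zpowers z)
    rw [hjj] at h1
    rw [hWidx, ← h1] at h2
    exact le_of_eq (Nat.eq_of_mul_eq_mul_right (pow_pos hp.out.pos 2) h2).symm
  refine ⟨hceq.symm, ?_, ?_, hxy', ?_⟩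
  · rw [← Subgroup.index_eq_card]; exact hjj
  · intro u
    rw [← hceq]
    have := hQexp (QuotientGroup.mk u)
    rw [← QuotientGroup.mk_pow] at this
    exact (QuotientGroup.eq_one_iff _).1 this
  · intro u
    obtain ⟨i, j, hij⟩ := hQgen (QuotientGroup.mk u)
    refine ⟨i, j, ?_⟩
    rw [← hceq]
    apply QuotientGroup.eq.1
    rw [QuotientGroup.mk_mul, QuotientGroup.mk_pow, QuotientGroup.mk_pow]
    exact hij.symm

end CType

section Helpers

variable {G : Type*} [Group G]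

theorem comm_central {u v a b : G} (ha : ∀ g : G, g * a = a * g) (hb : ∀ g : G, g * b = b * g) :
    ⁅u * a, v * b⁆ = ⁅u, v⁆ := by
  have e1 : a * v = v * a := (ha v).symm
  have e2 : b * a⁻¹ = a⁻¹ * b := (hb a⁻¹).symm
  have e3 : b * u⁻¹ = u⁻¹ * b := (hb u⁻¹).symm
  calc ⁅u * a, v * b⁆ = u * (a * v) * (b * a⁻¹) * u⁻¹ * b⁻¹ * v⁻¹ := by
        rw [commutatorElement_def]; group
    _ = u * (v * a) * (a⁻¹ * b) * u⁻¹ * b⁻¹ * v⁻¹ := by rw [e1, e2]
    _ = u * v * (b * u⁻¹) * b⁻¹ * v⁻¹ := by group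
    _ = u * v * (u⁻¹ * b) * b⁻¹ * v⁻¹ := by rw [e3]
    _ = ⁅u, v⁆ := by rw [commutatorElement_def]; group

theorem quot_comm_of_comm_mem (Z : Subgroup G) [Z.Normal] (h : ∀ u v : G, ⁅u, v⁆ ∈ Z)
    (a b : G ⧸ Z) : a * b = b * a := by
  obtain ⟨u, rfl⟩ := QuotientGroup.mk_surjective a
  obtain ⟨v, rfl⟩ := QuotientGroup.mk_surjective b
  rw [← QuotientGroup.mk_mul, ← QuotientGroup.mk_mul]
  apply QuotientGroup.eq.2
  have e : (u * v)⁻¹ * (v * u) = ⁅v⁻¹, u⁻¹⁆ := by
    rw [commutatorElement_def]; group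
  rw [e]; exact h _ _

theorem aut_pow_fix {c : MulAut G} {v : G} (hv : c v = v) (n : ℕ) : (c ^ n) v = v := by
  induction n with
  | zero => simp
  | succ n ih => rw [pow_succ, MulAut.mul_apply, hv, ih]

/-- In a finite cyclic group, the elements of order dividing `p` are the powers of any
nontrivial one of them. -/
theorem cyc_om {α : Type*} [Group α] [Finite α] [IsCyclic α] {p : ℕ} [hp : Fact p.Prime]
    {c z₁ : α} (hc1 : c ≠ 1) (hcp : c ^ p = 1) (hz₁ : z₁ ^ p = 1) :
    z₁ ∈ Subgroup.zpowers c := by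
  letI : CommGroup α := IsCyclic.commGroup
  let K : Subgroup α := (powMonoidHom p : α →* α).ker
  have hcK : c ∈ K := MonoidHom.mem_ker.2 hcp
  have hzK : z₁ ∈ K := MonoidHom.mem_ker.2 hz₁
  obtain ⟨g, hg⟩ := (inferInstance : IsCyclic ↥K).exists_generator
  have hgp : g ^ p = 1 := Subtype.ext (MonoidHom.mem_ker.1 g.2)
  have hcard : Nat.card K = orderOf g := (orderOf_eq_card_of_forall_mem_zpowers hg).symm
  have hle : Nat.card K ≤ p := by
    rw [hcard]
    exact Nat.le_of_dvd hp.out.pos (orderOf_dvd_of_pow_eq_one hgp)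
  have heq : Subgroup.zpowers c = K := by
    apply Subgroup.eq_of_le_of_card_ge (by rw [Subgroup.zpowers_le]; exact hcK)
    rw [Nat.card_zpowers, orderOf_eq_prime hcp hc1]
    exact hle
  rw [heq]; exact hzK

end Helpers

section BetaCenter

variable {Ω : Type*} [Group Ω] {S : Subgroup Ω}

/-- For an essential subgroup with cyclic centre and abelian central quotient, the
`F`-automorphisms acting trivially modulo the centre are inner. -/
theorem beta_center [Finite S] {p : ℕ} [hp : Fact p.Prime] (hS : IsPGroup p S)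
    {F : FusionSystem S} {E : Subgroup Ω} (hE : F.IsEssential p E) {z : ↥E}
    (hZ : Subgroup.center ↥E = Subgroup.zpowers z)
    (hcc : ∀ u v : ↥E, ⁅u, v⁆ ∈ Subgroup.center ↥E)
    {u₀ v₀ : ↥E} (hna : u₀ * v₀ ≠ v₀ * u₀) :
    ∀ α ∈ F.autGroup E, (∀ u : ↥E, u⁻¹ * α u ∈ Subgroup.center ↥E) → α ∈ Inn ↥E := by
  intro α hαA hα
  have hES : E ≤ S := hE.1.1
  haveI : Finite E := finite_of_le hES
  have hEp : IsPGroup p ↥E := hS.to_le hES
  obtain ⟨m, hm⟩ := IsPGroup.iff_card.1 hEp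
  have hpm : ∀ u : ↥E, u ^ p ^ m = 1 := fun u => by rw [← hm]; exact pow_card_eq_one'
  let Ci : ℕ → Subgroup ↥E := fun i =>
    { carrier := {u | u ∈ Subgroup.center ↥E ∧ u ^ p ^ i = 1}
      mul_mem' := fun {a b} ha hb => ⟨Subgroup.mul_mem _ ha.1 hb.1, by
        have hc : Commute a b := Subgroup.mem_center_iff.1 hb.1 a
        rw [hc.mul_pow, ha.2, hb.2, one_mul]⟩
      one_mem' := ⟨Subgroup.one_mem _, one_pow _⟩
      inv_mem' := fun {a} ha => ⟨Subgroup.inv_mem _ ha.1, by rw [inv_pow, ha.2, inv_one]⟩ }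
  let C : ℕ → Subgroup ↥E := fun i => if i ≤ m then Ci i else ⊤
  have hC0 : C 0 = ⊥ := by
    show (if 0 ≤ m then Ci 0 else ⊤) = ⊥
    rw [if_pos (Nat.zero_le m), eq_bot_iff]
    rintro u ⟨-, hu⟩
    rw [pow_zero, pow_one] at hu
    rw [hu]; exact Subgroup.one_mem _
  have hCm : C (m + 1) = ⊤ := by
    show (if m + 1 ≤ m then Ci (m + 1) else ⊤) = ⊤
    rw [if_neg (by omega)]
  have hchar : ∀ (a : MulAut ↥E) (y : ↥E), y ∈ Subgroup.center ↥E → a y ∈ Subgroup.center ↥E :=
    fun a y hy => Subgroup.characteristic_iff_le_comap.mp Subgroup.centerCharacteristic a hy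
  have hαz : α z ∈ Subgroup.zpowers z := by
    rw [← hZ]
    exact hchar α z (by rw [hZ]; exact Subgroup.mem_zpowers z)
  obtain ⟨r, hr⟩ := (Submonoid.mem_powers_iff _ _).1 (mem_powers_iff_mem_zpowers.2 hαz)
  have hαpow : ∀ y ∈ Subgroup.center ↥E, α y = y ^ r := by
    intro y hy
    rw [hZ] at hy
    obtain ⟨s, rfl⟩ := Subgroup.mem_zpowers_iff.1 hy
    rw [map_zpow, ← hr, ← zpow_natCast, ← zpow_natCast, ← zpow_mul, ← zpow_mul, mul_comm]
  have hfix : α ⁅u₀, v₀⁆ = ⁅u₀, v₀⁆ := by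
    obtain ⟨a, ha, hac⟩ : ∃ a, α u₀ = u₀ * a ∧ ∀ g : ↥E, g * a = a * g :=
      ⟨u₀⁻¹ * α u₀, by group, Subgroup.mem_center_iff.1 (hα u₀)⟩
    obtain ⟨b, hb, hbc⟩ : ∃ b, α v₀ = v₀ * b ∧ ∀ g : ↥E, g * b = b * g :=
      ⟨v₀⁻¹ * α v₀, by group, Subgroup.mem_center_iff.1 (hα v₀)⟩
    rw [map_commutatorElement, ha, hb, comm_central hac hbc]
  have hc1 : ⁅u₀, v₀⁆ ≠ 1 := by
    intro h
    exact hna (commutatorElement_eq_one_iff_mul_comm.1 h)
  have hcZ : ⁅u₀, v₀⁆ ∈ Subgroup.center ↥E := hcc u₀ v₀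
  have hr1 : r ≡ 1 [MOD p] := by
    have h1 : ⁅u₀, v₀⁆ ^ r = ⁅u₀, v₀⁆ ^ 1 := by
      rw [pow_one, ← hαpow _ hcZ, hfix]
    have h2 := (pow_eq_pow_iff_modEq).1 h1
    have h3 : orderOf ⁅u₀, v₀⁆ ∣ p ^ m := orderOf_dvd_of_pow_eq_one (hpm _)
    obtain ⟨b, -, hb⟩ := (Nat.dvd_prime_pow hp.out).1 h3
    have hb0 : b ≠ 0 := by
      rintro rfl
      rw [pow_zero, orderOf_eq_one_iff] at hb
      exact hc1 hb
    have h4 : p ∣ orderOf ⁅u₀, v₀⁆ := by
      rw [hb]; exact dvd_pow_self p hb0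
    exact h2.of_dvd h4
  have hr0 : 1 ≤ r := by
    by_contra h0
    have : r = 0 := by omega
    rw [this] at hr1
    have h5 := (Nat.modEq_zero_iff_dvd).1 hr1.symm
    exact hp.out.one_lt.ne' (Nat.dvd_one.1 h5)
  obtain ⟨q, hq⟩ : p ∣ r - 1 := (Nat.modEq_iff_dvd' hr0).1 hr1.symm
  have hrq : r = p * q + 1 := by omega
  have hinv : ∀ a ∈ F.autGroup E, ∀ i, ∀ y ∈ C i, a y ∈ C i := by
    intro a _ i y hy
    by_cases hi : i ≤ m
    · have hy' : y ∈ Ci i := by
        have : C i = Ci i := if_pos hi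
        rw [this] at hy; exact hy
      have : C i = Ci i := if_pos hi
      rw [this]
      exact ⟨hchar a y hy'.1, by rw [← map_pow, hy'.2, map_one]⟩
    · have : C i = ⊤ := if_neg hi
      rw [this]; trivial
  have hstab : ∀ i < m + 1, ∀ y ∈ C (i + 1), y⁻¹ * α y ∈ C i := by
    intro i hi y hy
    by_cases hi' : i + 1 ≤ m
    · have hi'' : i ≤ m := by omega
      have e1 : C (i + 1) = Ci (i + 1) := if_pos hi'
      have e2 : C i = Ci i := if_pos hi''
      rw [e1] at hy
      rw [e2]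
      have e : y⁻¹ * α y = (y ^ p) ^ q := by
        rw [hαpow y hy.1, hrq, pow_succ', inv_mul_cancel_left, pow_mul]
      refine ⟨?_, ?_⟩
      · rw [e]; exact Subgroup.pow_mem _ (Subgroup.pow_mem _ hy.1 _) _
      · rw [e, ← pow_mul, ← pow_mul]
        have h6 : p * (q * p ^ i) = p ^ (i + 1) * q := by ring
        rw [h6, pow_mul, hy.2, one_pow]
    · have hi'' : i = m := by omega
      subst hi''
      have e2 : C i = Ci i := if_pos le_rfl
      rw [e2]
      exact ⟨hα y, hpm _⟩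
  exact essential_stab_mem_inn hS hE (m + 1) C hC0 hCm hinv hαA hstab

end BetaCenter

end Cfsg.Agent.H15
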