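import Mathlib
import Cfsg.Agent.H15.Res5

set_option autoImplicit false
set_option maxHeartbeats 1600000

/-!
An essential subgroup of rank two (`p ≥ 5`) is not of the second type of Blackburn's list.
-/

namespace Cfsg.Agent.H15

open Cfsg Cfsg.FusionSystem Cfsg.Agent.H86
open scoped commutatorElement

section CCore

variable {Ω : Type*} [Group Ω] {S : Subgroup Ω}

theorem mor_map_pow {F : FusionSystem S} {P : Subgroup Ω} {f : Ω → Ω} (h : Mor F P f) {x : Ω}
    (hx : x ∈ P) (k : ℕ) : f (x ^ k) = f x ^ k := by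
  induction k with
  | zero => simpa using h.map_one
  | succ k ih => rw [pow_succ, h.map_mul (P.pow_mem hx k) hx, ih, pow_succ]

theorem ccore [Finite S] {p : ℕ} [hp : Fact p.Prime] (hS : IsPGroup p S) (hp5 : 5 ≤ p)
    (hrank3 : ∀ E : Subgroup Ω, E ≤ S → IsElementaryAbelian p E → Nat.card E ≤ p ^ 2)
    {F : FusionSystem S} (hF : F.IsSaturated p) {E : Subgroup Ω} (hE : F.IsEssential p E)
    {z : ↥E} (hZ : Subgroup.center ↥E = Subgroup.zpowers z)
    (hcc : ∀ u v : ↥E, ⁅u, v⁆ ∈ Subgroup.center ↥E)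
    (hΩ : ∀ s ∈ S, s ^ p = 1 → s ∈ E)
    {x y : ↥E} (hx : x ^ p = 1) (hy : y ^ p = 1) (hxy : x * y ≠ y * x)
    (hgen : ∀ u : ↥E, ∃ i j : ℕ, (x ^ i * y ^ j)⁻¹ * u ∈ Subgroup.center ↥E)
    (huniq : ∀ i j : ℕ, x ^ i * y ^ j ∈ Subgroup.center ↥E → p ∣ i ∧ p ∣ j)
    {t : Ω} (htS : t ∈ S) (htn : t ∈ Subgroup.normalizer (E : Set Ω)) (htE : t ∉ E)
    (htp : t ^ p ∈ E)
    {τ : MulAut ↥E} (hτ : ∀ u : ↥E, ((τ u : ↥E) : Ω) = t * u * t⁻¹)
    (hτx : τ x = x) (hτy : (y * x)⁻¹ * τ y ∈ Subgroup.center ↥E)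
    (hτZ : ∀ u ∈ Subgroup.center ↥E, τ u = u)
    {η : MulAut ↥E} (hηA : η ∈ F.autGroup E) {a a' k : ℕ}
    (hηx : (x ^ a)⁻¹ * η x ∈ Subgroup.center ↥E) (hηy : (y ^ a')⁻¹ * η y ∈ Subgroup.center ↥E)
    (haa' : a * a' ≡ 1 [MOD p]) (hk : ¬ k ≡ 1 [MOD p])
    (hψ : η * τ * η⁻¹ * (τ ^ k)⁻¹ ∈ Inn ↥E) : False := by
  obtain ⟨hES, hcen, hrec, hrad, hlt⟩ := ess_facts hS hF hE
  haveI : Finite E := finite_of_le hES
  have hEp : IsPGroup p ↥E := hS.to_le hES
  have hp1 := hp.out.one_lt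
  have hcen' : ∀ {w : ↥E}, w ∈ Subgroup.center ↥E → ∀ g : ↥E, g * w = w * g :=
    fun hw => Subgroup.mem_center_iff.1 hw
  have hVc := quot_comm_of_comm_mem (Subgroup.center ↥E) hcc
  have hpa : ¬ p ∣ a := by
    intro h
    have h1 : a * a' ≡ 0 [MOD p] := (Nat.modEq_zero_iff_dvd).2 (dvd_mul_of_dvd_left h a')
    have h2 := h1.symm.trans haa'
    exact hp1.ne' (Nat.dvd_one.1 ((Nat.modEq_zero_iff_dvd).1 h2.symm))
  have hc2 : ∀ u v g : ↥E, g * ⁅u, v⁆ = ⁅u, v⁆ * g := fun u v g => hcen' (hcc u v) g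
  obtain ⟨e₀, he₀⟩ : ∃ e₀ : ↥E, (e₀ : Ω) = t ^ p := ⟨⟨t ^ p, htp⟩, rfl⟩
  have hτe₀ : τ e₀ = e₀ := by
    apply Subtype.ext
    rw [hτ, he₀]; group
  have htx : Commute t (x : Ω) := by
    have h1 := congrArg Subtype.val hτx
    rw [hτ] at h1
    show t * (x : Ω) = x * t
    calc t * (x : Ω) = t * x * t⁻¹ * t := by group
      _ = x * t := by rw [h1]
  have htZ : ∀ w ∈ Subgroup.center ↥E, Commute t (w : Ω) := by
    intro w hw
    have h1 := congrArg Subtype.val (hτZ w hw)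
    rw [hτ] at h1
    show t * (w : Ω) = w * t
    calc t * (w : Ω) = t * w * t⁻¹ * t := by group
      _ = w * t := by rw [h1]
  obtain ⟨z₂, hz₂, hτy'⟩ : ∃ z₂ ∈ Subgroup.center ↥E, τ y = y * x * z₂ :=
    ⟨(y * x)⁻¹ * τ y, hτy, by group⟩
  have hz₂p : z₂ ^ p = 1 := by
    have h1 : (y * x) ^ p = 1 := by
      apply Subtype.ext
      have := om_mul hS hp5 hrank3 (hES y.2) (hES x.2)
        (by simpa using congrArg Subtype.val hy) (by simpa using congrArg Subtype.val hx)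
      simpa using this
    have h2 : (τ y) ^ p = 1 := by rw [← map_pow, hy, map_one]
    have hc : Commute (y * x) z₂ := hcen' hz₂ (y * x)
    rw [hτy', hc.mul_pow, h1, one_mul] at h2
    exact h2
  have he₀Z : e₀ ∈ Subgroup.center ↥E := by
    obtain ⟨i, j, hij⟩ := hgen e₀
    have hmk : (QuotientGroup.mk e₀ : ↥E ⧸ Subgroup.center ↥E) =
        QuotientGroup.mk x ^ i * QuotientGroup.mk y ^ j := by
      rw [← QuotientGroup.mk_pow, ← QuotientGroup.mk_pow, ← QuotientGroup.mk_mul]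
      exact (QuotientGroup.eq.2 hij).symm
    have hq : qAut (Subgroup.center ↥E) τ (QuotientGroup.mk e₀) = QuotientGroup.mk e₀ := by
      rw [qAut_mk, hτe₀]
    have hqx : qAut (Subgroup.center ↥E) τ (QuotientGroup.mk x) = QuotientGroup.mk x := by
      rw [qAut_mk, hτx]
    have hqy : qAut (Subgroup.center ↥E) τ (QuotientGroup.mk y) =
        QuotientGroup.mk y * QuotientGroup.mk x := by
      rw [qAut_mk, ← QuotientGroup.mk_mul]
      exact (QuotientGroup.eq.2 hτy).symm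
    rw [hmk, map_mul, map_pow, map_pow, hqx, hqy,
      (show Commute (QuotientGroup.mk y : ↥E ⧸ Subgroup.center ↥E) (QuotientGroup.mk x) from
        hVc _ _).mul_pow] at hq
    have hxj : (QuotientGroup.mk x : ↥E ⧸ Subgroup.center ↥E) ^ j = 1 := by
      have h1 := mul_left_cancel hq
      exact mul_left_cancel (a := (QuotientGroup.mk y : ↥E ⧸ Subgroup.center ↥E) ^ j)
        (by rw [h1, mul_one])
    have hxjZ : x ^ j * y ^ 0 ∈ Subgroup.center ↥E := by
      rw [pow_zero, mul_one]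
      rw [← QuotientGroup.mk_pow] at hxj
      exact (QuotientGroup.eq_one_iff _).1 hxj
    have hpj : p ∣ j := (huniq j 0 hxjZ).1
    have hyj : y ^ j = 1 := by
      obtain ⟨c, rfl⟩ := hpj
      rw [pow_mul, hy, one_pow]
    rw [hyj, mul_one] at hij
    obtain ⟨w, hw, he₀w⟩ : ∃ w ∈ Subgroup.center ↥E, e₀ = x ^ i * w :=
      ⟨(x ^ i)⁻¹ * e₀, hij, by group⟩
    have hye₀ : y * e₀ = e₀ * y := by
      apply Subtype.ext
      show (y : Ω) * e₀ = e₀ * y
      rw [he₀]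
      have h1 : (y : Ω)⁻¹ * t * y = x * z₂ * t := by
        have h2 := congrArg Subtype.val hτy'
        rw [hτ] at h2
        have h3 : t * (y : Ω) = (y : Ω) * x * z₂ * t := by
          calc t * (y : Ω) = t * y * t⁻¹ * t := by group
            _ = (y : Ω) * x * z₂ * t := by rw [h2]; rfl
        calc (y : Ω)⁻¹ * t * y = (y : Ω)⁻¹ * (t * y) := by group
          _ = (y : Ω)⁻¹ * ((y : Ω) * x * z₂ * t) := by rw [h3]
          _ = x * z₂ * t := by group
      have hcxz : Commute (x : Ω) (z₂ : Ω) := congrArg Subtype.val (hcen' hz₂ x)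
      have hc3 : Commute ((x : Ω) * z₂) t := (htx.symm).mul_left (htZ z₂ hz₂).symm
      have h4 : ((x : Ω) * z₂ * t) ^ p = t ^ p := by
        rw [hc3.mul_pow, hcxz.mul_pow]
        have e1 : (x : Ω) ^ p = 1 := by simpa using congrArg Subtype.val hx
        have e2 : (z₂ : Ω) ^ p = 1 := by simpa using congrArg Subtype.val hz₂p
        rw [e1, e2, one_mul, one_mul]
      have h5 : (y : Ω)⁻¹ * t ^ p * y = t ^ p := by
        have h6 : ((y : Ω)⁻¹ * t * y) ^ p = (y : Ω)⁻¹ * t ^ p * y := by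
          have h7 := conj_pow (a := (y : Ω)⁻¹) (b := t) (i := p)
          rw [inv_inv] at h7
          exact h7
        rw [← h6, h1, h4]
      calc (y : Ω) * t ^ p = y * ((y : Ω)⁻¹ * t ^ p * y) := by rw [h5]
        _ = t ^ p * y := by group
    have hyxi : y * x ^ i = x ^ i * y := by
      rw [he₀w] at hye₀
      have h1 := hcen' hw y
      have h2 : y * x ^ i * w = x ^ i * y * w := by
        calc y * x ^ i * w = y * (x ^ i * w) := by group
          _ = x ^ i * w * y := hye₀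
          _ = x ^ i * (w * y) := by group
          _ = x ^ i * (y * w) := by rw [h1]
          _ = x ^ i * y * w := by group
      exact mul_right_cancel h2
    have hpi : p ∣ i := by
      by_contra hpi
      apply hxy
      have h1 : x ∈ Subgroup.centralizer ({y} : Set ↥E) := by
        apply pow_gen _ hx hpi
        rw [Subgroup.mem_centralizer_iff]
        intro d hd
        rw [Set.mem_singleton_iff] at hd
        rw [hd]; exact hyxi
      exact (Subgroup.mem_centralizer_iff.1 h1 y rfl).symm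
    have hxi : x ^ i = 1 := by
      obtain ⟨c, rfl⟩ := hpi
      rw [pow_mul, hx, one_pow]
    rw [he₀w, hxi, one_mul]
    exact hw
  have hnotpow : ∀ u₁ ∈ Subgroup.center ↥E, e₀ ≠ u₁ ^ p := by
    intro u₁ hu₁ heq
    apply htE
    have hc : Commute t ((u₁ : Ω)⁻¹) := (htZ u₁ hu₁).inv_right
    have h1 : (t * (u₁ : Ω)⁻¹) ^ p = 1 := by
      rw [hc.mul_pow, inv_pow, ← he₀, heq]
      simp
    have h2 := hΩ _ (S.mul_mem htS (S.inv_mem (hES u₁.2))) h1
    have h3 : t = t * (u₁ : Ω)⁻¹ * u₁ := by group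
    rw [h3]
    exact E.mul_mem h2 u₁.2
  obtain ⟨R, f, hf, hER, htR, hfη, e, heE, hft⟩ :=
    fus_ext hES hrec hcen hηA htS htn hτ k hψ
  have hfx : f (x : Ω) = ((η x : ↥E) : Ω) := hfη x
  have hcomm1 : f t * f x = f x * f t := by
    rw [← hf.map_mul htR (hER x.2), ← hf.map_mul (hER x.2) htR, htx.eq]
  obtain ⟨z₃, hz₃, hηx'⟩ : ∃ z₃ ∈ Subgroup.center ↥E, η x = x ^ a * z₃ :=
    ⟨(x ^ a)⁻¹ * η x, hηx, by group⟩
  obtain ⟨e', he'⟩ : ∃ e' : ↥E, (e' : Ω) = e := ⟨⟨e, heE⟩, rfl⟩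
  have htk : Commute (t ^ k) ((η x : ↥E) : Ω) := by
    rw [hηx']
    simp only [Subgroup.coe_mul, Subgroup.coe_pow]
    exact ((htx.pow_right a).mul_right (htZ z₃ hz₃)).pow_left k
  have he'ηx : e' * η x = η x * e' := by
    apply Subtype.ext
    show (e' : Ω) * (η x : ↥E) = (η x : ↥E) * e'
    rw [he']
    rw [hft, hfx] at hcomm1
    have h1 : e * ((η x : ↥E) : Ω) * t ^ k = ((η x : ↥E) : Ω) * e * t ^ k := by
      calc e * ((η x : ↥E) : Ω) * t ^ k = e * (((η x : ↥E) : Ω) * t ^ k) := by group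
        _ = e * (t ^ k * ((η x : ↥E) : Ω)) := by rw [htk.eq]
        _ = e * t ^ k * ((η x : ↥E) : Ω) := by group
        _ = ((η x : ↥E) : Ω) * (e * t ^ k) := hcomm1
        _ = ((η x : ↥E) : Ω) * e * t ^ k := by group
    exact mul_right_cancel h1
  have he'xa : e' * x ^ a = x ^ a * e' := by
    rw [hηx'] at he'ηx
    have h1 := hcen' hz₃ e'
    have h2 : e' * x ^ a * z₃ = x ^ a * e' * z₃ := by
      calc e' * x ^ a * z₃ = e' * (x ^ a * z₃) := by group
        _ = x ^ a * z₃ * e' := he'ηx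
        _ = x ^ a * (z₃ * e') := by group
        _ = x ^ a * (e' * z₃) := by rw [h1]
        _ = x ^ a * e' * z₃ := by group
    exact mul_right_cancel h2
  have he'x : e' * x = x * e' := by
    have h1 : x ∈ Subgroup.centralizer ({e'} : Set ↥E) := by
      apply pow_gen _ hx hpa
      rw [Subgroup.mem_centralizer_iff]
      intro d hd
      rw [Set.mem_singleton_iff] at hd
      rw [hd]; exact he'xa
    exact Subgroup.mem_centralizer_iff.1 h1 e' rfl
  obtain ⟨i', j', hij'⟩ := hgen e'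
  obtain ⟨w', hw', he'w⟩ : ∃ w' ∈ Subgroup.center ↥E, e' = x ^ i' * y ^ j' * w' :=
    ⟨(x ^ i' * y ^ j')⁻¹ * e', hij', by group⟩
  have hyj'x : y ^ j' * x = x * y ^ j' := by
    rw [he'w] at he'x
    have h1 := hcen' hw' x
    have h2 : x ^ i' * (y ^ j' * x) * w' = x ^ i' * (x * y ^ j') * w' := by
      calc x ^ i' * (y ^ j' * x) * w' = x ^ i' * y ^ j' * (x * w') := by group
        _ = x ^ i' * y ^ j' * (w' * x) := by rw [h1]
        _ = x ^ i' * y ^ j' * w' * x := by group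
        _ = x * (x ^ i' * y ^ j' * w') := he'x
        _ = x ^ i' * (x * y ^ j') * w' := by group
    exact mul_left_cancel (mul_right_cancel h2)
  have hpj' : p ∣ j' := by
    by_contra hpj
    apply hxy
    have h1 : y ∈ Subgroup.centralizer ({x} : Set ↥E) := by
      apply pow_gen _ hy hpj
      rw [Subgroup.mem_centralizer_iff]
      intro d hd
      rw [Set.mem_singleton_iff] at hd
      rw [hd]; exact hyj'x.symm
    exact Subgroup.mem_centralizer_iff.1 h1 x rfl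
  have hyj' : y ^ j' = 1 := by
    obtain ⟨c, rfl⟩ := hpj'
    rw [pow_mul, hy, one_pow]
  rw [hyj', mul_one] at he'w
  have het : Commute e t := by
    rw [← he', he'w]
    simp only [Subgroup.coe_mul, Subgroup.coe_pow]
    exact ((htx.symm).pow_left i').mul_left (htZ w' hw').symm
  have hfp : (f t) ^ p = (w' : Ω) ^ p * (t ^ p) ^ k := by
    rw [hft, (het.pow_right k).mul_pow, ← he', he'w]
    have hc : Commute (x ^ i') w' := hcen' hw' (x ^ i')
    have h1 : (x ^ i' * w') ^ p = w' ^ p := by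
      rw [hc.mul_pow, ← pow_mul, mul_comm, pow_mul, hx, one_pow, one_mul]
    rw [← Subgroup.coe_pow, h1, Subgroup.coe_pow, ← pow_mul, ← pow_mul, mul_comm k p]
  have hfe₀ : f (t ^ p) = ((η e₀ : ↥E) : Ω) := by rw [← he₀]; exact hfη e₀
  have hfpow : f (t ^ p) = (f t) ^ p := mor_map_pow hf htR p
  have hchar : ∀ (a : MulAut ↥E) (v : ↥E), v ∈ Subgroup.center ↥E → a v ∈ Subgroup.center ↥E :=
    fun a v hv => Subgroup.characteristic_iff_le_comap.mp Subgroup.centerCharacteristic a hv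
  have hηz : η z ∈ Subgroup.zpowers z := by
    rw [← hZ]; exact hchar η z (by rw [hZ]; exact Subgroup.mem_zpowers z)
  obtain ⟨r', hr'⟩ := (Submonoid.mem_powers_iff _ _).1 (mem_powers_iff_mem_zpowers.2 hηz)
  have hηpow : ∀ v ∈ Subgroup.center ↥E, η v = v ^ r' := by
    intro v hv
    rw [hZ] at hv
    obtain ⟨s, rfl⟩ := Subgroup.mem_zpowers_iff.1 hv
    rw [map_zpow, ← hr', ← zpow_natCast, ← zpow_natCast, ← zpow_mul, ← zpow_mul, mul_comm]
  have hcne : ⁅y, x⁆ ≠ 1 := fun h => hxy (commutatorElement_eq_one_iff_mul_comm.1 h).symm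
  have hcp : ⁅y, x⁆ ^ p = 1 := by
    rw [← c2_pow_left hc2, hy, commutatorElement_one_left]
  have hηc : η ⁅y, x⁆ = ⁅y, x⁆ := by
    obtain ⟨z₅, hz₅, hηy'⟩ : ∃ z₅ ∈ Subgroup.center ↥E, η y = y ^ a' * z₅ :=
      ⟨(y ^ a')⁻¹ * η y, hηy, by group⟩
    rw [map_commutatorElement, hηy', hηx', comm_central (hcen' hz₅) (hcen' hz₃),
      c2_pow_left hc2, c2_pow_right hc2, ← pow_mul]
    have h1 : ⁅y, x⁆ ^ (a * a') = ⁅y, x⁆ ^ 1 := by
      apply (pow_eq_pow_iff_modEq).2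
      rw [orderOf_eq_prime hcp hcne]; exact haa'
    rw [h1, pow_one]
  have hr'1 : r' ≡ 1 [MOD p] := by
    have h1 : ⁅y, x⁆ ^ r' = ⁅y, x⁆ ^ 1 := by rw [pow_one, ← hηpow _ (hcc y x), hηc]
    have h2 := (pow_eq_pow_iff_modEq).1 h1
    rwa [orderOf_eq_prime hcp hcne] at h2
  have hfin : e₀ ^ r' = w' ^ p * e₀ ^ k := by
    apply Subtype.ext
    rw [← hηpow e₀ he₀Z]
    show ((η e₀ : ↥E) : Ω) = ((w' ^ p * e₀ ^ k : ↥E) : Ω)
    rw [← hfe₀, hfpow, hfp, Subgroup.coe_mul, Subgroup.coe_pow, Subgroup.coe_pow, he₀]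
  obtain ⟨m, hm⟩ := IsPGroup.iff_card.1 hEp
  have hpm : e₀ ^ p ^ m = 1 := by rw [← hm]; exact pow_card_eq_one'
  have hd : ¬ (p : ℤ) ∣ (r' : ℤ) - (k : ℤ) := by
    intro hdvd
    apply hk
    have h1 : (k : ℤ) ≡ (r' : ℤ) [ZMOD (p : ℤ)] := (Int.modEq_iff_dvd).2 hdvd
    have h2 : k ≡ r' [MOD p] := Int.natCast_modEq_iff.1 h1
    exact h2.trans hr'1
  have hcop : IsCoprime ((r' : ℤ) - (k : ℤ)) ((p : ℤ) ^ m) := by
    apply IsCoprime.pow_right
    exact (((Nat.prime_iff_prime_int.1 hp.out).coprime_iff_not_dvd).2 hd).symm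
  obtain ⟨A, B, hAB⟩ := hcop
  have hzp : e₀ ^ ((r' : ℤ) - (k : ℤ)) = w' ^ p := by
    rw [zpow_sub, zpow_natCast, zpow_natCast, hfin]; group
  have he₀pow : e₀ = (w' ^ A) ^ p := by
    have h1 : e₀ = e₀ ^ (A * ((r' : ℤ) - (k : ℤ)) + B * (p : ℤ) ^ m) := by rw [hAB, zpow_one]
    have h2 : e₀ ^ (B * (p : ℤ) ^ m) = 1 := by
      rw [mul_comm, zpow_mul]
      have h3 : e₀ ^ ((p : ℤ) ^ m) = 1 := by
        have h4 : ((p : ℤ) ^ m) = ((p ^ m : ℕ) : ℤ) := by push_cast; rfl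
        rw [h4, zpow_natCast, hpm]
      rw [h3, one_zpow]
    rw [zpow_add, h2, mul_one, mul_comm A, zpow_mul, hzp] at h1
    rw [h1, ← zpow_natCast, ← zpow_mul, mul_comm, zpow_mul, zpow_natCast]
  exact hnotpow (w' ^ A) (Subgroup.zpow_mem _ hw' A) he₀pow

end CCore

end Cfsg.Agent.H15
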