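import Mathlib
import Cfsg.Agent.H15.Res6

set_option autoImplicit false
set_option maxHeartbeats 1600000

/-!
An essential subgroup of rank two (`p ≥ 5`) is not of the second type of Blackburn's list:
reduction to `ccore`.
-/

namespace Cfsg.Agent.H15

open Cfsg Cfsg.FusionSystem Cfsg.Agent.H86
open scoped commutatorElement

section KillC

variable {Ω : Type*} [Group Ω] {S : Subgroup Ω}

theorem unit_val_mul_inv {p : ℕ} [hp : Fact p.Prime] (μ : (ZMod p)ˣ) :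
    (μ : ZMod p).val * ((μ⁻¹ : (ZMod p)ˣ) : ZMod p).val ≡ 1 [MOD p] := by
  apply (ZMod.natCast_eq_natCast_iff _ _ _).1
  push_cast
  rw [ZMod.natCast_zmod_val, ZMod.natCast_zmod_val]
  exact mul_inv_cancel₀ μ.ne_zero

/-- If `τ z = τ^k z`, `τ^p z = z` and `k ≢ 1 (mod p)`, then `τ z = z`. -/
theorem aut_fix_of_pow {G : Type*} [Group G] {p : ℕ} [hp : Fact p.Prime] {τ : MulAut G} {z : G}
    {k : ℕ} (h1 : τ z = (τ ^ k) z) (h2 : (τ ^ p) z = z) (hk : ¬ k ≡ 1 [MOD p]) : τ z = z := by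
  rcases Nat.eq_zero_or_pos k with hk0 | hkpos
  · rw [hk0, pow_zero] at h1
    exact h1
  · obtain ⟨k', rfl⟩ : ∃ k', k = k' + 1 := ⟨k - 1, by omega⟩
    have h3 : (τ ^ k') z = z := by
      rw [pow_succ', MulAut.mul_apply] at h1
      exact (τ.injective h1).symm
    have hnd : ¬ p ∣ k' := by
      intro hd
      apply hk
      have : k' + 1 ≡ 0 + 1 [MOD p] := Nat.ModEq.add_right 1 ((Nat.modEq_zero_iff_dvd).2 hd)
      simpa using this
    have hcop : Nat.Coprime k' p := ((Nat.Prime.coprime_iff_not_dvd hp.out).2 hnd).symm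
    obtain ⟨m, -, hm⟩ := Nat.exists_mul_mod_eq_one_of_coprime hcop hp.out.one_lt
    have h4 : k' * m = p * (k' * m / p) + 1 := by
      have := Nat.div_add_mod (k' * m) p
      omega
    have h5 : (τ ^ (k' * m)) z = z := by
      rw [pow_mul]; exact aut_pow_fix h3 m
    have h6 : (τ ^ (p * (k' * m / p))) z = z := by
      rw [pow_mul]; exact aut_pow_fix h2 _
    rw [h4, pow_succ', MulAut.mul_apply, h6] at h5
    exact h5

theorem kill_C [Finite S] {p : ℕ} [hp : Fact p.Prime] (hS : IsPGroup p S) (hp5 : 5 ≤ p)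
    (hrank3 : ∀ E : Subgroup Ω, E ≤ S → IsElementaryAbelian p E → Nat.card E ≤ p ^ 2)
    {F : FusionSystem S} (hF : F.IsSaturated p) {E : Subgroup Ω} (hE : F.IsEssential p E)
    {n : ℕ} (hn : 3 ≤ n) (hcard : Nat.card E = p ^ n) {x₀ y₀ z : ↥E}
    (hgen3 : Subgroup.closure ({x₀, y₀, z} : Set ↥E) = ⊤) (hx₀ : x₀ ^ p = 1) (hy₀ : y₀ ^ p = 1)
    (hz : z ^ p ^ (n - 2) = 1) (hxz : x₀ * z = z * x₀) (hyz : y₀ * z = z * y₀)
    (hxy₀ : x₀⁻¹ * y₀ * x₀ = y₀ * z ^ p ^ (n - 3)) : False := by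
  obtain ⟨hES, hcen, hrec, hrad, hlt⟩ := ess_facts hS hF hE
  haveI : Finite E := finite_of_le hES
  have hEp : IsPGroup p ↥E := hS.to_le hES
  have hp1 := hp.out.one_lt
  obtain ⟨hZ, hqc, hexp, hna₀, hgen₀⟩ := ctype_struct hn hcard hgen3 hx₀ hy₀ hz hxz hyz hxy₀
  have hcc : ∀ u v : ↥E, ⁅u, v⁆ ∈ Subgroup.center ↥E := by
    intro u v
    have hcomm := (IsPGroup.isMulCommutative_of_card_eq_prime_sq hqc).is_comm.comm
    apply (QuotientGroup.eq_one_iff _).1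
    show (QuotientGroup.mk' (Subgroup.center ↥E)) ⁅u, v⁆ = 1
    rw [map_commutatorElement]
    exact commutatorElement_eq_one_iff_mul_comm.2 (hcomm _ _)
  have hcen' : ∀ {w : ↥E}, w ∈ Subgroup.center ↥E → ∀ g : ↥E, g * w = w * g :=
    fun hw => Subgroup.mem_center_iff.1 hw
  have hc2 : ∀ u v g : ↥E, g * ⁅u, v⁆ = ⁅u, v⁆ * g := fun u v g => hcen' (hcc u v) g
  -- every element of order `p` of `S` lies in `E`
  have hΩ : ∀ s ∈ S, s ^ p = 1 → s ∈ E := by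
    intro s hs hsp
    have hPS : omOne hS hp5 hrank3 ⊓ E ≤ S := inf_le_right.trans hES
    haveI : Finite ↥(omOne hS hp5 hrank3 ⊓ E) := finite_of_le hPS
    have hx₀' : (x₀ : Ω) ^ p = 1 := by simpa using congrArg Subtype.val hx₀
    have hy₀' : (y₀ : Ω) ^ p = 1 := by simpa using congrArg Subtype.val hy₀
    have hxP : (x₀ : Ω) ∈ omOne hS hp5 hrank3 ⊓ E := ⟨⟨hES x₀.2, hx₀'⟩, x₀.2⟩
    have hyP : (y₀ : Ω) ∈ omOne hS hp5 hrank3 ⊓ E := ⟨⟨hES y₀.2, hy₀'⟩, y₀.2⟩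
    have hc : p ^ 3 ≤ Nat.card ↥(omOne hS hp5 hrank3 ⊓ E) := by
      apply nonab_card (hS.to_le hPS) (a := ⟨(x₀ : Ω), hxP⟩) (b := ⟨(y₀ : Ω), hyP⟩)
      intro h
      apply hna₀
      apply Subtype.ext
      simpa using congrArg Subtype.val h
    exact (om_eq hS hp5 hrank3 hPS (fun u hu => hu.1.2) hc s hs hsp).2
  have hβ := beta_center hS hE hZ hcc hna₀
  have hL : ∀ v : ↥E, ∃ q ∈ {u : ↥E | u ^ p = 1}, q⁻¹ * v ∈ Subgroup.center ↥E := by
    intro v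
    obtain ⟨i, j, hij⟩ := hgen₀ v
    refine ⟨x₀ ^ i * y₀ ^ j, ?_, hij⟩
    show (x₀ ^ i * y₀ ^ j) ^ p = 1
    apply Subtype.ext
    have := om_mul hS hp5 hrank3 (hES (x₀ ^ i).2) (hES (y₀ ^ j).2)
      (by rw [← Subgroup.coe_pow, ← pow_mul, mul_comm, pow_mul, hx₀, one_pow]; rfl)
      (by rw [← Subgroup.coe_pow, ← pow_mul, mul_comm, pow_mul, hy₀, one_pow]; rfl)
    simpa using this
  obtain ⟨t, htS, htn, htE, htp⟩ := rs_step hS hlt
  obtain ⟨τ, hτ, hτA, x, hxL, y, hyL, hgen, huniq, hτx, hτy, -, hμ⟩ :=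
    ess_slq hS hF hE (Subgroup.center ↥E) hqc hexp hβ _ hL htS htn htE htp
  have hx : x ^ p = 1 := hxL
  have hy : y ^ p = 1 := hyL
  obtain ⟨μ, hμ1, hμ2, hμ3⟩ := exists_unit_two hp5
  obtain ⟨η, hηA, hηx, hηy, hrel⟩ := hμ μ
  have haa' := unit_val_mul_inv μ
  have hk : ¬ ((μ : ZMod p) ^ 2).val ≡ 1 [MOD p] := val_not_modEq_one hμ2
  -- `x` and `y` do not commute
  have hxy : x * y ≠ y * x := by
    intro hcomm
    have hxc : x ∈ Subgroup.center ↥E := by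
      rw [Subgroup.mem_center_iff]
      intro u
      obtain ⟨i, j, hij⟩ := hgen u
      obtain ⟨w, hw, huw⟩ : ∃ w ∈ Subgroup.center ↥E, u = x ^ i * y ^ j * w :=
        ⟨(x ^ i * y ^ j)⁻¹ * u, hij, by group⟩
      have h1 : Commute x (x ^ i * y ^ j * w) :=
        (((Commute.refl x).pow_right i).mul_right ((show Commute x y from hcomm).pow_right j)).mul_right
          (hcen' hw x)
      rw [huw]
      exact h1.eq.symm
    have h1 : x ^ 1 * y ^ 0 ∈ Subgroup.center ↥E := by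
      rw [pow_one, pow_zero, mul_one]; exact hxc
    have h2 := (huniq 1 0 h1).1
    have h3 := Nat.le_of_dvd one_pos h2
    omega
  have hchar : ∀ (a : MulAut ↥E) (v : ↥E), v ∈ Subgroup.center ↥E → a v ∈ Subgroup.center ↥E :=
    fun a v hv => Subgroup.characteristic_iff_le_comap.mp Subgroup.centerCharacteristic a hv
  have hzc : z ∈ Subgroup.center ↥E := by rw [hZ]; exact Subgroup.mem_zpowers z
  -- `τ` fixes the centre pointwise
  have hτz : τ z = z := by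
    obtain ⟨hτA', -, hτpow, hτk⟩ := conj_aut_facts F hES hcen htS hτ
    have hinnfix : ∀ ψ ∈ Inn ↥E, ∀ v ∈ Subgroup.center ↥E, ψ v = v := by
      intro ψ hψ v hv
      obtain ⟨g, hg, H⟩ := (mem_inn_iff _).1 hψ
      apply Subtype.ext
      rw [H]
      have h1 := congrArg Subtype.val (hcen' hv ⟨g, hg⟩)
      simp only [Subgroup.coe_mul] at h1
      rw [h1]; group
    have hτzz : τ z ∈ Subgroup.zpowers z := by rw [← hZ]; exact hchar τ z hzc
    obtain ⟨r, hr⟩ := (Submonoid.mem_powers_iff _ _).1 (mem_powers_iff_mem_zpowers.2 hτzz)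
    have hτpw : ∀ v ∈ Subgroup.center ↥E, τ v = v ^ r := by
      intro v hv
      rw [hZ] at hv
      obtain ⟨s, rfl⟩ := Subgroup.mem_zpowers_iff.1 hv
      rw [map_zpow, ← hr, ← zpow_natCast, ← zpow_natCast, ← zpow_mul, ← zpow_mul, mul_comm]
    have hψ₀ := hrel τ hτA (fun u => by rw [inv_mul_cancel]; exact Subgroup.one_mem _)
    have h1 := hinnfix _ hψ₀ z hzc
    simp only [MulAut.mul_apply] at h1
    -- `η (τ (η⁻¹ v)) = τ v` for central `v`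
    have hv : (τ ^ ((μ : ZMod p) ^ 2).val)⁻¹ z ∈ Subgroup.center ↥E := hchar _ z hzc
    have h2 : η (τ (η⁻¹ ((τ ^ ((μ : ZMod p) ^ 2).val)⁻¹ z))) = τ ((τ ^ ((μ : ZMod p) ^ 2).val)⁻¹ z) := by
      rw [hτpw _ (hchar _ _ hv), map_pow, MulAut.apply_inv_self, hτpw _ hv]
    rw [h2] at h1
    have h3 : τ z = (τ ^ ((μ : ZMod p) ^ 2).val) z := by
      have h4 : (τ ^ ((μ : ZMod p) ^ 2).val) (τ ((τ ^ ((μ : ZMod p) ^ 2).val)⁻¹ z)) = τ z := by
        rw [← MulAut.mul_apply, ← pow_succ, pow_succ', MulAut.mul_apply, MulAut.apply_inv_self]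
      rw [← h4, h1]
    exact aut_fix_of_pow h3 (hinnfix _ (hτk p htp) z hzc) hk
  have hτZ : ∀ u ∈ Subgroup.center ↥E, τ u = u := by
    intro u hu
    rw [hZ] at hu
    obtain ⟨s, rfl⟩ := Subgroup.mem_zpowers_iff.1 hu
    rw [map_zpow, hτz]
  -- modify `t` so that the conjugation fixes `x`
  obtain ⟨z₁, hz₁, hτx'⟩ : ∃ z₁ ∈ Subgroup.center ↥E, τ x = x * z₁ :=
    ⟨x⁻¹ * τ x, hτx, by group⟩
  have hz₁p : z₁ ^ p = 1 := by
    have h2 : (τ x) ^ p = 1 := by rw [← map_pow, hx, map_one]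
    have hc : Commute x z₁ := hcen' hz₁ x
    rw [hτx', hc.mul_pow, hx, one_mul] at h2
    exact h2
  have hcne : ⁅y, x⁆ ≠ 1 := fun h => hxy (commutatorElement_eq_one_iff_mul_comm.1 h).symm
  have hcp : ⁅y, x⁆ ^ p = 1 := by
    rw [← c2_pow_left hc2, hy, commutatorElement_one_left]
  obtain ⟨m, hm⟩ : ∃ m : ℕ, ⁅y, x⁆ ^ m = z₁ := by
    haveI : IsCyclic ↥(Subgroup.center ↥E) := by rw [hZ]; infer_instance
    have h1 := cyc_om (p := p) (c := (⟨⁅y, x⁆, hcc y x⟩ : ↥(Subgroup.center ↥E)))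
      (z₁ := (⟨z₁, hz₁⟩ : ↥(Subgroup.center ↥E)))
      (fun h => hcne (by simpa using congrArg Subtype.val h))
      (Subtype.ext (by simpa using hcp)) (Subtype.ext (by simpa using hz₁p))
    obtain ⟨m, hm⟩ := (Submonoid.mem_powers_iff _ _).1 (mem_powers_iff_mem_zpowers.2 h1)
    exact ⟨m, by simpa using congrArg Subtype.val hm⟩
  have hconj : ∀ j : ℕ, y ^ j * x * (y ^ j)⁻¹ = x * ⁅y, x⁆ ^ j := by
    intro j
    apply rs_conj_pow
    · rw [hc2 y x x, commutatorElement_def]; group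
    · rw [hc2 y x y]; group
  have hzj : ⁅y, x⁆ ^ ((p - 1) * m) = z₁⁻¹ := by
    rw [mul_comm, pow_mul, hm]
    apply eq_inv_of_mul_eq_one_left
    rw [← pow_succ]
    have : p - 1 + 1 = p := by omega
    rw [this, hz₁p]
  set j := (p - 1) * m with hj
  let τ₁ : MulAut ↥E := τ * MulAut.conj (y ^ j)
  have hτ₁ap : ∀ u : ↥E, τ₁ u = τ (y ^ j * u * (y ^ j)⁻¹) := fun u => rfl
  have hτ₁ : ∀ u : ↥E, ((τ₁ u : ↥E) : Ω) = (t * (y : Ω) ^ j) * u * (t * (y : Ω) ^ j)⁻¹ := by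
    intro u
    rw [hτ₁ap, hτ]
    simp only [Subgroup.coe_mul, Subgroup.coe_pow, Subgroup.coe_inv]
    group
  have hyjE : (y : Ω) ^ j ∈ E := E.pow_mem y.2 j
  have ht₁S : t * (y : Ω) ^ j ∈ S := S.mul_mem htS (hES hyjE)
  have ht₁n : t * (y : Ω) ^ j ∈ Subgroup.normalizer (E : Set Ω) :=
    Subgroup.mul_mem _ htn (Subgroup.le_normalizer hyjE)
  have ht₁E : t * (y : Ω) ^ j ∉ E := by
    intro h
    apply htE
    have h3 : t = t * (y : Ω) ^ j * ((y : Ω) ^ j)⁻¹ := by group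
    rw [h3]
    exact E.mul_mem h (E.inv_mem hyjE)
  have ht₁p : (t * (y : Ω) ^ j) ^ p ∈ E := by
    obtain ⟨n', hn', h⟩ := rs_coset_pow E (fun u hu => conj_inv_mem_of_mem_normalizer htn hu) hyjE p
    rw [h]
    exact E.mul_mem htp hn'
  have hτ₁x : τ₁ x = x := by
    rw [hτ₁ap, hconj, map_mul, hτZ _ (Subgroup.pow_mem _ (hcc y x) j), hτx', hzj]
    group
  have hτ₁Z : ∀ u ∈ Subgroup.center ↥E, τ₁ u = u := by
    intro u hu
    rw [hτ₁ap, hcen' hu (y ^ j), mul_inv_cancel_right, hτZ u hu]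
  have hτ₁y : (y * x)⁻¹ * τ₁ y ∈ Subgroup.center ↥E := by
    rw [hτ₁ap]
    have : y ^ j * y * (y ^ j)⁻¹ = y := by
      rw [← pow_succ, pow_succ', mul_inv_cancel_right]
    rw [this]
    exact hτy
  have hτ₁A : τ₁ ∈ F.autGroup E := (conj_aut_facts F hES hcen ht₁S hτ₁).1
  have hψ₁ := hrel τ₁ hτ₁A (fun u => by
    rw [hτ₁ap, ← map_inv, ← map_mul]
    apply hchar
    have : u⁻¹ * (y ^ j * u * (y ^ j)⁻¹) = ⁅u⁻¹, y ^ j⁆ := by
      rw [commutatorElement_def]; group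
    rw [this]
    exact hcc _ _)
  exact ccore hS hp5 hrank3 hF hE hZ hcc hΩ hx hy hxy hgen huniq ht₁S ht₁n ht₁E ht₁p hτ₁ hτ₁x hτ₁y
    hτ₁Z hηA hηx hηy haa' hk hψ₁

end KillC

end Cfsg.Agent.H15
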