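import Mathlib
import Cfsg.Agent.H15.Res7

set_option autoImplicit false
set_option maxHeartbeats 1600000

/-!
Essential subgroups of type `(p, p)` in a `p`-group of rank two: coordinates and basic facts.
-/

namespace Cfsg.Agent.H15

open Cfsg Cfsg.FusionSystem Cfsg.Agent.H86
open scoped commutatorElement

section Helpers8

variable {G : Type*} [Group G]

theorem mem_normalizer_of_conj_mem {H : Subgroup G} [Finite H] {g : G}
    (h : ∀ u ∈ H, g * u * g⁻¹ ∈ H) : g ∈ Subgroup.normalizer (H : Set G) := by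
  rw [Subgroup.mem_normalizer_iff]
  intro v
  refine ⟨h v, fun hv => ?_⟩
  let φ : H → H := fun u => ⟨g * u * g⁻¹, h u u.2⟩
  have hinj : Function.Injective φ := by
    intro a b hab
    have h1 : g * (a : G) * g⁻¹ = g * (b : G) * g⁻¹ := congrArg Subtype.val hab
    exact Subtype.ext (mul_left_cancel (mul_right_cancel h1))
  obtain ⟨u, hu⟩ := (Finite.injective_iff_surjective.1 hinj) ⟨g * v * g⁻¹, hv⟩
  have h2 : g * (u : G) * g⁻¹ = g * v * g⁻¹ := congrArg Subtype.val hu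
  have h3 : (u : G) = v := mul_left_cancel (mul_right_cancel h2)
  rw [← h3]; exact u.2

theorem pow_eq_of_modEq {p : ℕ} {g : G} (hg : g ^ p = 1) {a b : ℕ} (h : a ≡ b [MOD p]) :
    g ^ a = g ^ b := by
  rw [pow_eq_pow_mod a hg, pow_eq_pow_mod b hg, (show a % p = b % p from h)]

theorem modEq_of_pow_eq {p : ℕ} [hp : Fact p.Prime] {g : G} (hg : g ^ p = 1) (hg1 : g ≠ 1)
    {a b : ℕ} (h : g ^ a = g ^ b) : a ≡ b [MOD p] := by
  have := (pow_eq_pow_iff_modEq).1 h
  rwa [orderOf_eq_prime hg hg1] at this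

theorem dvd_of_pow_eq_one {p : ℕ} [hp : Fact p.Prime] {g : G} (hg : g ^ p = 1) (hg1 : g ≠ 1)
    {a : ℕ} (h : g ^ a = 1) : p ∣ a := by
  have := orderOf_dvd_of_pow_eq_one h
  rwa [orderOf_eq_prime hg hg1] at this

theorem pow_pred_eq_inv {p : ℕ} [hp : Fact p.Prime] {g : G} (hg : g ^ p = 1) :
    g ^ (p - 1) = g⁻¹ := by
  apply eq_inv_of_mul_eq_one_left
  rw [← pow_succ, Nat.sub_add_cancel hp.out.one_lt.le, hg]

/-- `g^c (g^c')⁻¹ ∈ K`, `g ∉ K`, `g^p = 1` imply `c ≡ c' (mod p)`. -/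
theorem modEq_of_pow_mul_inv_mem {p : ℕ} [hp : Fact p.Prime] {g : G} (K : Subgroup G)
    (hg : g ^ p = 1) (hgK : g ∉ K) {c c' : ℕ} (h : g ^ c * (g ^ c')⁻¹ ∈ K) : c ≡ c' [MOD p] := by
  have hgc : (g ^ c') ^ p = 1 := by rw [← pow_mul, mul_comm, pow_mul, hg, one_pow]
  have h1 : g ^ (c + c' * (p - 1)) = g ^ c * (g ^ c')⁻¹ := by
    rw [pow_add, pow_mul, pow_pred_eq_inv hgc]
  have h2 : p ∣ c + c' * (p - 1) := by
    by_contra hnd
    exact hgK (pow_gen K hg hnd (by rw [h1]; exact h))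
  obtain ⟨q, hq⟩ := h2
  have h3 : c + c' * p = p * q + c' := by
    have h4 : c' * p = c' * (p - 1) + c' := by
      have h5 := Nat.sub_add_cancel hp.out.one_lt.le
      calc c' * p = c' * (p - 1 + 1) := by rw [h5]
        _ = c' * (p - 1) + c' := by ring
    omega
  show c % p = c' % p
  have h4 : (c + c' * p) % p = c % p := Nat.add_mul_mod_self_right c c' p
  have h5 : (p * q + c') % p = c' % p := Nat.mul_add_mod p q c'
  rw [← h4, h3, h5]

end Helpers8

section Frame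

variable {Ω : Type*} [Group Ω]

theorem card_lt_pow {S : Subgroup Ω} [Finite S] {p : ℕ} [hp : Fact p.Prime] (hS : IsPGroup p S)
    {H K : Subgroup Ω} (hK : K ≤ S) (hlt : H < K) {a : ℕ} (hH : Nat.card H = p ^ a) :
    p ^ (a + 1) ≤ Nat.card K := by
  haveI : Finite K := finite_of_le hK
  obtain ⟨k, hk⟩ := IsPGroup.iff_card.1 (hS.to_le hK)
  have hdvd : Nat.card H ∣ Nat.card K := Subgroup.card_dvd_of_le hlt.le
  rw [hH, hk] at hdvd
  have hak : a ≤ k := (Nat.pow_dvd_pow_iff_le_right hp.out.one_lt).1 hdvd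
  have hne : a ≠ k := by
    rintro rfl
    exact hlt.ne (Subgroup.eq_of_le_of_card_ge hlt.le (by rw [hH, hk]))
  rw [hk]
  exact Nat.pow_le_pow_right hp.out.pos (by omega)

/-- Coordinates on an elementary abelian subgroup `E` of order `p²` with an element `t ∉ E`
acting as a transvection. -/
structure Frame (S E : Subgroup Ω) (p : ℕ) (x y t : Ω) : Prop where
  hES : E ≤ S
  hcen : centralizerIn S E ≤ E
  hxE : x ∈ E
  hyE : y ∈ E
  hgen : ∀ u ∈ E, ∃ i j : ℕ, u = x ^ i * y ^ j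
  huniq : ∀ i j : ℕ, x ^ i * y ^ j = 1 → p ∣ i ∧ p ∣ j
  hxp : x ^ p = 1
  hyp : y ^ p = 1
  hxy : x * y = y * x
  htS : t ∈ S
  htE : t ∉ E
  htx : t * x * t⁻¹ = x
  hty : t * y * t⁻¹ = y * x

namespace Frame

variable {S E : Subgroup Ω} {p : ℕ} [hp : Fact p.Prime] {x y t : Ω}

theorem x_ne_one (h : Frame S E p x y t) : x ≠ 1 := by
  intro h1
  have := (h.huniq 1 0 (by rw [h1]; simp)).1
  exact hp.out.one_lt.ne' (Nat.dvd_one.1 this)

theorem y_ne_one (h : Frame S E p x y t) : y ≠ 1 := by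
  intro h1
  have := (h.huniq 0 1 (by rw [h1]; simp)).2
  exact hp.out.one_lt.ne' (Nat.dvd_one.1 this)

omit hp in
theorem cxt (h : Frame S E p x y t) : Commute t x := by
  show t * x = x * t
  calc t * x = t * x * t⁻¹ * t := by group
    _ = x * t := by rw [h.htx]

omit hp in
theorem cxy (h : Frame S E p x y t) : Commute x y := h.hxy

omit hp in
theorem conj_form (h : Frame S E p x y t) (i j : ℕ) :
    t * (x ^ i * y ^ j) * t⁻¹ = x ^ i * y ^ j * x ^ j := by
  have h1 : t * (x ^ i * y ^ j) * t⁻¹ = (t * x * t⁻¹) ^ i * (t * y * t⁻¹) ^ j := by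
    rw [conj_pow, conj_pow]; group
  rw [h1, h.htx, h.hty, (h.cxy.symm).mul_pow, mul_assoc]

omit hp in
theorem conj_E (h : Frame S E p x y t) {u : Ω} (hu : u ∈ E) : t * u * t⁻¹ ∈ E := by
  obtain ⟨i, j, rfl⟩ := h.hgen u hu
  rw [h.conj_form]
  exact E.mul_mem (E.mul_mem (E.pow_mem h.hxE i) (E.pow_mem h.hyE j)) (E.pow_mem h.hxE j)

omit hp in
theorem tn [Finite S] (h : Frame S E p x y t) : t ∈ Subgroup.normalizer (E : Set Ω) := by
  haveI : Finite E := finite_of_le h.hES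
  exact mem_normalizer_of_conj_mem (fun u hu => h.conj_E hu)

omit hp in
theorem E_comm (h : Frame S E p x y t) {u v : Ω} (hu : u ∈ E) (hv : v ∈ E) : u * v = v * u := by
  obtain ⟨i, j, rfl⟩ := h.hgen u hu
  obtain ⟨i', j', rfl⟩ := h.hgen v hv
  have hc : Commute x y := h.hxy
  exact ((((Commute.refl x).pow_pow i i').mul_right (hc.pow_pow i j')).mul_left
    ((hc.symm.pow_pow j i').mul_right ((Commute.refl y).pow_pow j j'))).eq

omit hp in
theorem E_exp (h : Frame S E p x y t) {u : Ω} (hu : u ∈ E) : u ^ p = 1 := by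
  obtain ⟨i, j, rfl⟩ := h.hgen u hu
  have hc : Commute (x ^ i) (y ^ j) := (show Commute x y from h.hxy).pow_pow i j
  rw [hc.mul_pow, ← pow_mul, ← pow_mul, mul_comm i, mul_comm j, pow_mul, pow_mul, h.hxp, h.hyp,
    one_pow, one_pow, one_mul]

/-- The fixed points of `t` on `E` are the powers of `x`. -/
theorem fix_form (h : Frame S E p x y t) {u : Ω} (hu : u ∈ E) (hfix : t * u * t⁻¹ = u) :
    ∃ i : ℕ, u = x ^ i := by
  obtain ⟨i, j, rfl⟩ := h.hgen u hu
  rw [h.conj_form] at hfix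
  have h3 : x ^ j = 1 := mul_left_cancel (a := x ^ i * y ^ j) (by rw [mul_one]; exact hfix)
  have hpj : p ∣ j := (h.huniq j 0 (by rw [pow_zero, mul_one]; exact h3)).1
  obtain ⟨q, rfl⟩ := hpj
  exact ⟨i, by rw [pow_mul, h.hyp, one_pow, mul_one]⟩

/-- The normalizer of `E` in `S` is `E⟨t⟩`. -/
theorem nse [Finite S] (h : Frame S E p x y t) (hS : IsPGroup p S) {g : Ω} (hgS : g ∈ S)
    (hgn : g ∈ Subgroup.normalizer (E : Set Ω)) : ∃ a : ℕ, ∃ e ∈ E, g = t ^ a * e := by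
  haveI : Finite E := finite_of_le h.hES
  have htn := h.tn
  have hxyc : Commute x y := h.hxy
  -- Step 1: `g` commutes with `x`
  have hgx : g * x * g⁻¹ = x := by
    haveI : Finite (normalizerIn S E) := finite_of_le (inf_le_left : normalizerIn S E ≤ S)
    have hMp : IsPGroup p (normalizerIn S E) := hS.to_le inf_le_left
    haveI : (E.subgroupOf (normalizerIn S E)).Normal :=
      Subgroup.normal_subgroupOf_of_le_normalizer
        (inf_le_right : normalizerIn S E ≤ Subgroup.normalizer (E : Set Ω))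
    have hne : E.subgroupOf (normalizerIn S E) ≠ ⊥ := by
      intro hb
      have hxM : x ∈ normalizerIn S E := le_normalizerIn h.hES h.hxE
      have h1 : (⟨x, hxM⟩ : normalizerIn S E) ∈ E.subgroupOf (normalizerIn S E) :=
        Subgroup.mem_subgroupOf.2 h.hxE
      rw [hb, Subgroup.mem_bot] at h1
      exact h.x_ne_one (congrArg Subtype.val h1)
    obtain ⟨z₀, hz₀E, hz₀c, hz₀1⟩ :=
      H3.normal_inf_center_ne_bot hMp (E.subgroupOf (normalizerIn S E)) hne
    have hz₀E' : (z₀ : Ω) ∈ E := Subgroup.mem_subgroupOf.1 hz₀E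
    have hcomm : ∀ g' : Ω, g' ∈ normalizerIn S E → g' * (z₀ : Ω) = z₀ * g' := by
      intro g' hg'
      exact congrArg Subtype.val (Subgroup.mem_center_iff.1 hz₀c ⟨g', hg'⟩)
    have htM : t ∈ normalizerIn S E := mem_normalizerIn_iff.2 ⟨h.htS, htn⟩
    have hgM : g ∈ normalizerIn S E := mem_normalizerIn_iff.2 ⟨hgS, hgn⟩
    obtain ⟨i, hi⟩ := h.fix_form hz₀E' (by rw [hcomm t htM]; group)
    have hpi : ¬ p ∣ i := by
      rintro ⟨q, rfl⟩
      rw [pow_mul, h.hxp, one_pow] at hi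
      exact hz₀1 (Subtype.ext hi)
    have hxc : x ∈ Subgroup.centralizer ({g} : Set Ω) := by
      apply pow_gen _ h.hxp hpi
      rw [Subgroup.mem_centralizer_iff]
      intro d hd
      rw [Set.mem_singleton_iff] at hd
      rw [hd, ← hi]; exact hcomm g hgM
    have h2 := Subgroup.mem_centralizer_iff.1 hxc g rfl
    rw [h2]; group
  -- Step 2: `g y g⁻¹ = x^a y`
  have hgyE : g * y * g⁻¹ ∈ E := conj_mem_of_mem_normalizer hgn h.hyE
  obtain ⟨a, b, hab⟩ := h.hgen _ hgyE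
  have hiter : ∀ m : ℕ, ∃ a' : ℕ, g ^ m * y * (g ^ m)⁻¹ = x ^ a' * y ^ (b ^ m) := by
    intro m
    induction m with
    | zero => exact ⟨0, by simp⟩
    | succ m ih =>
      obtain ⟨a', ha'⟩ := ih
      refine ⟨a' + a * b ^ m, ?_⟩
      have e1 : g ^ (m + 1) * y * (g ^ (m + 1))⁻¹ = g * (g ^ m * y * (g ^ m)⁻¹) * g⁻¹ := by
        rw [pow_succ']; group
      have e2 : g * (x ^ a' * y ^ (b ^ m)) * g⁻¹ =
          (g * x * g⁻¹) ^ a' * (g * y * g⁻¹) ^ (b ^ m) := by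
        rw [conj_pow, conj_pow]; group
      rw [e1, ha', e2, hgx, hab, (hxyc.pow_pow a b).mul_pow, ← pow_mul, ← pow_mul, pow_add x,
        pow_succ b, mul_assoc, mul_comm b]
  obtain ⟨M, hM⟩ := hS ⟨g, hgS⟩
  have hgM : g ^ p ^ M = 1 := by simpa using congrArg Subtype.val hM
  obtain ⟨a', ha'⟩ := hiter (p ^ M)
  rw [hgM] at ha'
  have h4 : x ^ a' * y ^ (b ^ (p ^ M) + (p - 1)) = 1 := by
    rw [pow_add, ← mul_assoc, ← ha', pow_pred_eq_inv h.hyp]
    simp
  have h5 := (h.huniq _ _ h4).2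
  have hb1 : b ≡ 1 [MOD p] := by
    have h6 : ((b ^ (p ^ M) + (p - 1) : ℕ) : ZMod p) = 0 := (ZMod.natCast_eq_zero_iff _ _).2 h5
    rw [Nat.cast_add, Nat.cast_pow, ZMod.pow_card_pow, Nat.cast_sub hp.out.one_lt.le,
      ZMod.natCast_self, Nat.cast_one, zero_sub] at h6
    apply (ZMod.natCast_eq_natCast_iff _ _ _).1
    rw [Nat.cast_one]
    linear_combination h6
  have hgy : g * y * g⁻¹ = x ^ a * y := by
    rw [hab, pow_eq_of_modEq h.hyp hb1, pow_one]
  -- Step 3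
  have hta : t ^ a * y * (t ^ a)⁻¹ = y * x ^ a := rs_conj_pow h.hty h.htx a
  have htxa : t ^ a * x * (t ^ a)⁻¹ = x := rs_conj_pow_fix h.htx a
  refine ⟨a, (t ^ a)⁻¹ * g, ?_, by group⟩
  apply h.hcen
  rw [mem_centralizerIn_iff]
  refine ⟨S.mul_mem (S.inv_mem (S.pow_mem h.htS a)) hgS, ?_⟩
  intro u hu
  obtain ⟨i, j, rfl⟩ := h.hgen u hu
  have c1 : Commute g x := by
    show g * x = x * g
    calc g * x = g * x * g⁻¹ * g := by group
      _ = x * g := by rw [hgx]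
  have c2 : Commute (t ^ a) x := h.cxt.pow_left a
  have hcx : Commute x ((t ^ a)⁻¹ * g) := (c2.inv_left.mul_left c1).symm
  have hcy : Commute y ((t ^ a)⁻¹ * g) := by
    show y * ((t ^ a)⁻¹ * g) = (t ^ a)⁻¹ * g * y
    calc y * ((t ^ a)⁻¹ * g) = (t ^ a)⁻¹ * (t ^ a * y * (t ^ a)⁻¹) * g := by group
      _ = (t ^ a)⁻¹ * (y * x ^ a) * g := by rw [hta]
      _ = (t ^ a)⁻¹ * (x ^ a * y) * g := by rw [(hxyc.pow_left a).eq]
      _ = (t ^ a)⁻¹ * (g * y * g⁻¹) * g := by rw [hgy]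
      _ = (t ^ a)⁻¹ * g * y := by group
  exact ((hcx.pow_left i).mul_left (hcy.pow_left j)).eq

end Frame

end Frame

end Cfsg.Agent.H15
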