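import Mathlib
import Cfsg.Agent.H15.Res8

set_option autoImplicit false
set_option maxHeartbeats 1600000

/-!
Essential subgroups of type `(p, p)`: the group `N = E⟨t⟩` and the case `t^p ≠ 1`.
-/

namespace Cfsg.Agent.H15

open Cfsg Cfsg.FusionSystem Cfsg.Agent.H86
open scoped commutatorElement

section Frame9

variable {Ω : Type*} [Group Ω]

namespace Frame

variable {S E : Subgroup Ω} {p : ℕ} [hp : Fact p.Prime] {x y t : Ω} {N : Subgroup Ω}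

omit hp in
theorem E_le (h : Frame S E p x y t) (hN : ∀ u, u ∈ N ↔ u ∈ S ∧ u ^ p = 1) : E ≤ N :=
  fun u hu => (hN u).2 ⟨h.hES hu, h.E_exp hu⟩

omit hp in
theorem t_mem (h : Frame S E p x y t) (hN : ∀ u, u ∈ N ↔ u ∈ S ∧ u ^ p = 1) (htp : t ^ p = 1) :
    t ∈ N :=
  (hN t).2 ⟨h.htS, htp⟩

theorem card_N [Finite S] (h : Frame S E p x y t) (hS : IsPGroup p S)
    (hN : ∀ u, u ∈ N ↔ u ∈ S ∧ u ^ p = 1) (htp : t ^ p = 1) (hNc : Nat.card N ≤ p ^ 3)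
    (hEc : Nat.card E = p ^ 2) : Nat.card N = p ^ 3 := by
  have hNS : N ≤ S := fun u hu => ((hN u).1 hu).1
  have hlt : E < N := lt_of_le_of_ne (h.E_le hN) (fun heq => h.htE (by rw [heq]; exact h.t_mem hN htp))
  exact le_antisymm hNc (card_lt_pow hS hNS hlt hEc)

theorem nf [Finite S] (h : Frame S E p x y t) (hS : IsPGroup p S)
    (hN : ∀ u, u ∈ N ↔ u ∈ S ∧ u ^ p = 1) (htp : t ^ p = 1) (hNc : Nat.card N ≤ p ^ 3)
    (hEc : Nat.card E = p ^ 2) : ∀ u ∈ N, ∃ a b c : ℕ, u = x ^ a * y ^ b * t ^ c := by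
  have hNS : N ≤ S := fun u hu => ((hN u).1 hu).1
  haveI : Finite N := finite_of_le hNS
  have htn := h.tn
  let M : Subgroup Ω :=
    { carrier := {u | ∃ e ∈ E, ∃ c : ℕ, u = e * t ^ c}
      mul_mem' := by
        rintro _ _ ⟨e, he, c, rfl⟩ ⟨e', he', c', rfl⟩
        refine ⟨e * (t ^ c * e' * (t ^ c)⁻¹),
          E.mul_mem he (conj_mem_of_mem_normalizer (Subgroup.pow_mem _ htn c) he'), c + c', ?_⟩
        rw [pow_add]; group
      one_mem' := ⟨1, E.one_mem, 0, by simp⟩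
      inv_mem' := by
        rintro _ ⟨e, he, c, rfl⟩
        refine ⟨(t ^ c)⁻¹ * e⁻¹ * t ^ c,
          conj_inv_mem_of_mem_normalizer (Subgroup.pow_mem _ htn c) (E.inv_mem he), c * (p - 1), ?_⟩
        have h0 : (t ^ c) ^ p = 1 := by rw [← pow_mul, mul_comm, pow_mul, htp, one_pow]
        rw [pow_mul, pow_pred_eq_inv h0, mul_inv_rev]; group }
  have hEM : E ≤ M := fun e he => ⟨e, he, 0, by simp⟩
  have htM : t ∈ M := ⟨1, E.one_mem, 1, by simp⟩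
  have hMN : M ≤ N := by
    rintro _ ⟨e, he, c, rfl⟩
    exact N.mul_mem (h.E_le hN he) (N.pow_mem (h.t_mem hN htp) c)
  have hlt : E < M := lt_of_le_of_ne hEM (fun heq => h.htE (by rw [heq]; exact htM))
  have hc := card_lt_pow hS (hMN.trans hNS) hlt hEc
  have hMeq : M = N := Subgroup.eq_of_le_of_card_ge hMN (hNc.trans hc)
  intro u hu
  rw [← hMeq] at hu
  obtain ⟨e, he, c, rfl⟩ := hu
  obtain ⟨a, b, rfl⟩ := h.hgen e he
  exact ⟨a, b, c, rfl⟩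

theorem nf_uniq (h : Frame S E p x y t) (htp : t ^ p = 1) {a b c : ℕ}
    (h1 : x ^ a * y ^ b * t ^ c = 1) : p ∣ a ∧ p ∣ b ∧ p ∣ c := by
  have hc : p ∣ c := by
    by_contra hnd
    apply h.htE
    apply pow_gen E htp hnd
    have : t ^ c = (x ^ a * y ^ b)⁻¹ := eq_inv_of_mul_eq_one_right h1
    rw [this]
    exact E.inv_mem (E.mul_mem (E.pow_mem h.hxE a) (E.pow_mem h.hyE b))
  obtain ⟨q, rfl⟩ := hc
  rw [pow_mul, htp, one_pow, mul_one] at h1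
  exact ⟨(h.huniq a b h1).1, (h.huniq a b h1).2, dvd_mul_right p q⟩

omit hp in
theorem yt (h : Frame S E p x y t) : y * t * y⁻¹ = t * x⁻¹ := by
  have h2 : t⁻¹ * x * t = x := by
    calc t⁻¹ * x * t = t⁻¹ * (x * t) := by group
      _ = t⁻¹ * (t * x) := by rw [h.cxt.eq]
      _ = x := by group
  have e : t⁻¹ * y * t = y * x⁻¹ := by
    have h1 : t⁻¹ * (t * y * t⁻¹) * t = y := by group
    rw [h.hty] at h1
    calc t⁻¹ * y * t = t⁻¹ * (y * x) * t * (t⁻¹ * x * t)⁻¹ := by group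
      _ = y * x⁻¹ := by rw [h1, h2]
  calc y * t * y⁻¹ = t * (t⁻¹ * y * t) * y⁻¹ := by group
    _ = t * (y * x⁻¹) * y⁻¹ := by rw [e]
    _ = t * (x⁻¹ * y) * y⁻¹ := by rw [(h.cxy.symm.inv_right).eq]
    _ = t * x⁻¹ := by group

omit hp in
theorem x_central (h : Frame S E p x y t)
    (hnf : ∀ u ∈ N, ∃ a b c : ℕ, u = x ^ a * y ^ b * t ^ c) {u : Ω} (hu : u ∈ N) :
    Commute u x := by
  obtain ⟨a, b, c, rfl⟩ := hnf u hu
  exact (((Commute.refl x).pow_left a).mul_left (h.cxy.symm.pow_left b)).mul_left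
    (h.cxt.pow_left c)

theorem comm_t_form (h : Frame S E p x y t)
    (hnf : ∀ u ∈ N, ∃ a b c : ℕ, u = x ^ a * y ^ b * t ^ c) {u : Ω} (hu : u ∈ N)
    (hut : t * u * t⁻¹ = u) : ∃ a c : ℕ, u = x ^ a * t ^ c := by
  obtain ⟨a, b, c, rfl⟩ := hnf u hu
  have h1 : t * (x ^ a * y ^ b * t ^ c) * t⁻¹ = x ^ a * y ^ b * x ^ b * t ^ c := by
    have e1 : t * (x ^ a * y ^ b * t ^ c) * t⁻¹ = t * (x ^ a * y ^ b) * t⁻¹ * (t * t ^ c * t⁻¹) := by
      group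
    have e2 : t * t ^ c * t⁻¹ = t ^ c := by
      rw [← pow_succ', pow_succ, mul_inv_cancel_right]
    rw [e1, h.conj_form, e2]
  rw [h1] at hut
  have h3 : x ^ b = 1 := by
    have h4 := mul_right_cancel hut
    exact mul_left_cancel (a := x ^ a * y ^ b) (by rw [mul_one]; exact h4)
  obtain ⟨q, rfl⟩ := dvd_of_pow_eq_one h.hxp h.x_ne_one h3
  exact ⟨a, c, by rw [pow_mul, h.hyp, one_pow, mul_one]⟩

theorem central_form (h : Frame S E p x y t) (htp : t ^ p = 1)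
    (hnf : ∀ u ∈ N, ∃ a b c : ℕ, u = x ^ a * y ^ b * t ^ c) {u : Ω} (hu : u ∈ N)
    (hut : t * u * t⁻¹ = u) (huy : y * u * y⁻¹ = u) : ∃ a : ℕ, u = x ^ a := by
  obtain ⟨a, c, rfl⟩ := h.comm_t_form hnf hu hut
  have h1 : y * (x ^ a * t ^ c) * y⁻¹ = x ^ a * t ^ c * (x⁻¹) ^ c := by
    have e1 : y * (x ^ a * t ^ c) * y⁻¹ = (y * x * y⁻¹) ^ a * (y * t * y⁻¹) ^ c := by
      rw [conj_pow, conj_pow]; group
    have hyx : y * x * y⁻¹ = x := by rw [← h.hxy]; group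
    rw [e1, hyx, h.yt, (h.cxt.inv_right).mul_pow, mul_assoc]
  rw [h1] at huy
  have h3 : (x⁻¹) ^ c = 1 := mul_left_cancel (a := x ^ a * t ^ c) (by rw [mul_one]; exact huy)
  rw [inv_pow, inv_eq_one] at h3
  obtain ⟨q, rfl⟩ := dvd_of_pow_eq_one h.hxp h.x_ne_one h3
  exact ⟨a, by rw [pow_mul, htp, one_pow, mul_one]⟩

/-- The case `t^p ≠ 1`. -/
theorem caseA [Finite S] (h : Frame S E p x y t) (hp2 : p ≠ 2)
    {F : FusionSystem S} (hrec : F.IsReceptive E) (htpE : t ^ p ∈ E) (htp1 : t ^ p ≠ 1)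
    {τ : MulAut ↥E} (hτ : ∀ u : ↥E, ((τ u : ↥E) : Ω) = t * u * t⁻¹)
    {η : MulAut ↥E} (hηA : η ∈ F.autGroup E) {m k : ℕ}
    (hηx : ((η ⟨x, h.hxE⟩ : ↥E) : Ω) = x ^ m)
    (hrel : η * τ * η⁻¹ * (τ ^ k)⁻¹ ∈ Inn ↥E) (hkm : ¬ k ≡ m [MOD p]) : False := by
  obtain ⟨i, hi⟩ := h.fix_form htpE (by group)
  have hpi : ¬ p ∣ i := by
    rintro ⟨q, rfl⟩
    rw [pow_mul, h.hxp, one_pow] at hi
    exact htp1 hi
  obtain ⟨R, f, hf, hER, htR, hfη, e, heE, hft⟩ :=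
    fus_ext h.hES hrec h.hcen hηA h.htS h.tn hτ k hrel
  have hfx : f x = x ^ m := (hfη ⟨x, h.hxE⟩).trans hηx
  have h1 : f (t ^ p) = (x ^ m) ^ i := by rw [hi, mor_map_pow hf (hER h.hxE) i, hfx]
  have h2 : f (t ^ p) = (e * t ^ k) ^ p := by rw [mor_map_pow hf htR p, hft]
  have hep := h.E_exp heE
  obtain ⟨a, b, rfl⟩ := h.hgen e heE
  have hconj : t ^ k * (x ^ a * y ^ b) * (t ^ k)⁻¹ = x ^ a * y ^ b * (x ^ k) ^ b := by
    have e1 : t ^ k * (x ^ a * y ^ b) * (t ^ k)⁻¹ =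
        (t ^ k * x * (t ^ k)⁻¹) ^ a * (t ^ k * y * (t ^ k)⁻¹) ^ b := by
      rw [conj_pow, conj_pow]; group
    rw [e1, rs_conj_pow_fix h.htx k, rs_conj_pow h.hty h.htx k,
      ((h.cxy.symm).pow_right k).mul_pow, mul_assoc]
  have hc : Commute (x ^ a * y ^ b) ((x ^ k) ^ b) :=
    (((Commute.refl x).pow_pow a k).pow_right b).mul_left (((h.cxy.symm).pow_pow b k).pow_right b)
  have hcm : ⁅t ^ k, x ^ a * y ^ b⁆ = (x ^ k) ^ b := by
    rw [commutatorElement_def, hconj, hc.eq]; group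
  have hcc1 : Commute (x ^ a * y ^ b) ⁅t ^ k, x ^ a * y ^ b⁆ := by rw [hcm]; exact hc
  have hcc2 : Commute (t ^ k) ⁅t ^ k, x ^ a * y ^ b⁆ := by
    rw [hcm]; exact ((h.cxt.pow_pow k k).pow_right b)
  have h3 := rs_mul_pow (x ^ a * y ^ b) (t ^ k) hcc1 hcc2 p
  have hch : p ∣ p.choose 2 :=
    hp.out.dvd_choose_self (by norm_num) (by have := hp.out.two_le; omega)
  obtain ⟨q, hq⟩ := hch
  have e1 : ((x ^ k) ^ b) ^ (p.choose 2) = 1 := by
    rw [hq, pow_mul, h.E_exp (E.pow_mem (E.pow_mem h.hxE k) b), one_pow]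
  have e2 : (t ^ k) ^ p = (x ^ i) ^ k := by rw [← pow_mul, mul_comm, pow_mul, hi]
  rw [hcm, hep, one_mul, e1, mul_one, e2] at h3
  have h4 : (x ^ m) ^ i = (x ^ i) ^ k := by rw [← h1, h2, h3]
  rw [← pow_mul, ← pow_mul] at h4
  have h5 := modEq_of_pow_eq h.hxp h.x_ne_one h4
  rw [mul_comm m i] at h5
  have hcop : Nat.gcd p i = 1 := (Nat.Prime.coprime_iff_not_dvd hp.out).2 hpi
  exact hkm (Nat.ModEq.cancel_left_of_coprime hcop h5).symm

end Frame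

end Frame9

end Cfsg.Agent.H15
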