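import Mathlib
import Cfsg.Agent.H15.Res9

set_option autoImplicit false
set_option maxHeartbeats 1600000

/-!
A relation between automorphisms of a non-abelian group of order `p³` holds modulo inner
automorphisms as soon as it holds on the central quotient.
-/

namespace Cfsg.Agent.H15

open Cfsg Cfsg.FusionSystem Cfsg.Agent.H86
open scoped commutatorElement

section RelInner

variable {T : Type*} [Group T]

theorem aut_pow_mul {c : MulAut T} {u v : T} (hu : c u = u * v) (hv : c v = v) (n : ℕ) :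
    (c ^ n) u = u * v ^ n := by
  induction n with
  | zero => simp
  | succ n ih => rw [pow_succ', MulAut.mul_apply, ih, map_mul, map_pow, hu, hv, pow_succ', mul_assoc]

theorem rel_inner {p : ℕ} [hp : Fact p.Prime] {x y t : T}
    (hnf : ∀ u : T, ∃ a b c : ℕ, u = x ^ a * y ^ b * t ^ c)
    (hxc : x ∈ Subgroup.center T) (hcc : ∀ u v : T, ⁅u, v⁆ ∈ Subgroup.center T)
    (hZform : ∀ z ∈ Subgroup.center T, ∃ a : ℕ, z = x ^ a)
    (hty : t * y * t⁻¹ = y * x) (hxp : x ^ p = 1) (htp : t ^ p = 1)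
    {ω δ : MulAut T} {a₂ m m' k ε : ℕ}
    (hωy : ω y = y * t ^ a₂) (hωt : ω t = t) (hδy : δ y = y ^ m') (hδt : δ t = x ^ ε * t ^ k)
    (hmm' : m * m' ≡ 1 [MOD p]) :
    δ * ω * δ⁻¹ * (ω ^ (k * m))⁻¹ ∈ Inn T := by
  have hVc := quot_comm_of_comm_mem (Subgroup.center T) hcc
  have hxc' : ∀ g : T, g * x = x * g := fun g => Subgroup.mem_center_iff.1 hxc g
  have hmkx : (QuotientGroup.mk x : T ⧸ Subgroup.center T) = 1 :=
    (QuotientGroup.eq_one_iff _).2 hxc
  obtain ⟨Yq, hYq⟩ : ∃ Yq : T ⧸ Subgroup.center T, Yq = QuotientGroup.mk y := ⟨_, rfl⟩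
  obtain ⟨Tq, hTq⟩ : ∃ Tq : T ⧸ Subgroup.center T, Tq = QuotientGroup.mk t := ⟨_, rfl⟩
  have hVgen : ∀ v : T ⧸ Subgroup.center T, ∃ b c : ℕ, v = Yq ^ b * Tq ^ c := by
    intro v
    obtain ⟨u, rfl⟩ := QuotientGroup.mk_surjective v
    obtain ⟨a, b, c, rfl⟩ := hnf u
    refine ⟨b, c, ?_⟩
    rw [QuotientGroup.mk_mul, QuotientGroup.mk_mul, QuotientGroup.mk_pow, QuotientGroup.mk_pow,
      QuotientGroup.mk_pow, hmkx, one_pow, one_mul, hYq, hTq]
  have hTp : Tq ^ p = 1 := by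
    rw [hTq, ← QuotientGroup.mk_pow, htp, QuotientGroup.mk_one]
  have hqωY : qAut (Subgroup.center T) ω Yq = Yq * Tq ^ a₂ := by
    rw [hYq, hTq, qAut_mk, hωy, QuotientGroup.mk_mul, QuotientGroup.mk_pow]
  have hqωT : qAut (Subgroup.center T) ω Tq = Tq := by rw [hTq, qAut_mk, hωt]
  have hqδY : qAut (Subgroup.center T) δ Yq = Yq ^ m' := by
    rw [hYq, qAut_mk, hδy, QuotientGroup.mk_pow]
  have hqδT : qAut (Subgroup.center T) δ Tq = Tq ^ k := by
    rw [hTq, qAut_mk, hδt, QuotientGroup.mk_mul, QuotientGroup.mk_pow, QuotientGroup.mk_pow, hmkx,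
      one_pow, one_mul]
  have hqωKY : ((qAut (Subgroup.center T) ω) ^ (k * m)) Yq = Yq * (Tq ^ a₂) ^ (k * m) :=
    aut_pow_mul hqωY (by rw [map_pow, hqωT]) (k * m)
  have hqωKT : ((qAut (Subgroup.center T) ω) ^ (k * m)) Tq = Tq := aut_pow_fix hqωT (k * m)
  have hY : qAut (Subgroup.center T) δ (qAut (Subgroup.center T) ω Yq) =
      ((qAut (Subgroup.center T) ω) ^ (k * m)) (qAut (Subgroup.center T) δ Yq) := by
    rw [hqωY, map_mul, map_pow, hqδY, hqδT, map_pow, hqωKY,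
      (show Commute Yq ((Tq ^ a₂) ^ (k * m)) from hVc _ _).mul_pow]
    congr 1
    rw [← pow_mul, ← pow_mul, ← pow_mul]
    apply pow_eq_of_modEq hTp
    have h1 : a₂ * (k * m * m') = k * a₂ * (m * m') := by ring
    rw [h1]
    have h2 := (hmm'.mul_left (k * a₂)).symm
    simpa using h2
  have hT : qAut (Subgroup.center T) δ (qAut (Subgroup.center T) ω Tq) =
      ((qAut (Subgroup.center T) ω) ^ (k * m)) (qAut (Subgroup.center T) δ Tq) := by
    rw [hqωT, hqδT, map_pow, hqωKT]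
  have hrelq : qAut (Subgroup.center T) δ * qAut (Subgroup.center T) ω =
      (qAut (Subgroup.center T) ω) ^ (k * m) * qAut (Subgroup.center T) δ := by
    ext v
    obtain ⟨b, c, rfl⟩ := hVgen v
    simp only [MulAut.mul_apply, map_mul, map_pow]
    rw [hY, hT]
  obtain ⟨ψ, hψdef⟩ : ∃ ψ : MulAut T, ψ = δ * ω * δ⁻¹ * (ω ^ (k * m))⁻¹ := ⟨_, rfl⟩
  rw [← hψdef]
  have hq1 : qAut (Subgroup.center T) ψ = 1 := by
    rw [hψdef, map_mul, map_mul, map_mul, map_inv, map_inv, map_pow, hrelq]; group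
  have hψ := (qAut_eq_one_iff _ _).1 hq1
  obtain ⟨α, hα⟩ := hZform _ (hψ y)
  obtain ⟨β, hβ⟩ := hZform _ (hψ t)
  have hψy : ψ y = y * x ^ α := by rw [← hα]; group
  have hψt : ψ t = t * x ^ β := by rw [← hβ]; group
  have hxpc : ∀ (n : ℕ) (g : T), g * x ^ n = x ^ n * g := fun n g =>
    Subgroup.mem_center_iff.1 (Subgroup.pow_mem _ hxc n) g
  have hxcomm : ⁅t, y⁆ = x := by
    rw [commutatorElement_def, hty, hxc' y]; group
  have hψx : ψ x = x := by
    rw [← hxcomm, map_commutatorElement, hψt, hψy, comm_central (hxpc β) (hxpc α)]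
  have htx : t * x * t⁻¹ = x := by rw [hxc' t]; group
  have hxinvc : ∀ g : T, g * x⁻¹ = x⁻¹ * g := fun g =>
    Subgroup.mem_center_iff.1 (Subgroup.inv_mem _ hxc) g
  have hyt : y * t * y⁻¹ = t * x⁻¹ := by
    have h1 : t * y = y * x * t := by
      calc t * y = t * y * t⁻¹ * t := by group
        _ = y * x * t := by rw [hty]
    calc y * t * y⁻¹ = y * (t * x) * x⁻¹ * y⁻¹ := by group
      _ = y * (x * t) * x⁻¹ * y⁻¹ := by rw [hxc' t]
      _ = (y * x * t) * x⁻¹ * y⁻¹ := by group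
      _ = t * y * x⁻¹ * y⁻¹ := by rw [← h1]
      _ = t * (y * x⁻¹) * y⁻¹ := by group
      _ = t * (x⁻¹ * y) * y⁻¹ := by rw [hxinvc y]
      _ = t * x⁻¹ := by group
  obtain ⟨cg, hcg⟩ : ∃ cg : MulAut T, cg = MulAut.conj (t ^ α * y ^ ((p - 1) * β)) := ⟨_, rfl⟩
  have hcgap : ∀ u : T, cg u = t ^ α * (y ^ ((p - 1) * β) * u * (y ^ ((p - 1) * β))⁻¹) * (t ^ α)⁻¹ := by
    intro u
    rw [hcg, MulAut.conj_apply]; group
  have hcx : cg x = x := by
    rw [hcgap, hxc' (y ^ ((p - 1) * β)), mul_inv_cancel_right, hxc' (t ^ α),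
      mul_inv_cancel_right]
  have hcy : cg y = y * x ^ α := by
    rw [hcgap]
    have h1 : y ^ ((p - 1) * β) * y * (y ^ ((p - 1) * β))⁻¹ = y := by
      rw [← pow_succ, pow_succ', mul_inv_cancel_right]
    rw [h1]
    exact rs_conj_pow hty htx α
  have hct : cg t = t * x ^ β := by
    rw [hcgap]
    have h1 : y ^ ((p - 1) * β) * t * (y ^ ((p - 1) * β))⁻¹ = t * x⁻¹ ^ ((p - 1) * β) :=
      rs_conj_pow hyt (by rw [hxinvc y]; group) _
    have h2 : x⁻¹ ^ ((p - 1) * β) = x ^ β := by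
      have h3 : (x⁻¹) ^ p = 1 := by rw [inv_pow, hxp, inv_one]
      rw [pow_mul, pow_pred_eq_inv h3, inv_inv]
    rw [h1, h2]
    have h4 : Commute (t ^ α) (t * x ^ β) :=
      ((Commute.refl t).pow_left α).mul_right (hxpc β (t ^ α))
    rw [h4.eq]; group
  have hψeq : ψ = cg := by
    ext u
    obtain ⟨a, b, c, rfl⟩ := hnf u
    simp only [map_mul, map_pow]
    rw [hψx, hψy, hψt, hcx, hcy, hct]
  rw [hψeq, hcg]
  exact ⟨_, rfl⟩

end RelInner

end Cfsg.Agent.H15
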