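import Mathlib
import Cfsg.Agent.H15.Res10
import Cfsg.Agent.H86.PCube

set_option autoImplicit false
set_option maxHeartbeats 3200000

/-!
Essential subgroups of type `(p, p)`: the case where `E⟨t⟩` has exponent `p` and is proper.
-/

namespace Cfsg.Agent.H15

open Cfsg Cfsg.FusionSystem Cfsg.Agent.H86
open scoped commutatorElement

section CaseB

variable {Ω : Type*} [Group Ω] {S : Subgroup Ω}

theorem caseB_core [Finite S] {p : ℕ} [hp : Fact p.Prime] (hS : IsPGroup p S)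
    {F : FusionSystem S} (hF : F.IsSaturated p) {E : Subgroup Ω} (hE : F.IsEssential p E)
    {x y t : Ω} (h : Frame S E p x y t) (htp : t ^ p = 1)
    {N : Subgroup Ω} (hN : ∀ u, u ∈ N ↔ u ∈ S ∧ u ^ p = 1) (hNc : Nat.card N ≤ p ^ 3)
    (hEc : Nat.card E = p ^ 2)
    {w : Ω} (hwS : w ∈ S) (hwN : w ∉ N) (hwp : w ^ p ∈ N)
    (hwx : w * x * w⁻¹ = x) (hwt : w * t * w⁻¹ = t) {a₂ : ℕ} (hwy : w * y * w⁻¹ = y * t ^ a₂)
    (ha₂ : ¬ p ∣ a₂)
    {τ : MulAut ↥E} (hτ : ∀ u : ↥E, ((τ u : ↥E) : Ω) = t * u * t⁻¹)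
    {η : MulAut ↥E} (hηA : η ∈ F.autGroup E) {m m' k : ℕ}
    (hηx : ((η ⟨x, h.hxE⟩ : ↥E) : Ω) = x ^ m) (hηy : ((η ⟨y, h.hyE⟩ : ↥E) : Ω) = y ^ m')
    (hmm' : m * m' ≡ 1 [MOD p]) (hk0 : ¬ p ∣ k) (hk1 : ¬ k ≡ 1 [MOD p]) (hm1 : ¬ m ≡ 1 [MOD p])
    (hrel : η * τ * η⁻¹ * (τ ^ k)⁻¹ ∈ Inn ↥E) : False := by
  obtain ⟨hES, hcen, hrec, -, -⟩ := ess_facts hS hF hE
  haveI : Finite E := finite_of_le hES
  have hp1 := hp.out.one_lt
  have hNS : N ≤ S := fun u hu => ((hN u).1 hu).1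
  haveI : Finite N := finite_of_le hNS
  have hnf := h.nf hS hN htp hNc hEc
  have hNcard := h.card_N hS hN htp hNc hEc
  have hEN : E ≤ N := h.E_le hN
  have htN : t ∈ N := h.t_mem hN htp
  have hxN : x ∈ N := hEN h.hxE
  have hyN : y ∈ N := hEN h.hyE
  have htn := h.tn
  have hNexp : ∀ u ∈ N, u ^ p = 1 := fun u hu => ((hN u).1 hu).2
  have hpm : ¬ p ∣ m := by
    intro hd
    have h1 : m * m' ≡ 0 [MOD p] := (Nat.modEq_zero_iff_dvd).2 (dvd_mul_of_dvd_left hd m')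
    exact hp1.ne' (Nat.dvd_one.1 ((Nat.modEq_zero_iff_dvd).1 (h1.symm.trans hmm').symm))
  have hwnN : w ∈ Subgroup.normalizer (N : Set Ω) := by
    apply mem_normalizer_of_conj_mem
    intro u hu
    rw [hN]
    refine ⟨S.mul_mem (S.mul_mem hwS (hNS hu)) (S.inv_mem hwS), ?_⟩
    rw [conj_pow, hNexp u hu]; group
  have hwtc : Commute w t := by
    show w * t = t * w
    calc w * t = w * t * w⁻¹ * w := by group
      _ = t * w := by rw [hwt]
  have hwxc : Commute w x := by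
    show w * x = x * w
    calc w * x = w * x * w⁻¹ * w := by group
      _ = x * w := by rw [hwx]
  -- extension of `η` to `t`
  obtain ⟨R, f, hf, hER, htR, hfη, e, heE, hft⟩ := fus_ext hES hrec hcen hηA h.htS htn hτ k hrel
  have hfx : f x = x ^ m := (hfη ⟨x, h.hxE⟩).trans hηx
  have hfy : f y = y ^ m' := (hfη ⟨y, h.hyE⟩).trans hηy
  have hNR : N ≤ R := by
    intro u hu
    obtain ⟨a, b, c, rfl⟩ := hnf u hu
    exact R.mul_mem (R.mul_mem (R.pow_mem (hER h.hxE) a) (R.pow_mem (hER h.hyE) b))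
      (R.pow_mem htR c)
  have hwy_pow : ∀ j : ℕ, w ^ j * y * (w ^ j)⁻¹ = y * (t ^ a₂) ^ j := by
    intro j
    apply rs_conj_pow hwy
    rw [← conj_pow, hwt]
  obtain ⟨ε, β, rfl⟩ := h.hgen e heE
  have hβ : p ∣ β := by
    by_contra hβ
    let T₀ : Subgroup Ω :=
      { carrier := {u | ∃ a c : ℕ, u = x ^ a * t ^ c}
        mul_mem' := by
          rintro _ _ ⟨a, c, rfl⟩ ⟨a', c', rfl⟩
          refine ⟨a + a', c + c', ?_⟩
          rw [pow_add, pow_add]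
          have h1 := (h.cxt.pow_pow c a').eq
          calc x ^ a * t ^ c * (x ^ a' * t ^ c') = x ^ a * (t ^ c * x ^ a') * t ^ c' := by group
            _ = x ^ a * (x ^ a' * t ^ c) * t ^ c' := by rw [h1]
            _ = x ^ a * x ^ a' * (t ^ c * t ^ c') := by group
        one_mem' := ⟨0, 0, by simp⟩
        inv_mem' := by
          rintro _ ⟨a, c, rfl⟩
          refine ⟨a * (p - 1), c * (p - 1), ?_⟩
          have h0 : (x ^ a) ^ p = 1 := by rw [← pow_mul, mul_comm, pow_mul, h.hxp, one_pow]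
          have h0' : (t ^ c) ^ p = 1 := by rw [← pow_mul, mul_comm, pow_mul, htp, one_pow]
          rw [pow_mul, pow_mul, pow_pred_eq_inv h0, pow_pred_eq_inv h0', mul_inv_rev]
          exact ((h.cxt.pow_pow c a).inv_inv).eq }
    have hT₀S : T₀ ≤ S := by
      rintro _ ⟨a, c, rfl⟩
      exact S.mul_mem (S.pow_mem (hES h.hxE) a) (S.pow_mem h.htS c)
    have hxT : x ∈ T₀ := ⟨1, 0, by simp⟩
    have htT : t ∈ T₀ := ⟨0, 1, by simp⟩
    haveI : Finite T₀ := finite_of_le hT₀S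
    have hT₀c : p ^ 2 ≤ Nat.card T₀ := by
      have hlt : Subgroup.zpowers x < T₀ := by
        refine lt_of_le_of_ne (by rw [Subgroup.zpowers_le]; exact hxT) (fun heq => h.htE ?_)
        have h1 : t ∈ Subgroup.zpowers x := by rw [heq]; exact htT
        exact (Subgroup.zpowers_le.2 h.hxE) h1
      have hcx : Nat.card (Subgroup.zpowers x) = p ^ 1 := by
        rw [Nat.card_zpowers, orderOf_eq_prime h.hxp h.x_ne_one, pow_one]
      exact card_lt_pow hS hT₀S hlt hcx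
    have hcop : Nat.Coprime (a₂ * β) p := by
      apply Nat.Coprime.symm
      rw [Nat.Prime.coprime_iff_not_dvd hp.out]
      intro hd
      rcases (Nat.Prime.dvd_mul hp.out).1 hd with hd | hd
      · exact ha₂ hd
      · exact hβ hd
    obtain ⟨j, -, hj⟩ := Nat.exists_mul_mod_eq_of_coprime ((p - 1) * k) hcop hp.out.ne_zero
    have hjk : p ∣ a₂ * β * j + k := by
      have h1 : (a₂ * β * j + k) % p = ((p - 1) * k + k) % p := Nat.ModEq.add_right k hj
      have h2 : (p - 1) * k + k = p * k := by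
        have h3 := Nat.sub_add_cancel hp1.le
        calc (p - 1) * k + k = (p - 1 + 1) * k := by ring
          _ = p * k := by rw [h3]
      rw [h2, Nat.mul_mod_right] at h1
      exact Nat.dvd_of_mod_eq_zero h1
    have hT₀R : T₀ ≤ R := by
      rintro _ ⟨a, c, rfl⟩
      exact R.mul_mem (R.pow_mem (hER h.hxE) a) (R.pow_mem htR c)
    have hwjS : w ^ j ∈ S := S.pow_mem hwS j
    have hφ : Mor F T₀ ((fun u => w ^ j * u * (w ^ j)⁻¹) ∘ f) :=
      (hf.restrict hT₀R).comp (Mor.conj F (le_refl S) hwjS) (fun u hu => hf.mem (hT₀R hu))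
    have hφE : ∀ u ∈ T₀, ((fun u => w ^ j * u * (w ^ j)⁻¹) ∘ f) u ∈ E := by
      rintro _ ⟨a, c, rfl⟩
      show w ^ j * f (x ^ a * t ^ c) * (w ^ j)⁻¹ ∈ E
      rw [hf.map_mul (R.pow_mem (hER h.hxE) a) (R.pow_mem htR c), mor_map_pow hf (hER h.hxE) a,
        mor_map_pow hf htR c, hfx, hft]
      have e1 : w ^ j * ((x ^ m) ^ a * (x ^ ε * y ^ β * t ^ k) ^ c) * (w ^ j)⁻¹ =
          (w ^ j * x ^ m * (w ^ j)⁻¹) ^ a * (w ^ j * (x ^ ε * y ^ β * t ^ k) * (w ^ j)⁻¹) ^ c := by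
        rw [conj_pow, conj_pow]; group
      rw [e1]
      apply E.mul_mem (E.pow_mem _ a) (E.pow_mem _ c)
      · have h1 : w ^ j * x ^ m * (w ^ j)⁻¹ = x ^ m := by
          rw [← conj_pow, rs_conj_pow_fix hwx j]
        rw [h1]; exact E.pow_mem h.hxE m
      · have e2 : w ^ j * (x ^ ε * y ^ β * t ^ k) * (w ^ j)⁻¹ =
            x ^ ε * (y * (t ^ a₂) ^ j) ^ β * t ^ k := by
          have h1 : w ^ j * (x ^ ε * y ^ β * t ^ k) * (w ^ j)⁻¹ =
              (w ^ j * x * (w ^ j)⁻¹) ^ ε * (w ^ j * y * (w ^ j)⁻¹) ^ β *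
                (w ^ j * t * (w ^ j)⁻¹) ^ k := by
            rw [conj_pow, conj_pow, conj_pow]; group
          rw [h1, rs_conj_pow_fix hwx j, hwy_pow j, rs_conj_pow_fix hwt j]
        rw [e2]
        obtain ⟨n', hn', hpow⟩ := rs_coset_pow' E (w := (t ^ a₂) ^ j) (n := y)
          (fun u hu => conj_mem_of_mem_normalizer
            (Subgroup.pow_mem _ (Subgroup.pow_mem _ htn a₂) j) hu) h.hyE β
        rw [hpow]
        have e3 : ((t ^ a₂) ^ j) ^ β * t ^ k = 1 := by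
          obtain ⟨q, hq⟩ := hjk
          rw [← pow_mul, ← pow_mul, ← pow_add, show a₂ * (j * β) + k = a₂ * β * j + k by ring, hq,
            pow_mul, htp, one_pow]
        have e4 : x ^ ε * (n' * ((t ^ a₂) ^ j) ^ β) * t ^ k = x ^ ε * n' := by
          calc x ^ ε * (n' * ((t ^ a₂) ^ j) ^ β) * t ^ k
              = x ^ ε * n' * (((t ^ a₂) ^ j) ^ β * t ^ k) := by group
            _ = x ^ ε * n' := by rw [e3, mul_one]
        rw [e4]
        exact E.mul_mem (E.pow_mem h.hxE ε) hn'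
    have himg : imgS T₀ ((fun u => w ^ j * u * (w ^ j)⁻¹) ∘ f) = E := by
      have hle : imgS T₀ ((fun u => w ^ j * u * (w ^ j)⁻¹) ∘ f) ≤ E := by
        intro v hv
        obtain ⟨u, hu, rfl⟩ := hφ.mem_imgS.1 hv
        exact hφE u hu
      apply Subgroup.eq_of_le_of_card_ge hle
      rw [hφ.card_imgS, hEc]
      exact hT₀c
    have hconjT : F.IsConj E T₀ := isConj_symm (isConj_iff.2 ⟨_, hφ, himg⟩)
    have hfn := hE.2.1.2 T₀ hconjT
    have hNE : normalizerIn S E ≤ N := by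
      intro g hg
      obtain ⟨hgS, hgn⟩ := mem_normalizerIn_iff.1 hg
      obtain ⟨a, e', he', rfl⟩ := h.nse hS hgS hgn
      exact N.mul_mem (N.pow_mem htN a) (hEN he')
    have hNT : N < normalizerIn S T₀ := by
      have hxn : x ∈ Subgroup.normalizer (T₀ : Set Ω) := Subgroup.le_normalizer hxT
      have htn' : t ∈ Subgroup.normalizer (T₀ : Set Ω) := Subgroup.le_normalizer htT
      have hyn : y ∈ Subgroup.normalizer (T₀ : Set Ω) := by
        apply mem_normalizer_of_conj_mem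
        rintro _ ⟨a, c, rfl⟩
        have e1 : y * (x ^ a * t ^ c) * y⁻¹ = (y * x * y⁻¹) ^ a * (y * t * y⁻¹) ^ c := by
          rw [conj_pow, conj_pow]; group
        have hyx : y * x * y⁻¹ = x := by rw [← h.hxy]; group
        rw [e1, hyx, h.yt]
        exact T₀.mul_mem (T₀.pow_mem hxT a) (T₀.pow_mem (T₀.mul_mem htT (T₀.inv_mem hxT)) c)
      have hwn : w ∈ Subgroup.normalizer (T₀ : Set Ω) := by
        apply mem_normalizer_of_conj_mem
        rintro _ ⟨a, c, rfl⟩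
        have e1 : w * (x ^ a * t ^ c) * w⁻¹ = (w * x * w⁻¹) ^ a * (w * t * w⁻¹) ^ c := by
          rw [conj_pow, conj_pow]; group
        rw [e1, hwx, hwt]
        exact ⟨a, c, rfl⟩
      have hle : N ≤ normalizerIn S T₀ := by
        intro u hu
        refine mem_normalizerIn_iff.2 ⟨hNS hu, ?_⟩
        obtain ⟨a, b, c, rfl⟩ := hnf u hu
        exact Subgroup.mul_mem _ (Subgroup.mul_mem _ (Subgroup.pow_mem _ hxn a)
          (Subgroup.pow_mem _ hyn b)) (Subgroup.pow_mem _ htn' c)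
      refine lt_of_le_of_ne hle (fun heq => hwN ?_)
      rw [heq]
      exact mem_normalizerIn_iff.2 ⟨hwS, hwn⟩
    have h4 := card_lt_pow hS (inf_le_left : normalizerIn S T₀ ≤ S) hNT hNcard
    have h5 : Nat.card (normalizerIn S E) ≤ Nat.card N := Subgroup.card_le_of_le hNE
    rw [hNcard] at h5
    have h6 : p ^ (3 + 1) ≤ p ^ 3 := h4.trans (hfn.trans h5)
    have h7 := (Nat.pow_le_pow_iff_right hp1).1 h6
    omega
  obtain ⟨qβ, rfl⟩ := hβ
  have hft' : f t = x ^ ε * t ^ k := by rw [hft, pow_mul, h.hyp, one_pow, mul_one]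
  -- the automorphism `δ` of `N`
  have hfN : ∀ u ∈ N, f u ∈ N := by
    intro u hu
    rw [hN]
    refine ⟨hf.mem (hNR hu), ?_⟩
    rw [← mor_map_pow hf (hNR hu) p, hNexp u hu, hf.map_one]
  have hfNmor : Mor F N f := hf.restrict hNR
  have himgN : imgS N f = N := imgS_eq_of_maps hfNmor hfN
  obtain ⟨δ, hδdef⟩ : ∃ δ : MulAut ↥N, δ = mkAut hfNmor himgN := ⟨_, rfl⟩
  have hδ : ∀ u : ↥N, ((δ u : ↥N) : Ω) = f u := fun u => by rw [hδdef]; rfl
  have hδA : δ ∈ F.autGroup N := by rw [hδdef]; exact mkAut_mem hfNmor himgN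
  obtain ⟨ω, hω⟩ := exists_conjAut hwnN
  obtain ⟨xN, hxN'⟩ : ∃ xN : ↥N, (xN : Ω) = x := ⟨⟨x, hxN⟩, rfl⟩
  obtain ⟨yN, hyN'⟩ : ∃ yN : ↥N, (yN : Ω) = y := ⟨⟨y, hyN⟩, rfl⟩
  obtain ⟨tN, htN'⟩ : ∃ tN : ↥N, (tN : Ω) = t := ⟨⟨t, htN⟩, rfl⟩
  have hnfN : ∀ u : ↥N, ∃ a b c : ℕ, u = xN ^ a * yN ^ b * tN ^ c := by
    intro u
    obtain ⟨a, b, c, habc⟩ := hnf u u.2
    exact ⟨a, b, c, Subtype.ext (by
      rw [habc, Subgroup.coe_mul, Subgroup.coe_mul, Subgroup.coe_pow, Subgroup.coe_pow,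
        Subgroup.coe_pow, hxN', hyN', htN'])⟩
  have hxZ : xN ∈ Subgroup.center ↥N := by
    rw [Subgroup.mem_center_iff]
    intro g
    apply Subtype.ext
    rw [Subgroup.coe_mul, Subgroup.coe_mul, hxN']
    exact (h.x_central hnf g.2).eq
  have htyN : tN * yN * tN⁻¹ = yN * xN := Subtype.ext (by
    rw [Subgroup.coe_mul, Subgroup.coe_mul, Subgroup.coe_inv, Subgroup.coe_mul, hxN', hyN', htN']
    exact h.hty)
  have hna : ∃ a b : ↥N, a * b ≠ b * a := by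
    refine ⟨tN, yN, fun hcomm => h.x_ne_one ?_⟩
    have h1 : tN * yN * tN⁻¹ = yN := by rw [hcomm]; group
    rw [htyN] at h1
    have h2 : xN = 1 := mul_left_cancel (a := yN) (by rw [mul_one]; exact h1)
    rw [← hxN', h2]; rfl
  obtain ⟨-, hcc, -⟩ := nonabelian_cube_facts hNcard hna
  have hZform : ∀ z ∈ Subgroup.center ↥N, ∃ a : ℕ, z = xN ^ a := by
    intro z hz
    have hzt : t * (z : Ω) * t⁻¹ = z := by
      have h1 := congrArg Subtype.val (Subgroup.mem_center_iff.1 hz tN)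
      rw [Subgroup.coe_mul, Subgroup.coe_mul, htN'] at h1
      rw [h1]; group
    have hzy : y * (z : Ω) * y⁻¹ = z := by
      have h1 := congrArg Subtype.val (Subgroup.mem_center_iff.1 hz yN)
      rw [Subgroup.coe_mul, Subgroup.coe_mul, hyN'] at h1
      rw [h1]; group
    obtain ⟨a, ha⟩ := h.central_form htp hnf z.2 hzt hzy
    exact ⟨a, Subtype.ext (by rw [ha, Subgroup.coe_pow, hxN'])⟩
  have hxNp : xN ^ p = 1 := Subtype.ext (by rw [Subgroup.coe_pow, hxN', h.hxp]; rfl)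
  have htNp : tN ^ p = 1 := Subtype.ext (by rw [Subgroup.coe_pow, htN', htp]; rfl)
  have hωy : ω yN = yN * tN ^ a₂ := Subtype.ext (by
    rw [hω, Subgroup.coe_mul, Subgroup.coe_pow, hyN', htN', hwy])
  have hωt : ω tN = tN := Subtype.ext (by rw [hω, htN', hwt])
  have hδy : δ yN = yN ^ m' := Subtype.ext (by rw [hδ, Subgroup.coe_pow, hyN', hfy])
  have hδt : δ tN = xN ^ ε * tN ^ k := Subtype.ext (by
    rw [hδ, Subgroup.coe_mul, Subgroup.coe_pow, Subgroup.coe_pow, hxN', htN', hft'])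
  have hψ : δ * ω * δ⁻¹ * (ω ^ (k * m))⁻¹ ∈ Inn ↥N :=
    rel_inner hnfN hxZ hcc hZform htyN hxNp htNp hωy hωt hδy hδt hmm'
  -- `N` is receptive
  have hfnN : F.IsFullyNormalized N := by
    refine ⟨hNS, fun Q hQ => ?_⟩
    obtain ⟨g, hg, rfl⟩ := isConj_iff.1 hQ
    have hle : imgS N g ≤ N := by
      intro v hv
      obtain ⟨u, hu, rfl⟩ := hg.mem_imgS.1 hv
      rw [hN]
      refine ⟨hg.mem hu, ?_⟩
      rw [← mor_map_pow hg hu p, hNexp u hu, hg.map_one]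
    have heq : imgS N g = N := Subgroup.eq_of_le_of_card_ge hle (by rw [hg.card_imgS])
    rw [heq]
  have hrecN := saturated_receptive_of_fullyCentralized hS hF (saturated_fullyNormalized hS hF hfnN).1
  have hcenN : centralizerIn S N ≤ N := by
    intro g hg
    obtain ⟨hgS, hgc⟩ := mem_centralizerIn_iff.1 hg
    exact hEN (hcen (mem_centralizerIn_iff.2 ⟨hgS, fun u hu => hgc u (hEN hu)⟩))
  obtain ⟨R₂, ζ, hζ, hNR₂, hwR₂, hζδ, e₂, he₂N, hζw⟩ :=
    fus_ext hNS hrecN hcenN hδA hwS hwnN hω (k * m) hψ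
  have hζt : ζ t = x ^ ε * t ^ k := by
    have h1 := hζδ tN
    rw [htN', hδ, htN', hft'] at h1
    exact h1
  have hζx : ζ x = x ^ m := by
    have h1 := hζδ xN
    rw [hxN', hδ, hxN', hfx] at h1
    exact h1
  have hζcomm : ζ w * ζ t = ζ t * ζ w := by
    rw [← hζ.map_mul hwR₂ (hNR₂ htN), ← hζ.map_mul (hNR₂ htN) hwR₂, hwtc.eq]
  rw [hζw, hζt] at hζcomm
  have hwKc : Commute (w ^ (k * m)) (x ^ ε * t ^ k) :=
    ((hwxc.pow_right ε).mul_right (hwtc.pow_right k)).pow_left _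
  have he₂c : e₂ * (x ^ ε * t ^ k) = x ^ ε * t ^ k * e₂ := by
    have h1 : e₂ * (x ^ ε * t ^ k) * w ^ (k * m) = x ^ ε * t ^ k * e₂ * w ^ (k * m) := by
      calc e₂ * (x ^ ε * t ^ k) * w ^ (k * m) = e₂ * (w ^ (k * m) * (x ^ ε * t ^ k)) := by
            rw [hwKc.eq]; group
        _ = e₂ * w ^ (k * m) * (x ^ ε * t ^ k) := by group
        _ = x ^ ε * t ^ k * (e₂ * w ^ (k * m)) := hζcomm
        _ = x ^ ε * t ^ k * e₂ * w ^ (k * m) := by group
    exact mul_right_cancel h1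
  have hxe₂ : Commute e₂ (x ^ ε) := (h.x_central hnf he₂N).pow_right ε
  have he₂tk : e₂ * t ^ k = t ^ k * e₂ := by
    have h1 : x ^ ε * (e₂ * t ^ k) = x ^ ε * (t ^ k * e₂) := by
      calc x ^ ε * (e₂ * t ^ k) = e₂ * x ^ ε * t ^ k := by rw [hxe₂.eq]; group
        _ = e₂ * (x ^ ε * t ^ k) := by group
        _ = x ^ ε * t ^ k * e₂ := he₂c
        _ = x ^ ε * (t ^ k * e₂) := by group
    exact mul_left_cancel h1
  have he₂t : t * e₂ * t⁻¹ = e₂ := by
    have h1 : t ∈ Subgroup.centralizer ({e₂} : Set Ω) := by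
      apply pow_gen _ htp hk0
      rw [Subgroup.mem_centralizer_iff]
      intro d hd
      rw [Set.mem_singleton_iff] at hd
      rw [hd]; exact he₂tk
    have h2 := Subgroup.mem_centralizer_iff.1 h1 e₂ rfl
    rw [← h2]; group
  obtain ⟨a₃, c₃, he₂⟩ := h.comm_t_form hnf he₂N he₂t
  have hwe₂ : Commute w e₂ := by
    rw [he₂]; exact (hwxc.pow_right a₃).mul_right (hwtc.pow_right c₃)
  have hζwp : ζ (w ^ p) = (w ^ p) ^ (k * m) := by
    rw [mor_map_pow hζ hwR₂ p, hζw, ((hwe₂.symm).pow_right (k * m)).mul_pow, hNexp e₂ he₂N,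
      one_mul, ← pow_mul, ← pow_mul, mul_comm]
  have hwpw : w * w ^ p * w⁻¹ = w ^ p := by group
  obtain ⟨α, γ, hαγ⟩ : ∃ α γ : ℕ, w ^ p = x ^ α * t ^ γ := by
    obtain ⟨a, b, c, habc⟩ := hnf _ hwp
    have h1 : w * (x ^ a * y ^ b * t ^ c) * w⁻¹ = x ^ a * (y * t ^ a₂) ^ b * t ^ c := by
      have h2 : w * (x ^ a * y ^ b * t ^ c) * w⁻¹ =
          (w * x * w⁻¹) ^ a * (w * y * w⁻¹) ^ b * (w * t * w⁻¹) ^ c := by
        rw [conj_pow, conj_pow, conj_pow]; group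
      rw [h2, hwx, hwy, hwt]
    rw [habc, h1] at hwpw
    have h2 : (y * t ^ a₂) ^ b = y ^ b := mul_left_cancel (mul_right_cancel hwpw)
    obtain ⟨n', hn', hpow⟩ := rs_coset_pow' E (w := t ^ a₂) (n := y)
      (fun u hu => conj_mem_of_mem_normalizer (Subgroup.pow_mem _ htn a₂) hu) h.hyE b
    rw [hpow] at h2
    have h3 : t ^ (a₂ * b) ∈ E := by
      have h4 : t ^ (a₂ * b) = n'⁻¹ * y ^ b := by rw [← h2, pow_mul]; group
      rw [h4]; exact E.mul_mem (E.inv_mem hn') (E.pow_mem h.hyE b)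
    have h4 : p ∣ a₂ * b := by
      by_contra hnd
      exact h.htE (pow_gen E htp hnd h3)
    have hpb : p ∣ b := ((Nat.Prime.dvd_mul hp.out).1 h4).resolve_left ha₂
    obtain ⟨q, rfl⟩ := hpb
    exact ⟨a, c, by rw [habc, pow_mul, h.hyp, one_pow, mul_one]⟩
  have hwp1 : w ^ p ≠ 1 := fun h1 => hwN ((hN w).2 ⟨hwS, h1⟩)
  have hζxt : ζ (w ^ p) = (x ^ m) ^ α * (x ^ ε * t ^ k) ^ γ := by
    rw [hαγ, hζ.map_mul (hNR₂ (N.pow_mem hxN α)) (hNR₂ (N.pow_mem htN γ)),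
      mor_map_pow hζ (hNR₂ hxN) α, mor_map_pow hζ (hNR₂ htN) γ, hζx, hζt]
  rw [hζwp, hαγ] at hζxt
  have hcxt := h.cxt
  rw [(hcxt.symm.pow_pow α γ).mul_pow, (hcxt.symm.pow_pow ε k).mul_pow] at hζxt
  by_cases hγ : p ∣ γ
  · obtain ⟨q, rfl⟩ := hγ
    have e1 : (t ^ (p * q)) ^ (k * m) = 1 := by rw [pow_mul t, htp, one_pow, one_pow]
    have e2 : (t ^ k) ^ (p * q) = 1 := by
      rw [← pow_mul, mul_comm k, mul_assoc, pow_mul, htp, one_pow]
    have e3 : (x ^ ε) ^ (p * q) = 1 := by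
      rw [← pow_mul, mul_comm ε, mul_assoc, pow_mul, h.hxp, one_pow]
    rw [e1, e2, e3, mul_one, mul_one, mul_one, ← pow_mul, ← pow_mul] at hζxt
    have h5 := modEq_of_pow_eq h.hxp h.x_ne_one hζxt
    have hα : ¬ p ∣ α := by
      rintro ⟨q', rfl⟩
      apply hwp1
      rw [hαγ, pow_mul, h.hxp, one_pow, pow_mul, htp, one_pow, one_mul]
    have hcopα : Nat.gcd p α = 1 := (Nat.Prime.coprime_iff_not_dvd hp.out).2 hα
    have hcopm : Nat.gcd p m = 1 := (Nat.Prime.coprime_iff_not_dvd hp.out).2 hpm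
    have h6 : α * (k * m) ≡ α * m [MOD p] := by rw [mul_comm m α] at h5; exact h5
    have h7 : k * m ≡ 1 * m [MOD p] := by
      rw [one_mul]; exact Nat.ModEq.cancel_left_of_coprime hcopα h6
    exact hk1 (Nat.ModEq.cancel_right_of_coprime hcopm h7)
  · have key : (t ^ γ) ^ (k * m) * ((t ^ k) ^ γ)⁻¹ ∈ E := by
      have h1 : (t ^ γ) ^ (k * m) * ((t ^ k) ^ γ)⁻¹ =
          ((x ^ α) ^ (k * m))⁻¹ * ((x ^ m) ^ α * (x ^ ε) ^ γ) := by
        calc (t ^ γ) ^ (k * m) * ((t ^ k) ^ γ)⁻¹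
            = ((x ^ α) ^ (k * m))⁻¹ * ((x ^ α) ^ (k * m) * (t ^ γ) ^ (k * m)) *
                ((t ^ k) ^ γ)⁻¹ := by group
          _ = ((x ^ α) ^ (k * m))⁻¹ * ((x ^ m) ^ α * ((x ^ ε) ^ γ * (t ^ k) ^ γ)) *
                ((t ^ k) ^ γ)⁻¹ := by rw [hζxt]
          _ = ((x ^ α) ^ (k * m))⁻¹ * ((x ^ m) ^ α * (x ^ ε) ^ γ) := by group
      rw [h1]
      exact E.mul_mem (E.inv_mem (E.pow_mem (E.pow_mem h.hxE α) _))
        (E.mul_mem (E.pow_mem (E.pow_mem h.hxE m) α) (E.pow_mem (E.pow_mem h.hxE ε) γ))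
    rw [← pow_mul, ← pow_mul] at key
    have h5 := modEq_of_pow_mul_inv_mem E htp h.htE key
    have hcop : Nat.gcd p (k * γ) = 1 := by
      rw [← Nat.Coprime, Nat.Prime.coprime_iff_not_dvd hp.out]
      intro hd
      rcases (Nat.Prime.dvd_mul hp.out).1 hd with hd | hd
      · exact hk0 hd
      · exact hγ hd
    have h6 : k * γ * m ≡ k * γ * 1 [MOD p] := by
      rw [mul_one]
      have h7 : γ * (k * m) = k * γ * m := by ring
      rw [h7] at h5
      exact h5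
    exact hm1 (Nat.ModEq.cancel_left_of_coprime hcop h6)

end CaseB

end Cfsg.Agent.H15
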