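import Mathlib
import Cfsg.Agent.H15.Res11
import Cfsg.Agent.H15.Blk5
import Cfsg.Agent.S5187

set_option autoImplicit false
set_option maxHeartbeats 3200000

/-!
Rank two `p`-groups (`p ≥ 5`) which are not extraspecial of order `p³` and exponent `p` are
resistant.
-/

namespace Cfsg.Agent.H15

open Cfsg Cfsg.FusionSystem Cfsg.Agent.H86
open scoped commutatorElement

section CaseI

variable {Ω : Type*} [Group Ω] {S : Subgroup Ω}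

theorem Frame.cube [Finite S] {p : ℕ} [hp : Fact p.Prime] {E : Subgroup Ω} {x y t : Ω}
    (h : Frame S E p x y t) (hS : IsPGroup p S) {N : Subgroup Ω}
    (hN : ∀ u, u ∈ N ↔ u ∈ S ∧ u ^ p = 1) (htp : t ^ p = 1) (hNc : Nat.card N ≤ p ^ 3)
    (hEc : Nat.card E = p ^ 2) :
    ∃ xN yN tN : ↥N, (xN : Ω) = x ∧ (yN : Ω) = y ∧ (tN : Ω) = t ∧
      (∀ u : ↥N, ∃ a b c : ℕ, u = xN ^ a * yN ^ b * tN ^ c) ∧ xN ∈ Subgroup.center ↥N ∧
      tN * yN * tN⁻¹ = yN * xN ∧ Nat.card (Subgroup.center ↥N) = p ∧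
      (∀ u v : ↥N, ⁅u, v⁆ ∈ Subgroup.center ↥N) ∧
      (∀ z ∈ Subgroup.center ↥N, ∃ a : ℕ, z = xN ^ a) := by
  have hNS : N ≤ S := fun u hu => ((hN u).1 hu).1
  haveI : Finite N := finite_of_le hNS
  have hnf := h.nf hS hN htp hNc hEc
  have hNcard := h.card_N hS hN htp hNc hEc
  have hEN : E ≤ N := h.E_le hN
  have htN : t ∈ N := h.t_mem hN htp
  have hxN : x ∈ N := hEN h.hxE
  have hyN : y ∈ N := hEN h.hyE
  obtain ⟨xN, hxN'⟩ : ∃ xN : ↥N, (xN : Ω) = x := ⟨⟨x, hxN⟩, rfl⟩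
  obtain ⟨yN, hyN'⟩ : ∃ yN : ↥N, (yN : Ω) = y := ⟨⟨y, hyN⟩, rfl⟩
  obtain ⟨tN, htN'⟩ : ∃ tN : ↥N, (tN : Ω) = t := ⟨⟨t, htN⟩, rfl⟩
  have hnfN : ∀ u : ↥N, ∃ a b c : ℕ, u = xN ^ a * yN ^ b * tN ^ c := by
    intro u
    obtain ⟨a, b, c, habc⟩ := hnf u u.2
    exact ⟨a, b, c, Subtype.ext (by
      rw [habc, Subgroup.coe_mul, Subgroup.coe_mul, Subgroup.coe_pow, Subgroup.coe_pow,
        Subgroup.coe_pow, hxN', hyN', htN'])⟩
  have hxZ : xN ∈ Subgroup.center ↥N := by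
    rw [Subgroup.mem_center_iff]
    intro g
    apply Subtype.ext
    rw [Subgroup.coe_mul, Subgroup.coe_mul, hxN']
    exact (h.x_central hnf g.2).eq
  have htyN : tN * yN * tN⁻¹ = yN * xN := Subtype.ext (by
    rw [Subgroup.coe_mul, Subgroup.coe_mul, Subgroup.coe_inv, Subgroup.coe_mul, hxN', hyN', htN']
    exact h.hty)
  have hna : ∃ a b : ↥N, a * b ≠ b * a := by
    refine ⟨tN, yN, fun hcomm => h.x_ne_one ?_⟩
    have h1 : tN * yN * tN⁻¹ = yN := by rw [hcomm]; group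
    rw [htyN] at h1
    have h2 : xN = 1 := mul_left_cancel (a := yN) (by rw [mul_one]; exact h1)
    rw [← hxN', h2]; rfl
  obtain ⟨hZcard, hcc, -⟩ := nonabelian_cube_facts hNcard hna
  have hZform : ∀ z ∈ Subgroup.center ↥N, ∃ a : ℕ, z = xN ^ a := by
    intro z hz
    have hzt : t * (z : Ω) * t⁻¹ = z := by
      have h1 := congrArg Subtype.val (Subgroup.mem_center_iff.1 hz tN)
      rw [Subgroup.coe_mul, Subgroup.coe_mul, htN'] at h1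
      rw [h1]; group
    have hzy : y * (z : Ω) * y⁻¹ = z := by
      have h1 := congrArg Subtype.val (Subgroup.mem_center_iff.1 hz yN)
      rw [Subgroup.coe_mul, Subgroup.coe_mul, hyN'] at h1
      rw [h1]; group
    obtain ⟨a, ha⟩ := h.central_form htp hnf z.2 hzt hzy
    exact ⟨a, Subtype.ext (by rw [ha, Subgroup.coe_pow, hxN'])⟩
  exact ⟨xN, yN, tN, hxN', hyN', htN', hnfN, hxZ, htyN, hZcard, hcc, hZform⟩

theorem caseB [Finite S] {p : ℕ} [hp : Fact p.Prime] (hS : IsPGroup p S) (hp5 : 5 ≤ p)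
    (hrank3 : ∀ E : Subgroup Ω, E ≤ S → IsElementaryAbelian p E → Nat.card E ≤ p ^ 2)
    (hnotE : ¬(Nat.card S = p ^ 3 ∧ Monoid.exponent ↥S = p))
    {F : FusionSystem S} (hF : F.IsSaturated p) {E : Subgroup Ω} (hE : F.IsEssential p E)
    {x y t : Ω} (h : Frame S E p x y t) (htp : t ^ p = 1) (hEc : Nat.card E = p ^ 2)
    {τ : MulAut ↥E} (hτ : ∀ u : ↥E, ((τ u : ↥E) : Ω) = t * u * t⁻¹)
    {η : MulAut ↥E} (hηA : η ∈ F.autGroup E) {m m' k : ℕ}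
    (hηx : ((η ⟨x, h.hxE⟩ : ↥E) : Ω) = x ^ m) (hηy : ((η ⟨y, h.hyE⟩ : ↥E) : Ω) = y ^ m')
    (hmm' : m * m' ≡ 1 [MOD p]) (hk0 : ¬ p ∣ k) (hk1 : ¬ k ≡ 1 [MOD p]) (hm1 : ¬ m ≡ 1 [MOD p])
    (hrel : η * τ * η⁻¹ * (τ ^ k)⁻¹ ∈ Inn ↥E) : False := by
  obtain ⟨hES, hcen, hrec, -, -⟩ := ess_facts hS hF hE
  haveI : Finite E := finite_of_le hES
  have hp1 := hp.out.one_lt
  obtain ⟨N, hN, hNc⟩ : ∃ N : Subgroup Ω, (∀ u, u ∈ N ↔ u ∈ S ∧ u ^ p = 1) ∧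
      Nat.card N ≤ p ^ 3 :=
    ⟨omOne hS hp5 hrank3, fun u => Iff.rfl,
      om_card hS hrank3 _ (fun u hu => hu.1) (fun d hd => hd.2)⟩
  have hNS : N ≤ S := fun u hu => ((hN u).1 hu).1
  haveI : Finite N := finite_of_le hNS
  have hnf := h.nf hS hN htp hNc hEc
  have hNcard := h.card_N hS hN htp hNc hEc
  have hEN : E ≤ N := h.E_le hN
  have htN : t ∈ N := h.t_mem hN htp
  have hxN : x ∈ N := hEN h.hxE
  have hyN : y ∈ N := hEN h.hyE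
  have htn := h.tn
  have hNexp : ∀ u ∈ N, u ^ p = 1 := fun u hu => ((hN u).1 hu).2
  have hNlt : N < S := by
    refine lt_of_le_of_ne hNS (fun heq => hnotE ⟨by rw [← heq]; exact hNcard, ?_⟩)
    have hdvd : Monoid.exponent ↥S ∣ p := by
      apply Monoid.exponent_dvd_of_forall_pow_eq_one
      intro g
      have hg : (g : Ω) ∈ N := by rw [heq]; exact g.2
      exact Subtype.ext (by simpa using hNexp _ hg)
    rcases (Nat.dvd_prime hp.out).1 hdvd with h1 | h1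
    · exfalso
      have hsub : Subsingleton ↥S := Monoid.exp_eq_one_iff.1 h1
      have h2 : (⟨x, hES h.hxE⟩ : ↥S) = 1 := Subsingleton.elim _ _
      exact h.x_ne_one (congrArg Subtype.val h2)
    · exact h1
  obtain ⟨w₀, hw₀S, hw₀n, hw₀N, hw₀p⟩ := rs_step hS hNlt
  have hw₀x : w₀ * x * w₀⁻¹ = x := by
    have hmem : w₀ * x * w₀⁻¹ ∈ N := conj_mem_of_mem_normalizer hw₀n hxN
    have hcent : ∀ v ∈ N, v * (w₀ * x * w₀⁻¹) * v⁻¹ = w₀ * x * w₀⁻¹ := by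
      intro v hv
      have hv' : w₀⁻¹ * v * w₀ ∈ N := conj_inv_mem_of_mem_normalizer hw₀n hv
      have hc := (h.x_central hnf hv').eq
      calc v * (w₀ * x * w₀⁻¹) * v⁻¹
          = w₀ * ((w₀⁻¹ * v * w₀) * x) * (w₀⁻¹ * v * w₀)⁻¹ * w₀⁻¹ := by group
        _ = w₀ * (x * (w₀⁻¹ * v * w₀)) * (w₀⁻¹ * v * w₀)⁻¹ * w₀⁻¹ := by rw [hc]
        _ = w₀ * x * w₀⁻¹ := by group
    obtain ⟨r, hr⟩ := h.central_form htp hnf hmem (hcent t htN) (hcent y hyN)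
    obtain ⟨M, hM⟩ := hS ⟨w₀, hw₀S⟩
    have hw₀M : w₀ ^ p ^ M = 1 := by simpa using congrArg Subtype.val hM
    exact rs_pfix hw₀M h.hxp hr
  have hw₀xc : Commute w₀ x := by
    show w₀ * x = x * w₀
    calc w₀ * x = w₀ * x * w₀⁻¹ * w₀ := by group
      _ = x * w₀ := by rw [hw₀x]
  -- `w₀` does not normalize `E`
  have hkey : w₀ * y * w₀⁻¹ ∉ E := by
    intro hmem
    have hw₀E : w₀ ∈ Subgroup.normalizer (E : Set Ω) := by
      apply mem_normalizer_of_conj_mem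
      intro u hu
      obtain ⟨i, j, rfl⟩ := h.hgen u hu
      have e1 : w₀ * (x ^ i * y ^ j) * w₀⁻¹ = (w₀ * x * w₀⁻¹) ^ i * (w₀ * y * w₀⁻¹) ^ j := by
        rw [conj_pow, conj_pow]; group
      rw [e1, hw₀x]
      exact E.mul_mem (E.pow_mem h.hxE i) (E.pow_mem hmem j)
    obtain ⟨a', e', he', hw₀eq⟩ := h.nse hS hw₀S hw₀E
    apply hw₀N
    rw [hw₀eq]
    exact N.mul_mem (N.pow_mem htN a') (hEN he')
  obtain ⟨ω₀, hω₀⟩ := exists_conjAut hw₀n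
  obtain ⟨xN, yN, tN, hxN', hyN', htN', hnfN, hxZ, htyN, hZcard, hcc, hZform⟩ :=
    h.cube hS hN htp hNc hEc
  have hcenN : centralizerIn S N ≤ N := by
    intro g hg
    obtain ⟨hgS, hgc⟩ := mem_centralizerIn_iff.1 hg
    exact hEN (hcen (mem_centralizerIn_iff.2 ⟨hgS, fun u hu => hgc u (hEN hu)⟩))
  have hVc := quot_comm_of_comm_mem (Subgroup.center ↥N) hcc
  letI : CommGroup (↥N ⧸ Subgroup.center ↥N) :=
    { (inferInstance : Group (↥N ⧸ Subgroup.center ↥N)) with mul_comm := hVc }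
  have hVcard : Nat.card (↥N ⧸ Subgroup.center ↥N) = p ^ 2 := by
    have h1 := Subgroup.card_eq_card_quotient_mul_card_subgroup (Subgroup.center ↥N)
    rw [hNcard, hZcard] at h1
    have h2 : p ^ 2 * p = Nat.card (↥N ⧸ Subgroup.center ↥N) * p := by rw [← h1]; ring
    exact (Nat.eq_of_mul_eq_mul_right hp.out.pos h2).symm
  have hVexp : ∀ v : ↥N ⧸ Subgroup.center ↥N, v ^ p = 1 := by
    intro v
    obtain ⟨u, rfl⟩ := QuotientGroup.mk_surjective v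
    rw [← QuotientGroup.mk_pow]
    have h1 : u ^ p = 1 := Subtype.ext (by rw [Subgroup.coe_pow]; exact hNexp _ u.2)
    rw [h1, QuotientGroup.mk_one]
  have hInnV : ∀ α ∈ Inn ↥N, qAut (Subgroup.center ↥N) α = 1 := by
    rintro _ ⟨g, rfl⟩
    ext q
    obtain ⟨u, rfl⟩ := QuotientGroup.mk_surjective q
    rw [qAut_mk, MulAut.one_apply, MulAut.conj_apply, QuotientGroup.mk_mul, QuotientGroup.mk_mul,
      QuotientGroup.mk_inv, hVc (g : ↥N ⧸ Subgroup.center ↥N), mul_inv_cancel_right]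
  obtain ⟨aV, haV⟩ : ∃ aV : MulAut (↥N ⧸ Subgroup.center ↥N),
      aV = qAut (Subgroup.center ↥N) ω₀ := ⟨_, rfl⟩
  have haVp : aV ^ p = 1 := by
    rw [haV, ← map_pow]
    exact hInnV _ ((conj_aut_facts F hNS hcenN hw₀S hω₀).2.2.2 p hw₀p)
  have haV1 : aV ≠ 1 := by
    intro h1
    rw [haV] at h1
    have h2 := (qAut_eq_one_iff _ _).1 h1 yN
    obtain ⟨a, ha⟩ := hZform _ h2
    apply hkey
    have h4 := congrArg Subtype.val ha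
    rw [Subgroup.coe_mul, Subgroup.coe_inv, hω₀, Subgroup.coe_pow, hyN', hxN'] at h4
    have h3 : w₀ * y * w₀⁻¹ = y * x ^ a := by rw [← h4]; group
    rw [h3]
    exact E.mul_mem h.hyE (E.pow_mem h.hxE a)
  have hao : orderOf aV = p := orderOf_eq_prime haVp haV1
  have hfix := autComm_mem_fixSub hVcard hVexp hao (QuotientGroup.mk yN)
  rw [mem_fixSub, autComm_apply] at hfix
  obtain ⟨t'N, ht'N⟩ : ∃ t'N : ↥N, t'N = yN⁻¹ * ω₀ yN := ⟨_, rfl⟩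
  have hmk : (QuotientGroup.mk t'N : ↥N ⧸ Subgroup.center ↥N) =
      (QuotientGroup.mk yN)⁻¹ * aV (QuotientGroup.mk yN) := by
    rw [ht'N, haV, qAut_mk, QuotientGroup.mk_mul, QuotientGroup.mk_inv]
  rw [← hmk, haV, qAut_mk] at hfix
  have h5 := QuotientGroup.eq.1 hfix.symm
  obtain ⟨c₀, hc₀⟩ := hZform _ h5
  obtain ⟨t', ht'⟩ : ∃ t' : Ω, t' = (t'N : Ω) := ⟨_, rfl⟩
  have ht'N' : t' ∈ N := by rw [ht']; exact t'N.2
  have ht'y : w₀ * y * w₀⁻¹ = y * t' := by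
    rw [ht', ht'N, Subgroup.coe_mul, Subgroup.coe_inv, hω₀, hyN']; group
  have hw₀t' : w₀ * t' * w₀⁻¹ = t' * x ^ c₀ := by
    have h6 := congrArg Subtype.val hc₀
    rw [Subgroup.coe_mul, Subgroup.coe_inv, hω₀, Subgroup.coe_pow, hxN', ← ht'] at h6
    rw [← h6]; group
  obtain ⟨i, j, a₂, ht'nf⟩ := hnf t' ht'N'
  have ha₂ : ¬ p ∣ a₂ := by
    rintro ⟨q, rfl⟩
    apply hkey
    rw [ht'y, ht'nf, pow_mul, htp, one_pow, mul_one]
    exact E.mul_mem h.hyE (E.mul_mem (E.pow_mem h.hxE i) (E.pow_mem h.hyE j))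
  have ht'x : t' * x * t'⁻¹ = x := by rw [(h.x_central hnf ht'N').eq]; group
  have ht'y' : t' * y * t'⁻¹ = y * x ^ a₂ := by
    rw [ht'nf]
    have e1 : x ^ i * y ^ j * t ^ a₂ * y * (x ^ i * y ^ j * t ^ a₂)⁻¹ =
        (x ^ i * y ^ j) * (t ^ a₂ * y * (t ^ a₂)⁻¹) * (x ^ i * y ^ j)⁻¹ := by group
    rw [e1, rs_conj_pow h.hty h.htx a₂]
    have hc := h.E_comm (E.mul_mem (E.pow_mem h.hxE i) (E.pow_mem h.hyE j))
      (E.mul_mem h.hyE (E.pow_mem h.hxE a₂))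
    rw [hc]; group
  have hcop : Nat.Coprime a₂ p := ((Nat.Prime.coprime_iff_not_dvd hp.out).2 ha₂).symm
  obtain ⟨b₂, -, hb₂⟩ := Nat.exists_mul_mod_eq_one_of_coprime hcop hp1
  have hb₂' : a₂ * b₂ ≡ 1 [MOD p] := by
    show a₂ * b₂ % p = 1 % p
    rw [hb₂, Nat.mod_eq_of_lt hp1]
  have ht'p : t' ^ p = 1 := hNexp t' ht'N'
  obtain ⟨s, hs⟩ : ∃ s : Ω, s = t' ^ b₂ := ⟨_, rfl⟩
  have hsN : s ∈ N := by rw [hs]; exact N.pow_mem ht'N' b₂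
  have hsp : s ^ p = 1 := hNexp s hsN
  have hsx : s * x * s⁻¹ = x := by rw [hs]; exact rs_conj_pow_fix ht'x b₂
  have hsy : s * y * s⁻¹ = y * x := by
    have h1 : t' * x ^ a₂ * t'⁻¹ = x ^ a₂ := by rw [← conj_pow, ht'x]
    rw [hs, rs_conj_pow ht'y' h1 b₂, ← pow_mul, pow_eq_of_modEq h.hxp hb₂', pow_one]
  have hsE : s ∉ E := by
    intro hsE
    have h1 := h.E_comm hsE h.hyE
    have h2 : s * y * s⁻¹ = y := by rw [h1]; group
    rw [hsy] at h2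
    exact h.x_ne_one (mul_left_cancel (a := y) (by rw [mul_one]; exact h2))
  have hFrame : Frame S E p x y s :=
    { hES := h.hES, hcen := h.hcen, hxE := h.hxE, hyE := h.hyE, hgen := h.hgen, huniq := h.huniq,
      hxp := h.hxp, hyp := h.hyp, hxy := h.hxy, htS := hNS hsN, htE := hsE, htx := hsx,
      hty := hsy }
  have hsa : s ^ a₂ = t' := by
    rw [hs, ← pow_mul, mul_comm, pow_eq_of_modEq ht'p hb₂', pow_one]
  have hτs : ∀ u : ↥E, ((τ u : ↥E) : Ω) = s * u * s⁻¹ := by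
    intro u
    rw [hτ]
    obtain ⟨i', j', hij⟩ := h.hgen u u.2
    rw [hij, h.conj_form, hFrame.conj_form]
  have hw₀s : w₀ * s * w₀⁻¹ = s * x ^ (c₀ * b₂) := by
    rw [hs, ← conj_pow, hw₀t', ((h.x_central hnf ht'N').pow_right c₀).mul_pow, ← pow_mul]
  obtain ⟨c₁, hc₁⟩ : ∃ c₁ : ℕ, c₁ = c₀ * b₂ := ⟨_, rfl⟩
  have hyxinv : y * x⁻¹ * y⁻¹ = x⁻¹ := by
    rw [(h.cxy.symm.inv_right).eq]; group
  have hys : y ^ c₁ * s * (y ^ c₁)⁻¹ = s * x⁻¹ ^ c₁ := rs_conj_pow hFrame.yt hyxinv c₁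
  have hws : (w₀ * y ^ c₁) * s * (w₀ * y ^ c₁)⁻¹ = s := by
    have e1 : (w₀ * y ^ c₁) * s * (w₀ * y ^ c₁)⁻¹ = w₀ * (y ^ c₁ * s * (y ^ c₁)⁻¹) * w₀⁻¹ := by
      group
    have hc' : Commute (x⁻¹ ^ c₁) w₀⁻¹ := ((hw₀xc.symm.inv_left).pow_left c₁).inv_right
    have e2 : w₀ * (s * x⁻¹ ^ c₁) * w₀⁻¹ = (w₀ * s * w₀⁻¹) * x⁻¹ ^ c₁ := by
      calc w₀ * (s * x⁻¹ ^ c₁) * w₀⁻¹ = w₀ * s * (x⁻¹ ^ c₁ * w₀⁻¹) := by group
        _ = w₀ * s * (w₀⁻¹ * x⁻¹ ^ c₁) := by rw [hc'.eq]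
        _ = (w₀ * s * w₀⁻¹) * x⁻¹ ^ c₁ := by group
    rw [e1, hys, e2, hw₀s, hc₁, inv_pow, mul_assoc, mul_inv_cancel, mul_one]
  have hwS : w₀ * y ^ c₁ ∈ S := S.mul_mem hw₀S (S.pow_mem (hES h.hyE) c₁)
  have hwN : w₀ * y ^ c₁ ∉ N := by
    intro hmem
    apply hw₀N
    have h1 : w₀ = w₀ * y ^ c₁ * (y ^ c₁)⁻¹ := by group
    rw [h1]; exact N.mul_mem hmem (N.inv_mem (N.pow_mem hyN c₁))
  have hwp : (w₀ * y ^ c₁) ^ p ∈ N := by
    obtain ⟨n', hn', hpow⟩ := rs_coset_pow N (w := w₀) (n := y ^ c₁)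
      (fun u hu => conj_inv_mem_of_mem_normalizer hw₀n hu) (N.pow_mem hyN c₁) p
    rw [hpow]; exact N.mul_mem hw₀p hn'
  have hwx : (w₀ * y ^ c₁) * x * (w₀ * y ^ c₁)⁻¹ = x := by
    have e1 : (w₀ * y ^ c₁) * x * (w₀ * y ^ c₁)⁻¹ = w₀ * (y ^ c₁ * x * (y ^ c₁)⁻¹) * w₀⁻¹ := by
      group
    have e2 : y ^ c₁ * x * (y ^ c₁)⁻¹ = x := by rw [((h.cxy.symm).pow_left c₁).eq]; group
    rw [e1, e2, hw₀x]
  have hwy : (w₀ * y ^ c₁) * y * (w₀ * y ^ c₁)⁻¹ = y * s ^ a₂ := by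
    have e1 : (w₀ * y ^ c₁) * y * (w₀ * y ^ c₁)⁻¹ = w₀ * (y ^ c₁ * y * (y ^ c₁)⁻¹) * w₀⁻¹ := by
      group
    have e2 : y ^ c₁ * y * (y ^ c₁)⁻¹ = y := by rw [← pow_succ, pow_succ', mul_inv_cancel_right]
    rw [e1, e2, ht'y, hsa]
  exact caseB_core hS hF hE hFrame hsp hN hNc hEc hwS hwN hwp hwx hws hwy ha₂ hτs hηA hηx hηy
    hmm' hk0 hk1 hm1 hrel

end CaseI

end Cfsg.Agent.H15
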