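import Mathlib
import Cfsg.Agent.H15.Res12

set_option autoImplicit false
set_option maxHeartbeats 3200000

/-!
Rank two `p`-groups (`p ≥ 5`) which are not extraspecial of order `p³` and exponent `p` are
resistant: assembly.
-/

namespace Cfsg.Agent.H15

open Cfsg Cfsg.FusionSystem Cfsg.Agent.H86
open scoped commutatorElement

section Main

variable {Ω : Type*} [Group Ω] {S : Subgroup Ω}

/-- An essential subgroup is not elementary abelian of order `p²`. -/
theorem caseI [Finite S] {p : ℕ} [hp : Fact p.Prime] (hS : IsPGroup p S) (hp5 : 5 ≤ p)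
    (hrank3 : ∀ E : Subgroup Ω, E ≤ S → IsElementaryAbelian p E → Nat.card E ≤ p ^ 2)
    (hnotE : ¬(Nat.card S = p ^ 3 ∧ Monoid.exponent ↥S = p))
    {F : FusionSystem S} (hF : F.IsSaturated p) {E : Subgroup Ω} (hE : F.IsEssential p E)
    (hEab : IsElementaryAbelian p E) (hEc : Nat.card E = p ^ 2) : False := by
  obtain ⟨hES, hcen, hrec, hrad, hlt⟩ := ess_facts hS hF hE
  haveI : Finite E := finite_of_le hES
  obtain ⟨t, htS, htn, htE, htpE⟩ := rs_step hS hlt
  have hcomm : ∀ a b : ↥E, a * b = b * a := hEab.1.is_comm.comm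
  have hexpE : ∀ u : ↥E, u ^ p = 1 := fun u => Subtype.ext (by simpa using hEab.2 u u.2)
  have hcardq : Nat.card (↥E ⧸ (⊥ : Subgroup ↥E)) = p ^ 2 := by
    rw [← hEc]; exact Nat.card_congr (QuotientGroup.quotientBot).toEquiv
  have hexp : ∀ u : ↥E, u ^ p ∈ (⊥ : Subgroup ↥E) := fun u => by
    rw [Subgroup.mem_bot]; exact hexpE u
  have hβ : ∀ α ∈ F.autGroup E, (∀ u : ↥E, u⁻¹ * α u ∈ (⊥ : Subgroup ↥E)) → α ∈ Inn ↥E := by
    intro α _ hα
    have h1 : α = 1 := by
      ext u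
      have h2 := hα u
      rw [Subgroup.mem_bot, inv_mul_eq_one] at h2
      rw [← h2]; rfl
    rw [h1]; exact Subgroup.one_mem _
  obtain ⟨τ, hτ, hτA, x, -, y, -, hgen, huniq, hτx, hτy, -, hμ⟩ :=
    ess_slq hS hF hE (⊥ : Subgroup ↥E) hcardq hexp hβ Set.univ
      (fun v => ⟨v, trivial, by simp⟩) htS htn htE htpE
  rw [Subgroup.mem_bot, inv_mul_eq_one] at hτx hτy
  have hFrame : Frame S E p (x : Ω) (y : Ω) t :=
    { hES := hES
      hcen := hcen
      hxE := x.2
      hyE := y.2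
      hgen := by
        intro u hu
        obtain ⟨i, j, hij⟩ := hgen ⟨u, hu⟩
        rw [Subgroup.mem_bot, inv_mul_eq_one] at hij
        refine ⟨i, j, ?_⟩
        have h1 := congrArg Subtype.val hij
        simpa using h1.symm
      huniq := by
        intro i j hij
        apply huniq i j
        rw [Subgroup.mem_bot]
        exact Subtype.ext (by simpa using hij)
      hxp := by simpa using congrArg Subtype.val (hexpE x)
      hyp := by simpa using congrArg Subtype.val (hexpE y)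
      hxy := by simpa using congrArg Subtype.val (hcomm x y)
      htS := htS
      htE := htE
      htx := by rw [← hτ, ← hτx]
      hty := by rw [← hτ, ← hτy]; rfl }
  obtain ⟨μ, hμ1, hμ2, hμ3⟩ := exists_unit_two hp5
  obtain ⟨η, hηA, hηx, hηy, hrel'⟩ := hμ μ
  rw [Subgroup.mem_bot, inv_mul_eq_one] at hηx hηy
  have hηx' : ((η ⟨(x : Ω), hFrame.hxE⟩ : ↥E) : Ω) = (x : Ω) ^ (μ : ZMod p).val := by
    have h1 : η x = x ^ (μ : ZMod p).val := hηx.symm
    have h2 := congrArg Subtype.val h1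
    rw [Subgroup.coe_pow] at h2
    exact h2
  have hηy' : ((η ⟨(y : Ω), hFrame.hyE⟩ : ↥E) : Ω) =
      (y : Ω) ^ ((μ⁻¹ : (ZMod p)ˣ) : ZMod p).val := by
    have h1 : η y = y ^ ((μ⁻¹ : (ZMod p)ˣ) : ZMod p).val := hηy.symm
    have h2 := congrArg Subtype.val h1
    rw [Subgroup.coe_pow] at h2
    exact h2
  have hmm' := unit_val_mul_inv μ
  have hk0 : ¬ p ∣ ((μ : ZMod p) ^ 2).val := by
    intro hd
    have hlt' := ZMod.val_lt ((μ : ZMod p) ^ 2)
    have h0 : ((μ : ZMod p) ^ 2).val = 0 := Nat.eq_zero_of_dvd_of_lt hd hlt'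
    exact (pow_ne_zero 2 μ.ne_zero) ((ZMod.val_eq_zero _).1 h0)
  have hk1 : ¬ ((μ : ZMod p) ^ 2).val ≡ 1 [MOD p] := val_not_modEq_one hμ2
  have hm1 : ¬ (μ : ZMod p).val ≡ 1 [MOD p] := val_not_modEq_one hμ1
  have hrel := hrel' τ hτA (fun u => by rw [inv_mul_cancel]; exact Subgroup.one_mem _)
  by_cases htp : t ^ p = 1
  · exact caseB hS hp5 hrank3 hnotE hF hE hFrame htp hEc hτ hηA hηx' hηy' hmm' hk0 hk1 hm1 hrel
  · have hkm : ¬ ((μ : ZMod p) ^ 2).val ≡ (μ : ZMod p).val [MOD p] := by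
      intro hkm
      have h1 := (ZMod.natCast_eq_natCast_iff _ _ _).2 hkm
      rw [ZMod.natCast_zmod_val, ZMod.natCast_zmod_val] at h1
      apply hμ1
      have h2 : (μ : ZMod p) * (μ : ZMod p) = (μ : ZMod p) * 1 := by
        rw [mul_one, ← pow_two]; exact h1
      exact mul_left_cancel₀ μ.ne_zero h2
    exact hFrame.caseA (by omega) hrec htpE htp hτ hηA hηx' hrel hkm

theorem res_main [Finite S] (p : ℕ) [hp : Fact p.Prime] (hS : IsPGroup p S)
    (F : FusionSystem S) (hF : F.IsSaturated p) (hp5 : 5 ≤ p)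
    (hrank3 : ∀ E : Subgroup Ω, E ≤ S → IsElementaryAbelian p E → Nat.card E ≤ p ^ 2)
    (hnotE : ¬(Nat.card S = p ^ 3 ∧ Monoid.exponent ↥S = p)) : F.IsNormal S := by
  apply rs_normal_of_no_essential hS hF
  intro E hE
  obtain ⟨hES, hcen, hrec, hrad, hlt⟩ := ess_facts hS hF hE
  haveI : Finite E := finite_of_le hES
  have hEp : IsPGroup p ↥E := hS.to_le hES
  obtain ⟨n, hn⟩ := IsPGroup.iff_card.1 hEp
  have hrk : Cfsg.PRankLE p 2 ↥E := by
    intro A hA he
    exact rank_sub hrank3 hES A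
      (fun a ha b hb => congrArg Subtype.val (hA.is_comm.comm ⟨a, ha⟩ ⟨b, hb⟩)) he
  rcases blk_main (by omega : p ≠ 2) n hn hrk with hmc |
    ⟨hn3, x, y, z, hgen3, hx, hy, hz, hxz, hyz, hxy⟩ |
    ⟨hn4, s, x, y, z, -, hgen3, hx, hy, hz, hyz, hxy, hxz⟩ | ⟨hp3, -, -⟩
  · obtain ⟨D⟩ := MC.exists_of_metacyclic (by omega : p ≠ 2) hEp hmc
    by_cases hn0 : D.n = 0
    · have hcomm : ∀ a b : ↥E, a * b = b * a := D.comm_all_iff.2 hn0
      have hgen : Subgroup.closure ({D.a, D.b} : Set ↥E) = ⊤ := by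
        rw [eq_top_iff]
        intro g _
        obtain ⟨i, j, rfl⟩ := D.hgen g
        exact Subgroup.mul_mem _ (Subgroup.pow_mem _ (Subgroup.subset_closure (by simp)) i)
          (Subgroup.pow_mem _ (Subgroup.subset_closure (by simp)) j)
      have hfr : (frattini ↥E).index ≤ p ^ 2 := rs_frat_le hEp hgen
      rcases Cfsg.Agent.S5187.result p hS F hF E hE ⟨⟨hcomm⟩⟩ hfr with ⟨hEab, hEc⟩ | ⟨hp3, -⟩
      · exact caseI hS hp5 hrank3 hnotE hF hE hEab hEc
      · omega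
    · exact kill_meta hS hp5 hF hE D (by omega)
  · exact kill_C hS hp5 hrank3 hF hE hn3 hn hgen3 hx hy hz hxz hyz hxy
  · exact kill_G hS hp5 hrank3 hF hE hn4 hn hgen3 hx hz hxz
  · omega

end Main

end Cfsg.Agent.H15
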