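import Cfsg.Agent.H45.S8Defs0

set_option autoImplicit false

/-!
# S1158 (helper45), piece C21
-/

namespace Cfsg.Agent.H15.S8

open Cfsg.Agent.H45.S8

universe u v

theorem mem_liftSub {G : Type u} {L : Type v} [Group G] [Group L] (a : G)
    (Φ : ↥(Subgroup.centralizer ({a} : Set G)) ≃* Multiplicative (ZMod 2) × L)
    (D : Subgroup L) (x : G) :
    x ∈ liftSub a Φ D ↔ ∃ d ∈ D, x =
      ((Φ.symm ((1 : Multiplicative (ZMod 2)), d) : ↥(Subgroup.centralizer ({a} : Set G))) : G) := by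
  unfold liftSub
  rw [Subgroup.mem_map]
  constructor
  · rintro ⟨c, hc, rfl⟩
    rw [Subgroup.mem_comap, Subgroup.mem_map] at hc
    obtain ⟨d, hd, hdc⟩ := hc
    refine ⟨d, hd, ?_⟩
    have h1 : c = Φ.symm (1, d) := by
      rw [MulEquiv.eq_symm_apply]; exact hdc.symm
    rw [h1]; rfl
  · rintro ⟨d, hd, rfl⟩
    refine ⟨Φ.symm (1, d), ?_, rfl⟩
    rw [Subgroup.mem_comap, Subgroup.mem_map]
    exact ⟨d, hd, by simp⟩

theorem c21 : StC21.{u, v} := by
  intro G L _ _ _ _ a Φ D hD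
  obtain ⟨ψ, hψdef⟩ : ∃ ψ : L →* G, ψ = (Subgroup.centralizer ({a} : Set G)).subtype.comp
    (Φ.symm.toMonoidHom.comp (MonoidHom.inr (Multiplicative (ZMod 2)) L)) := ⟨_, rfl⟩
  have hψa : ∀ d : L, ψ d =
      ((Φ.symm ((1 : Multiplicative (ZMod 2)), d) : ↥(Subgroup.centralizer ({a} : Set G))) : G) := by
    intro d; rw [hψdef]; rfl
  have hψ : Function.Injective ψ := by
    intro x y hxy
    rw [hψa, hψa] at hxy
    have h1 : Φ.symm ((1 : Multiplicative (ZMod 2)), x) = Φ.symm (1, y) := Subtype.ext hxy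
    have h2 := Φ.symm.injective h1
    exact (Prod.mk.inj h2).2
  have heq : liftSub a Φ D = D.map ψ := by
    ext x
    rw [mem_liftSub, Subgroup.mem_map]
    constructor
    · rintro ⟨d, hd, rfl⟩; exact ⟨d, hd, hψa d⟩
    · rintro ⟨d, hd, rfl⟩; exact ⟨d, hd, hψa d⟩
  refine ⟨?_, ?_, ?_⟩
  · rw [heq]
    exact isCyclic_of_surjective (D.equivMapOfInjective ψ hψ).toMonoidHom
      (D.equivMapOfInjective ψ hψ).surjective
  · rw [heq]
    exact (Nat.card_congr (D.equivMapOfInjective ψ hψ).toEquiv).symm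
  · rw [Subgroup.mem_centralizer_iff]
    intro h hh
    rw [SetLike.mem_coe, mem_liftSub] at hh
    obtain ⟨d, hd, rfl⟩ := hh
    have h1 := (Φ.symm ((1 : Multiplicative (ZMod 2)), d)).2
    rw [Subgroup.mem_centralizer_iff] at h1
    exact (h1 a rfl).symm

example : Cfsg.Agent.H45.S8.StC21.{u, v} := c21

end Cfsg.Agent.H15.S8
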