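import Cfsg.Agent.H45.S8Defs0
import Cfsg.Agent.H15.S8C21

set_option autoImplicit false

/-!
# S1158 (helper45), piece C22
-/

namespace Cfsg.Agent.H15.S8

open Cfsg.Agent.H45.S8

universe u v

theorem liftSub_conj {G : Type u} {L : Type v} [Group G] [Group L] (a : G)
    (Φ : ↥(Subgroup.centralizer ({a} : Set G)) ≃* Multiplicative (ZMod 2) × L)
    (c : ↥(Subgroup.centralizer ({a} : Set G))) (d : L) :
    (c : G) * (Φ.symm ((1 : Multiplicative (ZMod 2)), d) :
        ↥(Subgroup.centralizer ({a} : Set G))) * (c : G)⁻¹ =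
      (Φ.symm ((1 : Multiplicative (ZMod 2)), (Φ c).2 * d * ((Φ c).2)⁻¹) :
        ↥(Subgroup.centralizer ({a} : Set G))) := by
  have h1 : c * Φ.symm (1, d) * c⁻¹ = Φ.symm (1, (Φ c).2 * d * ((Φ c).2)⁻¹) := by
    apply Φ.injective
    rw [map_mul, map_mul, map_inv, MulEquiv.apply_symm_apply, MulEquiv.apply_symm_apply]
    ext
    · simp
    · simp
  have h2 := congrArg Subtype.val h1
  simpa using h2

theorem liftSub_norm {G : Type u} {L : Type v} [Group G] [Group L] [Finite G] [Finite L] (a : G)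
    (Φ : ↥(Subgroup.centralizer ({a} : Set G)) ≃* Multiplicative (ZMod 2) × L)
    (D : Subgroup L) (c : ↥(Subgroup.centralizer ({a} : Set G))) :
    (c : G) ∈ Subgroup.normalizer ((liftSub a Φ D : Subgroup G) : Set G) ↔
      (Φ c).2 ∈ Subgroup.normalizer (D : Set L) := by
  constructor
  · intro hc
    apply Subgroup.mem_normalizer_fintype
    intro d hd
    have h1 : ((Φ.symm ((1 : Multiplicative (ZMod 2)), d) :
        ↥(Subgroup.centralizer ({a} : Set G))) : G) ∈ liftSub a Φ D :=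
      (mem_liftSub a Φ D _).mpr ⟨d, hd, rfl⟩
    have h2 := (Subgroup.mem_normalizer_iff.mp hc _).mp h1
    rw [liftSub_conj, mem_liftSub] at h2
    obtain ⟨d', hd', h3⟩ := h2
    have h4 := Φ.symm.injective (Subtype.ext h3)
    rw [SetLike.mem_coe, (Prod.mk.inj h4).2]; exact hd'
  · intro hl
    apply Subgroup.mem_normalizer_fintype
    intro x hx
    obtain ⟨d, hd, rfl⟩ := (mem_liftSub a Φ D x).mp hx
    rw [liftSub_conj, SetLike.mem_coe, mem_liftSub]
    exact ⟨_, (Subgroup.mem_normalizer_iff.mp hl d).mp hd, rfl⟩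

theorem c22 : StC22.{u, v} := by
  intro G L _ _ _ _ a Φ D
  have hmem2 : ∀ x : ↥(Subgroup.normalizer ((liftSub a Φ D : Subgroup G) : Set G) ⊓
      Subgroup.centralizer ({a} : Set G)), (x : G) ∈ Subgroup.centralizer ({a} : Set G) :=
    fun x => (Subgroup.mem_inf.mp x.2).2
  have hmem1 : ∀ x : ↥(Subgroup.normalizer ((liftSub a Φ D : Subgroup G) : Set G) ⊓
      Subgroup.centralizer ({a} : Set G)),
      (x : G) ∈ Subgroup.normalizer ((liftSub a Φ D : Subgroup G) : Set G) :=
    fun x => (Subgroup.mem_inf.mp x.2).1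
  obtain ⟨f, hf⟩ : ∃ f : ↥(Subgroup.normalizer ((liftSub a Φ D : Subgroup G) : Set G) ⊓
      Subgroup.centralizer ({a} : Set G)) →
      Multiplicative (ZMod 2) × ↥(Subgroup.normalizer (D : Set L)),
      ∀ x, f x = ((Φ ⟨x.1, hmem2 x⟩).1, ⟨(Φ ⟨x.1, hmem2 x⟩).2,
        (liftSub_norm a Φ D ⟨x.1, hmem2 x⟩).mp (hmem1 x)⟩) := ⟨_, fun _ => rfl⟩
  have hbij : Function.Bijective f := by
    constructor
    · intro x y hxy
      rw [hf, hf] at hxy
      have h1 : Φ ⟨x.1, hmem2 x⟩ = Φ ⟨y.1, hmem2 y⟩ := by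
        have ha := congrArg Prod.fst hxy
        have hb := congrArg (fun t => (t.2 : L)) hxy
        exact Prod.ext ha hb
      have h2 := Φ.injective h1
      have h3 : (x : G) = (y : G) :=
        congrArg (fun t : ↥(Subgroup.centralizer ({a} : Set G)) => (t : G)) h2
      exact Subtype.ext h3
    · rintro ⟨ε, ⟨l, hl⟩⟩
      have hmem : ((Φ.symm (ε, l) : ↥(Subgroup.centralizer ({a} : Set G))) : G) ∈
          Subgroup.normalizer ((liftSub a Φ D : Subgroup G) : Set G) ⊓
            Subgroup.centralizer ({a} : Set G) := by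
        refine Subgroup.mem_inf.mpr ⟨?_, (Φ.symm (ε, l)).2⟩
        rw [liftSub_norm, MulEquiv.apply_symm_apply]; exact hl
      refine ⟨⟨_, hmem⟩, ?_⟩
      rw [hf]
      have h3 : Φ (Φ.symm (ε, l)) = (ε, l) := MulEquiv.apply_symm_apply _ _
      have h4 : (Φ (Φ.symm (ε, l))).1 = ε := congrArg Prod.fst h3
      have h5 : (Φ (Φ.symm (ε, l))).2 = l := congrArg Prod.snd h3
      apply Prod.ext
      · exact h4
      · exact Subtype.ext h5
  rw [Nat.card_congr (Equiv.ofBijective f hbij), Nat.card_prod]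
  congr 1
  rw [Nat.card_eq_fintype_card, Fintype.card_multiplicative, ZMod.card]

example : Cfsg.Agent.H45.S8.StC22.{u, v} := c22

end Cfsg.Agent.H15.S8
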