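import Cfsg.Agent.H45.S8Defs0
import Cfsg.Agent.H15.S8C21

set_option autoImplicit false

/-!
# S1158 (helper45), piece C23
-/

namespace Cfsg.Agent.H15.S8

open Cfsg.Agent.H45.S8

universe u v

theorem zmod2_sq : ∀ ε : Multiplicative (ZMod 2), ε * ε = 1 := by decide

theorem zmod2_odd_pow (ε : Multiplicative (ZMod 2)) (k : ℕ) (hk : Odd k) (h : ε ^ k = 1) :
    ε = 1 := by
  obtain ⟨j, rfl⟩ := hk
  have h2 : ε ^ (2 * j + 1) = ε := by
    rw [pow_succ, pow_mul, pow_two, zmod2_sq, one_pow, one_mul]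
  rw [h2] at h
  exact h

theorem c23 : StC23.{u, v} := by
  intro G L _ _ _ _ a Φ D k hk hD hDk ha1 haa hconjD hinv z hz1 hzz hzc
  obtain ⟨g, hg⟩ := hinv z hz1 hzz
  obtain ⟨ψ, hψdef⟩ : ∃ ψ : L →* G, ψ = (Subgroup.centralizer ({a} : Set G)).subtype.comp
    (Φ.symm.toMonoidHom.comp (MonoidHom.inr (Multiplicative (ZMod 2)) L)) := ⟨_, rfl⟩
  have hψa : ∀ d : L, ψ d =
      ((Φ.symm ((1 : Multiplicative (ZMod 2)), d) : ↥(Subgroup.centralizer ({a} : Set G))) : G) := by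
    intro d; rw [hψdef]; rfl
  have hψ : Function.Injective ψ := by
    intro x y hxy
    rw [hψa, hψa] at hxy
    have h1 : Φ.symm ((1 : Multiplicative (ZMod 2)), x) = Φ.symm (1, y) := Subtype.ext hxy
    have h2 := Φ.symm.injective h1
    exact (Prod.mk.inj h2).2
  have hψC : ∀ d : L, ψ d ∈ Subgroup.centralizer ({a} : Set G) := by
    intro d; rw [hψa]; exact (Φ.symm ((1 : Multiplicative (ZMod 2)), d)).2
  have hψmem : ∀ x : G, x ∈ liftSub a Φ D ↔ ∃ d ∈ D, x = ψ d := by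
    intro x
    rw [mem_liftSub]
    constructor
    · rintro ⟨d, hd, rfl⟩; exact ⟨d, hd, (hψa d).symm⟩
    · rintro ⟨d, hd, rfl⟩; exact ⟨d, hd, hψa d⟩
  have hcent : ∀ d : ↥D, g⁻¹ * ψ (d : L) * g ∈ Subgroup.centralizer ({a} : Set G) := by
    intro d
    have h1 : ψ (d : L) ∈ liftSub a Φ D := (hψmem _).mpr ⟨d, d.2, rfl⟩
    have h2 := Subgroup.mem_centralizer_iff.mp hzc _ h1
    rw [Subgroup.mem_centralizer_iff]
    intro h hh
    rw [Set.mem_singleton_iff] at hh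
    subst hh
    rw [← hg] at h2
    calc h * (g⁻¹ * ψ (d : L) * g) = g⁻¹ * (g * h * g⁻¹ * ψ (d : L)) * g := by group
      _ = g⁻¹ * (ψ (d : L) * (g * h * g⁻¹)) * g := by rw [h2]
      _ = g⁻¹ * ψ (d : L) * g * h := by group
  obtain ⟨σ, hσ⟩ : ∃ σ : ↥D →* ↥(Subgroup.centralizer ({a} : Set G)),
      ∀ d : ↥D, ((σ d : ↥(Subgroup.centralizer ({a} : Set G))) : G) = g⁻¹ * ψ (d : L) * g := by
    refine ⟨MonoidHom.mk' (fun d => ⟨g⁻¹ * ψ (d : L) * g, hcent d⟩) ?_, fun d => rfl⟩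
    intro d d'
    apply Subtype.ext
    show g⁻¹ * ψ ((d * d' : ↥D) : L) * g = (g⁻¹ * ψ (d : L) * g) * (g⁻¹ * ψ (d' : L) * g)
    rw [Subgroup.coe_mul, map_mul]; group
  have hσinj : Function.Injective σ := by
    intro d d' hdd
    have h1 := congrArg (fun t : ↥(Subgroup.centralizer ({a} : Set G)) => (t : G)) hdd
    simp only [hσ] at h1
    have h2 : ψ (d : L) = ψ (d' : L) := by
      have h3 : ψ (d : L) = g * (g⁻¹ * ψ (d : L) * g) * g⁻¹ := by group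
      rw [h3, h1]; group
    exact Subtype.ext (hψ h2)
  have hfst : ∀ d : ↥D, (Φ (σ d)).1 = 1 := by
    intro d
    apply zmod2_odd_pow _ k hk
    have h1 : d ^ k = 1 := by rw [← hDk]; exact pow_card_eq_one'
    have h2 : (Φ (σ d)) ^ k = 1 := by rw [← map_pow, ← map_pow, h1, map_one, map_one]
    have h3 := congrArg Prod.fst h2
    simpa using h3
  obtain ⟨τ, hτ⟩ : ∃ τ : ↥D →* L, ∀ d : ↥D, τ d = (Φ (σ d)).2 :=
    ⟨(MonoidHom.snd _ _).comp (Φ.toMonoidHom.comp σ), fun d => rfl⟩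
  have hy : ∀ d : ↥D, Φ (σ d) = (1, τ d) := by
    intro d
    exact Prod.ext (hfst d) (hτ d).symm
  have hτinj : Function.Injective τ := by
    intro d d' hdd
    apply hσinj
    apply Φ.injective
    rw [hy, hy, hdd]
  have hcyc : IsCyclic ↥τ.range :=
    isCyclic_of_surjective τ.rangeRestrict τ.rangeRestrict_surjective
  have hcard : Nat.card ↥τ.range = k := by
    rw [← hDk]
    exact (Nat.card_congr (MonoidHom.ofInjective hτinj).toEquiv).symm
  obtain ⟨c, hc⟩ := hconjD τ.range hcyc hcard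
  refine ⟨g * ψ c, ?_, ?_⟩
  · apply Subgroup.mem_normalizer_fintype
    intro x hx
    obtain ⟨d, hd, rfl⟩ := (hψmem x).mp hx
    have h1 : c * d * c⁻¹ ∈ τ.range := by
      rw [hc]; exact ⟨d, hd, rfl⟩
    obtain ⟨d₂, hd₂⟩ := h1
    have h2 : ψ (τ d₂) = g⁻¹ * ψ (d₂ : L) * g := by
      rw [hψa, ← hy, MulEquiv.symm_apply_apply, hσ]
    have h3 : g * ψ c * ψ d * (g * ψ c)⁻¹ = ψ (d₂ : L) := by
      have h4 : g * ψ c * ψ d * (g * ψ c)⁻¹ = g * ψ (c * d * c⁻¹) * g⁻¹ := by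
        rw [map_mul, map_mul, map_inv]; group
      rw [h4, ← hd₂, h2]; group
    rw [h3]
    exact (hψmem _).mpr ⟨d₂, d₂.2, rfl⟩
  · have h1 := hψC c
    rw [Subgroup.mem_centralizer_iff] at h1
    have h2 : a * ψ c = ψ c * a := h1 a rfl
    have h3 : g * ψ c * a * (g * ψ c)⁻¹ = g * (ψ c * a) * (ψ c)⁻¹ * g⁻¹ := by group
    rw [h3, ← h2, ← hg]; group

example : Cfsg.Agent.H45.S8.StC23.{u, v} := c23

end Cfsg.Agent.H15.S8
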