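import Cfsg.Agent.H45.S8Defs0

set_option autoImplicit false

/-!
# S1158 (helper45), piece C24
-/

namespace Cfsg.Agent.H15.S8

open Cfsg.Agent.H45.S8

universe u

/-- an abelian group of order `4k`, `k` odd, without elements of order 4 has exactly three
involutions -/
theorem three_invs {G : Type u} [Group G] [Finite G] (Cn : Subgroup G) (k : ℕ) (hk : Odd k)
    (hab : ∀ x ∈ Cn, ∀ y ∈ Cn, x * y = y * x) (hcard : Nat.card ↥Cn = 4 * k)
    (hno4 : ∀ x ∈ Cn, orderOf x ≠ 4) (I : Set G)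
    (hImem : ∀ z : G, z ∈ I ↔ z ≠ 1 ∧ z * z = 1 ∧ z ∈ Cn) : Nat.card ↥I = 3 := by
  classical
  let T : Subgroup G :=
    { carrier := {x | x ∈ Cn ∧ x * x = 1}
      one_mem' := ⟨Cn.one_mem, by simp⟩
      mul_mem' := by
        rintro x y ⟨hx, hx2⟩ ⟨hy, hy2⟩
        refine ⟨Cn.mul_mem hx hy, ?_⟩
        have h1 := hab x hx y hy
        calc x * y * (x * y) = x * (y * x) * y := by group
          _ = x * (x * y) * y := by rw [h1]
          _ = (x * x) * (y * y) := by group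
          _ = 1 := by rw [hx2, hy2, one_mul]
      inv_mem' := by
        rintro x ⟨hx, hx2⟩
        refine ⟨Cn.inv_mem hx, ?_⟩
        have h1 : x⁻¹ * x⁻¹ = (x * x)⁻¹ := by group
        rw [h1, hx2, inv_one] }
  have hTmem : ∀ x, x ∈ T ↔ x ∈ Cn ∧ x * x = 1 := fun x => Iff.rfl
  have hTC : T ≤ Cn := fun x hx => ((hTmem x).mp hx).1
  have hT2 : IsPGroup 2 ↥T := by
    rintro ⟨x, hx⟩
    refine ⟨1, Subtype.ext ?_⟩
    rw [pow_one, Subgroup.coe_pow, Subgroup.coe_one, pow_two]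
    exact ((hTmem x).mp hx).2
  obtain ⟨j, hj⟩ := IsPGroup.iff_card.mp hT2
  have hdvd : Nat.card ↥T ∣ 4 * k := by rw [← hcard]; exact Subgroup.card_dvd_of_le hTC
  have h2F : Fact (Nat.Prime 2) := ⟨Nat.prime_two⟩
  obtain ⟨P, hP⟩ := Sylow.exists_subgroup_card_pow_prime (G := ↥Cn) 2 (n := 2)
    (by rw [hcard]; exact ⟨k, by ring⟩)
  have hPT : P.map Cn.subtype ≤ T := by
    rintro x ⟨y, hy, rfl⟩
    refine (hTmem _).mpr ⟨y.2, ?_⟩
    have h4 : (⟨y, hy⟩ : ↥P) ^ 4 = 1 := by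
      have h5 := pow_card_eq_one' (G := ↥P) (x := ⟨y, hy⟩)
      rw [hP] at h5; exact h5
    have h4' : (y : G) ^ 4 = 1 := by
      have h5 := congrArg (fun t : ↥P => ((t : ↥Cn) : G)) h4
      simpa using h5
    have ho : orderOf (y : G) ∣ 4 := orderOf_dvd_of_pow_eq_one h4'
    have hne := hno4 (y : G) y.2
    have hle : orderOf (y : G) ≤ 4 := Nat.le_of_dvd (by norm_num) ho
    have h2 : orderOf (y : G) ∣ 2 := by
      have h6 : orderOf (y : G) = 1 ∨ orderOf (y : G) = 2 := by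
        have h7 : orderOf (y : G) ≠ 3 := by
          intro h8; rw [h8] at ho; omega
        have h8 : orderOf (y : G) ≠ 0 := by
          intro h9; rw [h9] at ho; omega
        omega
      rcases h6 with h6 | h6 <;> rw [h6] <;> norm_num
    have h3 := orderOf_dvd_iff_pow_eq_one.mp h2
    rw [pow_two] at h3
    exact h3
  have h4dvd : 4 ∣ Nat.card ↥T := by
    have h1 := Subgroup.card_dvd_of_le hPT
    rw [Subgroup.card_map_of_injective (Subgroup.subtype_injective _), hP] at h1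
    exact h1
  have hj2 : j = 2 := by
    rw [hj] at hdvd h4dvd
    have hle : j ≤ 2 := by
      by_contra hcon
      have h3 : 2 ^ 3 ∣ 2 ^ j := pow_dvd_pow 2 (by omega)
      have h4 : 2 ^ 3 ∣ 4 * k := h3.trans hdvd
      obtain ⟨i, rfl⟩ := hk
      omega
    interval_cases j
    · omega
    · omega
    · rfl
  have hT4 : Nat.card ↥T = 4 := by rw [hj, hj2]; norm_num
  have hset : (T : Set G) = insert 1 I := by
    ext x
    rw [Set.mem_insert_iff, SetLike.mem_coe, hTmem, hImem]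
    constructor
    · rintro ⟨h1, h2⟩
      by_cases hx : x = 1
      · left; exact hx
      · right; exact ⟨hx, h2, h1⟩
    · rintro (h | ⟨-, h2, h1⟩)
      · rw [h]; exact ⟨Cn.one_mem, by simp⟩
      · exact ⟨h1, h2⟩
  have h1I : (1 : G) ∉ I := by
    intro h
    exact ((hImem 1).mp h).1 rfl
  have hcT : Nat.card ↥T = (T : Set G).ncard := Nat.card_coe_set_eq (T : Set G)
  rw [hset, Set.ncard_insert_of_notMem h1I (Set.toFinite I), hT4] at hcT
  rw [Nat.card_coe_set_eq]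
  omega

theorem c24 : StC24.{u} := by
  intro G _ _ A a k hk ha1 haa haC hab hcard hno4 htrans
  classical
  obtain ⟨Cn, hCn⟩ : ∃ Cn : Subgroup G, Cn = Subgroup.centralizer (A : Set G) := ⟨_, rfl⟩
  rw [← hCn] at haC hab hcard hno4 htrans
  obtain ⟨N, hN⟩ : ∃ N : Subgroup G, N = Subgroup.normalizer (A : Set G) := ⟨_, rfl⟩
  rw [← hN] at htrans ⊢
  obtain ⟨I, hI⟩ : ∃ I : Set G, I = {z : G | z ≠ 1 ∧ z * z = 1 ∧ z ∈ Cn} := ⟨_, rfl⟩
  have hImem : ∀ z : G, z ∈ I ↔ z ≠ 1 ∧ z * z = 1 ∧ z ∈ Cn := by intro z; rw [hI]; rfl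
  have hNC : ∀ n ∈ N, ∀ c ∈ Cn, n * c * n⁻¹ ∈ Cn := by
    intro n hn c hc
    rw [hCn, Subgroup.mem_centralizer_iff] at hc ⊢
    intro x hx
    have h1 : n⁻¹ * x * n ∈ A := by
      rw [hN] at hn
      exact (Subgroup.mem_normalizer_iff''.mp hn x).mp hx
    have h2 := hc _ h1
    calc x * (n * c * n⁻¹) = n * ((n⁻¹ * x * n) * c) * n⁻¹ := by group
      _ = n * (c * (n⁻¹ * x * n)) * n⁻¹ := by rw [h2]
      _ = n * c * n⁻¹ * x := by group
  have hex : ∀ z : ↥I, ∃ n : G, n ∈ N ∧ n * a * n⁻¹ = (z : G) := by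
    intro z
    obtain ⟨h1, h2, h3⟩ := (hImem z.1).mp z.2
    exact htrans z.1 h1 h2 h3
  choose nz hnz using hex
  have hzmem : ∀ n : ↥N, (n : G) * a * (n : G)⁻¹ ∈ I := by
    intro n
    rw [hImem]
    refine ⟨?_, ?_, hNC n n.2 a haC⟩
    · intro h
      apply ha1
      have h1 : a = (n : G)⁻¹ * ((n : G) * a * (n : G)⁻¹) * n := by group
      rw [h1, h]; group
    · have h1 : (n : G) * a * (n : G)⁻¹ * ((n : G) * a * (n : G)⁻¹) =
          (n : G) * (a * a) * (n : G)⁻¹ := by group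
      rw [h1, haa]; group
  have hsmem : ∀ n : ↥N, (nz ⟨_, hzmem n⟩)⁻¹ * (n : G) ∈
      N ⊓ Subgroup.centralizer ({a} : Set G) := by
    intro n
    obtain ⟨h1, h2⟩ := hnz ⟨_, hzmem n⟩
    refine Subgroup.mem_inf.mpr ⟨N.mul_mem (N.inv_mem h1) n.2, ?_⟩
    rw [Subgroup.mem_centralizer_iff]
    intro h hh
    rw [Set.mem_singleton_iff] at hh
    subst hh
    simp only at h2
    have h3 : h * ((nz ⟨_, hzmem n⟩)⁻¹ * (n : G)) =
        (nz ⟨_, hzmem n⟩)⁻¹ * (nz ⟨_, hzmem n⟩ * h * (nz ⟨_, hzmem n⟩)⁻¹) * n := by group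
    rw [h3, h2]; group
  obtain ⟨f, hf⟩ : ∃ f : ↥N → ↥I × ↥(N ⊓ Subgroup.centralizer ({a} : Set G)),
      ∀ n, f n = (⟨_, hzmem n⟩, ⟨_, hsmem n⟩) := ⟨_, fun _ => rfl⟩
  have hbij : Function.Bijective f := by
    constructor
    · intro n n' hnn
      rw [hf, hf] at hnn
      have h1 : (⟨_, hzmem n⟩ : ↥I) = ⟨_, hzmem n'⟩ := congrArg Prod.fst hnn
      have h2 : (nz ⟨_, hzmem n⟩)⁻¹ * (n : G) = (nz ⟨_, hzmem n'⟩)⁻¹ * (n' : G) :=
        congrArg (fun t : ↥I × ↥(N ⊓ Subgroup.centralizer ({a} : Set G)) => (t.2 : G)) hnn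
      rw [h1] at h2
      exact Subtype.ext (mul_left_cancel h2)
    · rintro ⟨z, s⟩
      have hsN := (Subgroup.mem_inf.mp s.2).1
      have hsC := (Subgroup.mem_inf.mp s.2).2
      obtain ⟨h1, h2⟩ := hnz z
      have hn : nz z * (s : G) ∈ N := N.mul_mem h1 hsN
      have hz : (⟨_, hzmem ⟨_, hn⟩⟩ : ↥I) = z := by
        apply Subtype.ext
        show nz z * (s : G) * a * (nz z * (s : G))⁻¹ = z
        rw [Subgroup.mem_centralizer_iff] at hsC
        have h3 : a * (s : G) = s * a := hsC a rfl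
        rw [← h2]
        have h4 : nz z * (s : G) * a * (nz z * (s : G))⁻¹ =
            nz z * ((s : G) * a) * (s : G)⁻¹ * (nz z)⁻¹ := by group
        rw [h4, ← h3]; group
      refine ⟨⟨_, hn⟩, ?_⟩
      rw [hf]
      apply Prod.ext
      · exact hz
      · apply Subtype.ext
        show (nz ⟨_, hzmem ⟨_, hn⟩⟩)⁻¹ * (nz z * (s : G)) = s
        rw [hz]; group
  have hI3 : Nat.card ↥I = 3 := three_invs Cn k hk hab hcard hno4 I hImem
  rw [Nat.card_congr (Equiv.ofBijective f hbij), Nat.card_prod, hI3]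

example : Cfsg.Agent.H45.S8.StC24.{u} := c24

end Cfsg.Agent.H15.S8
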