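import Cfsg.Agent.H45.S8Defs0

set_option autoImplicit false

/-!
# S1158 (helper45), piece HCONJ
-/

namespace Cfsg.Agent.H15.S8

open Cfsg.Agent.H45.S8

open scoped Pointwise

universe u

/-- in a finite cyclic group, every `y` with `y ^ s = 1` is a power of any element of order `s` -/
theorem cyc_mem_zpowers {Q : Type*} [Group Q] [Finite Q] [IsCyclic Q] (s : ℕ) (x y : Q)
    (hs : 0 < s) (hx : orderOf x = s) (hy : y ^ s = 1) : y ∈ Subgroup.zpowers x := by
  classical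
  have hF : Fintype Q := Fintype.ofFinite Q
  have h1 : (Finset.univ.filter (fun a : Q => a ^ s = 1)).card ≤ s := by
    convert IsCyclic.card_pow_eq_one_le (α := Q) hs
  have h2 : (Subgroup.zpowers x : Set Q).toFinset ⊆ Finset.univ.filter (fun a : Q => a ^ s = 1) := by
    intro a ha
    rw [Set.mem_toFinset] at ha
    rw [Finset.mem_filter]
    refine ⟨Finset.mem_univ _, ?_⟩
    obtain ⟨i, rfl⟩ := Subgroup.mem_zpowers_iff.mp ha
    rw [← zpow_natCast, ← zpow_mul, mul_comm, zpow_mul, zpow_natCast, ← hx, pow_orderOf_eq_one,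
      one_zpow]
  have h3 : (Subgroup.zpowers x : Set Q).toFinset.card = s := by
    rw [Set.toFinset_card, ← Nat.card_eq_fintype_card]
    exact (Nat.card_zpowers x).trans hx
  have h4 := Finset.eq_of_subset_of_card_le h2 (by rw [h3]; exact h1)
  have h5 : y ∈ Finset.univ.filter (fun a : Q => a ^ s = 1) := by
    rw [Finset.mem_filter]; exact ⟨Finset.mem_univ _, hy⟩
  rw [← h4, Set.mem_toFinset] at h5
  exact h5

theorem hConj : StHConj.{u} := by
  intro G _ _ m hm hG hSplit hSyl Hd hHdc hHdcard z g hzp hzd hgz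
  classical
  obtain ⟨q, hq⟩ : ∃ q : ℕ, q = qq m := ⟨_, rfl⟩
  rw [← hq] at hHdcard hzd
  have hqodd : q % 2 = 1 := by
    rw [hq]; unfold qq; rw [Nat.pow_mod]; norm_num
  have hq3 : 3 ≤ q := by
    rw [hq]; unfold qq
    calc 3 = 3 ^ 1 := by norm_num
      _ ≤ 3 ^ (2 * m + 1) := Nat.pow_le_pow_right (by norm_num) (by omega)
  obtain ⟨w, hw⟩ := IsCyclic.exists_generator (α := ↥Hd)
  have hwo : orderOf (w : G) = q - 1 := by
    rw [Subgroup.orderOf_coe, orderOf_eq_card_of_forall_mem_zpowers hw, hHdcard]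
  have hHdpow : ∀ x ∈ Hd, ∃ i : ℤ, (w : G) ^ i = x := by
    intro x hx
    obtain ⟨i, hi⟩ := Subgroup.mem_zpowers_iff.mp (hw ⟨x, hx⟩)
    refine ⟨i, ?_⟩
    have h1 := congrArg (fun t : ↥Hd => (t : G)) hi
    simpa using h1
  obtain ⟨H, hH⟩ : ∃ H : Subgroup G, H = Subgroup.zpowers ((w : G) ^ 2) := ⟨_, rfl⟩
  have hHc : IsCyclic ↥H := by rw [hH]; infer_instance
  have hHcard : Nat.card ↥H = (q - 1) / 2 := by
    rw [hH, Nat.card_zpowers, orderOf_pow_of_dvd (by norm_num) (by rw [hwo]; omega), hwo]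
  have hHHd : H ≤ Hd := by
    rw [hH, Subgroup.zpowers_le]; exact Hd.pow_mem w.2 2
  obtain ⟨hCc, hCcard, hCA⟩ := hSplit H hHc (by rw [hHcard, hq])
  have hHdC : Hd ≤ Subgroup.centralizer (H : Set G) := by
    intro x hx
    rw [Subgroup.mem_centralizer_iff]
    intro h hh
    obtain ⟨i, rfl⟩ := hHdpow x hx
    rw [SetLike.mem_coe, hH] at hh
    obtain ⟨j, rfl⟩ := Subgroup.mem_zpowers_iff.mp hh
    exact ((((Commute.refl (w : G)).pow_left 2).zpow_left j).zpow_right i).eq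
  have hHdeq : Hd = Subgroup.centralizer (H : Set G) :=
    Subgroup.eq_of_le_of_card_ge hHdC (by rw [hCcard, hHdcard, hq])
  obtain ⟨s, hs⟩ : ∃ s : ℕ, s = orderOf z := ⟨_, rfl⟩
  rw [← hs] at hzp hzd
  have hsF : Fact s.Prime := ⟨hzp⟩
  obtain ⟨z₀, hz₀⟩ := exists_prime_orderOf_dvd_card' (G := ↥H) s (by rw [hHcard]; exact hzd)
  have hz₀o : orderOf (z₀ : G) = s := by rw [Subgroup.orderOf_coe]; exact hz₀
  have hpz : IsPGroup s ↥(Subgroup.zpowers z) :=
    IsPGroup.of_card (n := 1) (by rw [Nat.card_zpowers, ← hs, pow_one])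
  have hpz₀ : IsPGroup s ↥(Subgroup.zpowers (z₀ : G)) :=
    IsPGroup.of_card (n := 1) (by rw [Nat.card_zpowers, hz₀o, pow_one])
  obtain ⟨P, hP⟩ := hpz.exists_le_sylow
  obtain ⟨P₀, hP₀⟩ := hpz₀.exists_le_sylow
  obtain ⟨c, hc⟩ := MulAction.exists_smul_eq G P P₀
  have hczP₀ : c * z * c⁻¹ ∈ (P₀ : Subgroup G) := by
    rw [← hc, Sylow.coe_subgroup_smul]
    have h1 : MulAut.conj c • z ∈ MulAut.conj c • (P : Subgroup G) :=
      Subgroup.smul_mem_pointwise_smul _ _ _ (hP (Subgroup.mem_zpowers z))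
    simpa [MulAut.smul_def] using h1
  have hz₀P₀ : (z₀ : G) ∈ (P₀ : Subgroup G) := hP₀ (Subgroup.mem_zpowers _)
  have hP₀c : IsCyclic ↥(P₀ : Subgroup G) := hSyl s (by rw [← hq]; exact hzd) P₀
  have hmem : (⟨c * z * c⁻¹, hczP₀⟩ : ↥(P₀ : Subgroup G)) ∈
      Subgroup.zpowers (⟨(z₀ : G), hz₀P₀⟩ : ↥(P₀ : Subgroup G)) := by
    apply cyc_mem_zpowers s _ _ hzp.pos
    · rw [← Subgroup.orderOf_coe]; exact hz₀o
    · apply Subtype.ext
      rw [Subgroup.coe_pow, Subgroup.coe_one]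
      show (c * z * c⁻¹) ^ s = 1
      rw [conj_pow, hs, pow_orderOf_eq_one]; group
  obtain ⟨i, hi⟩ := Subgroup.mem_zpowers_iff.mp hmem
  have hi' : (z₀ : G) ^ i = c * z * c⁻¹ := by
    have h1 := congrArg (fun t : ↥(P₀ : Subgroup G) => (t : G)) hi
    simpa using h1
  have hczH : c * z * c⁻¹ ∈ H := by rw [← hi']; exact H.zpow_mem z₀.2 i
  have hcz1 : c * z * c⁻¹ ≠ 1 := by
    intro h
    have h1 : z = 1 := by
      have h2 : z = c⁻¹ * (c * z * c⁻¹) * c := by group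
      rw [h2, h]; group
    rw [h1, orderOf_one] at hs
    exact hzp.one_lt.ne' hs
  have hA : Subgroup.centralizer ((Subgroup.zpowers (c * z * c⁻¹) : Subgroup G) : Set G) =
      Hd := by
    rw [hHdeq]
    apply hCA
    · rw [Subgroup.zpowers_le]; exact hczH
    · intro hbot
      have h1 : c * z * c⁻¹ ∈ (⊥ : Subgroup G) := by rw [← hbot]; exact Subgroup.mem_zpowers _
      exact hcz1 (Subgroup.mem_bot.mp h1)
  refine ⟨c, ?_⟩
  rw [← hA, Subgroup.mem_centralizer_iff]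
  intro h hh
  obtain ⟨l, rfl⟩ := Subgroup.mem_zpowers_iff.mp hh
  have hcomm : Commute (c * z * c⁻¹) (c * g * c⁻¹) := by
    show c * z * c⁻¹ * (c * g * c⁻¹) = c * g * c⁻¹ * (c * z * c⁻¹)
    have h1 : c * z * c⁻¹ * (c * g * c⁻¹) = c * (z * g) * c⁻¹ := by group
    have h2 : c * g * c⁻¹ * (c * z * c⁻¹) = c * (g * z) * c⁻¹ := by group
    rw [h1, h2, hgz]
  exact (hcomm.zpow_left l).eq

example : Cfsg.Agent.H45.S8.StHConj.{u} := hConj

end Cfsg.Agent.H15.S8
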