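import Cfsg.Agent.H68.S9Defs

set_option autoImplicit false

/-!
# S1159 (helper68), piece EXHALF
-/

namespace Cfsg.Agent.H15.S9

open Cfsg.Agent.H45.S8 Cfsg.Agent.H68.S9

universe u

theorem exHalf : StExHalf.{u} := by
  intro G _ _ m hm hAr hQ A₁ hA₁c hA₁card
  obtain ⟨-, -, -, h4, hodd, -⟩ := hAr m hm
  obtain ⟨hab, hCcard, hno4, -⟩ := hQ A₁ hA₁c hA₁card
  obtain ⟨y, hy⟩ := IsCyclic.exists_generator (α := ↥A₁)
  have hyo : orderOf (y : G) = kk m := by
    rw [Subgroup.orderOf_coe, orderOf_eq_card_of_forall_mem_zpowers hy, hA₁card]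
  have h2F : Fact (Nat.Prime 2) := ⟨Nat.prime_two⟩
  have hdvd : 2 ∣ Nat.card ↥(Subgroup.centralizer (A₁ : Set G)) := by
    rw [hCcard, ← h4]; exact ⟨2 * kk m, by ring⟩
  obtain ⟨t, ht⟩ := exists_prime_orderOf_dvd_card' (G := ↥(Subgroup.centralizer (A₁ : Set G))) 2 hdvd
  have hto : orderOf (t : G) = 2 := by rw [Subgroup.orderOf_coe]; exact ht
  have hcomm : Commute (t : G) (y : G) := by
    have h1 := t.2
    rw [Subgroup.mem_centralizer_iff] at h1
    exact (h1 (y : G) y.2).symm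
  have hcop : (orderOf (t : G)).Coprime (orderOf (y : G)) := by
    rw [hto, hyo]
    exact Nat.coprime_two_left.mpr hodd
  refine ⟨(t : G) * (y : G), ?_⟩
  rw [hcomm.orderOf_mul_eq_mul_orderOf_of_coprime hcop, hto, hyo]
  omega

example : Cfsg.Agent.H68.S9.StExHalf.{u} := exHalf

end Cfsg.Agent.H15.S9
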