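import Cfsg.Agent.H68.S9Defs

set_option autoImplicit false

/-!
# S1159 (helper68), piece INV3
-/

namespace Cfsg.Agent.H15.S9

open Cfsg.Agent.H45.S8 Cfsg.Agent.H68.S9

universe u v

theorem z2_sq : ∀ ε : Multiplicative (ZMod 2), ε * ε = 1 := by decide

theorem z2_odd_pow (ε : Multiplicative (ZMod 2)) (k : ℕ) (hk : Odd k) (h : ε ^ k = 1) :
    ε = 1 := by
  obtain ⟨j, rfl⟩ := hk
  have h2 : ε ^ (2 * j + 1) = ε := by
    rw [pow_succ, pow_mul, pow_two, z2_sq, one_pow, one_mul]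
  rw [h2] at h
  exact h

theorem inv3 : StInv3.{u, v} := by
  intro G _ K _ _ a Φ hPsl hconj z w hz1 hzz hwz hw3
  obtain ⟨c, hc⟩ := hconj z hz1 hzz
  obtain ⟨j, hj⟩ := hw3
  have hmem : c⁻¹ * w * c ∈ Subgroup.centralizer ({a} : Set G) := by
    rw [Subgroup.mem_centralizer_iff]
    intro h hh
    rw [Set.mem_singleton_iff] at hh
    subst hh
    rw [← hc] at hwz
    calc h * (c⁻¹ * w * c) = c⁻¹ * (c * h * c⁻¹ * w) * c := by group
      _ = c⁻¹ * (w * (c * h * c⁻¹)) * c := by rw [hwz]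
      _ = c⁻¹ * w * c * h := by group
  have hpow : ∀ k : ℕ, (c⁻¹ * w * c) ^ k = c⁻¹ * w ^ k * c := by
    intro k
    induction k with
    | zero => simp
    | succ k ih => rw [pow_succ, ih, pow_succ]; group
  have h1 : (⟨c⁻¹ * w * c, hmem⟩ : ↥(Subgroup.centralizer ({a} : Set G))) ^ 3 ^ j = 1 := by
    apply Subtype.ext
    rw [Subgroup.coe_pow, Subgroup.coe_one]
    show (c⁻¹ * w * c) ^ 3 ^ j = 1
    rw [hpow, hj]; group
  have h2 : (Φ ⟨c⁻¹ * w * c, hmem⟩) ^ 3 ^ j = 1 := by rw [← map_pow, h1, map_one]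
  have h3 : (Φ ⟨c⁻¹ * w * c, hmem⟩).1 = 1 := by
    apply z2_odd_pow _ (3 ^ j) (Odd.pow (by decide))
    have h4 := congrArg Prod.fst h2
    simpa using h4
  have h5 : (Φ ⟨c⁻¹ * w * c, hmem⟩).2 ^ 3 = 1 := by
    apply hPsl K
    refine ⟨j, ?_⟩
    have h4 := congrArg Prod.snd h2
    simpa using h4
  have h6 : (Φ ⟨c⁻¹ * w * c, hmem⟩) ^ 3 = 1 := by
    apply Prod.ext
    · rw [Prod.pow_fst, h3, one_pow]; rfl
    · rw [Prod.pow_snd, h5]; rfl
  have h7 : (⟨c⁻¹ * w * c, hmem⟩ : ↥(Subgroup.centralizer ({a} : Set G))) ^ 3 = 1 := by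
    apply Φ.injective
    rw [map_pow, h6, map_one]
  have h8 : (c⁻¹ * w * c) ^ 3 = 1 := by
    have h9 := congrArg (fun t : ↥(Subgroup.centralizer ({a} : Set G)) => (t : G)) h7
    simpa using h9
  rw [hpow] at h8
  have h10 : w ^ 3 = c * (c⁻¹ * w ^ 3 * c) * c⁻¹ := by group
  rw [h10, h8]; group

example : Cfsg.Agent.H68.S9.StInv3.{u, v} := inv3

end Cfsg.Agent.H15.S9
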