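import Cfsg.Agent.H68.S9Defs

set_option autoImplicit false

/-!
# S1159 (helper68), piece INVFIX
-/

namespace Cfsg.Agent.H15.S9

open Cfsg.Agent.H45.S8 Cfsg.Agent.H68.S9

universe u v

theorem card_cent_conj {G : Type u} [Group G] (c a : G) :
    Nat.card ↥(Subgroup.centralizer ({c * a * c⁻¹} : Set G)) =
      Nat.card ↥(Subgroup.centralizer ({a} : Set G)) := by
  have hmem : ∀ g : G, g ∈ Subgroup.centralizer ({a} : Set G) →
      c * g * c⁻¹ ∈ Subgroup.centralizer ({c * a * c⁻¹} : Set G) := by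
    intro g hg
    rw [Subgroup.mem_centralizer_iff] at hg ⊢
    intro h hh
    rw [Set.mem_singleton_iff] at hh
    subst hh
    have h1 : a * g = g * a := hg a rfl
    calc c * a * c⁻¹ * (c * g * c⁻¹) = c * (a * g) * c⁻¹ := by group
      _ = c * (g * a) * c⁻¹ := by rw [h1]
      _ = c * g * c⁻¹ * (c * a * c⁻¹) := by group
  have hmem' : ∀ g : G, g ∈ Subgroup.centralizer ({c * a * c⁻¹} : Set G) →
      c⁻¹ * g * c ∈ Subgroup.centralizer ({a} : Set G) := by
    intro g hg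
    rw [Subgroup.mem_centralizer_iff] at hg ⊢
    intro h hh
    rw [Set.mem_singleton_iff] at hh
    subst hh
    have h1 : c * h * c⁻¹ * g = g * (c * h * c⁻¹) := hg _ rfl
    calc h * (c⁻¹ * g * c) = c⁻¹ * (c * h * c⁻¹ * g) * c := by group
      _ = c⁻¹ * (g * (c * h * c⁻¹)) * c := by rw [h1]
      _ = c⁻¹ * g * c * h := by group
  symm
  apply Nat.card_congr
  refine ⟨fun g => ⟨c * g.1 * c⁻¹, hmem g.1 g.2⟩, fun g => ⟨c⁻¹ * g.1 * c, hmem' g.1 g.2⟩, ?_, ?_⟩
  · intro g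
    apply Subtype.ext
    show c⁻¹ * (c * g.1 * c⁻¹) * c = g.1
    group
  · intro g
    apply Subtype.ext
    show c * (c⁻¹ * g.1 * c) * c⁻¹ = g.1
    group

theorem invFix : StInvFix.{u, v} := by
  intro G _ _ Ω _ a n N hfix hcard hconj z hz1 hzz
  obtain ⟨c, hc⟩ := hconj z hz1 hzz
  constructor
  · have hne : Nonempty ↥(MulAction.fixedBy Ω a) := by
      have h1 : 0 < Nat.card ↥(MulAction.fixedBy Ω a) := by rw [hfix]; omega
      exact (Nat.card_pos_iff.mp h1).1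
    obtain ⟨⟨x₀, hx₀⟩⟩ := hne
    rw [MulAction.mem_fixedBy] at hx₀
    refine ⟨c • x₀, ?_⟩
    rw [← hc, mul_smul, mul_smul, inv_smul_smul, hx₀]
  · rw [← hc, card_cent_conj, hcard]

example : Cfsg.Agent.H68.S9.StInvFix.{u, v} := invFix

end Cfsg.Agent.H15.S9
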