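import Mathlib
import Cfsg.Agent.H90.SgDefs

/-!
# SG-BOX (helper15, for helper90's EXIST-GEN project, S2949)

A 2-subgroup `J` of a group `H` generated by independent normal copies `E i` of `SL(2,2) ≅ S₃`.
For each `i`: `J` centralizes `E i`, or the subgroup `D` of order 3 of `E i` is normalized by `H`,
not centralized by `J`, and `E i` is generated by `D` and an involution centralizing `J`.

Every `g ∈ H` is `e * r` with `e ∈ E i` and `r` centralizing `E i`; for `g ∈ J` the component `e`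
has 2-power order (the centre of `E i` is trivial), so `e * e = 1`; the components of two elements
of `J` and of their product are involutions or trivial, so they commute.
-/

set_option autoImplicit false

namespace Cfsg.Agent.H15.Sg

open Cfsg.Agent.H90.Sg

universe u

/-- `SL(2,2) ≅ S₃` has trivial centre -/
theorem sl22_center15 : ∀ A : Matrix.SpecialLinearGroup (Fin 2) (ZMod 2),
    (∀ B : Matrix.SpecialLinearGroup (Fin 2) (ZMod 2), A * B = B * A) → A = 1 := by
  decide

/-- facts about `SL(2,2) ≅ S₃` -/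
theorem sl22_s3_15 : ∃ d0 : Matrix.SpecialLinearGroup (Fin 2) (ZMod 2), d0 ≠ 1 ∧
    d0 * d0 * d0 = 1 ∧
    (∀ A : Matrix.SpecialLinearGroup (Fin 2) (ZMod 2),
      A = 1 ∨ A = d0 ∨ A = d0 * d0 ∨ (A * A = 1 ∧ A * d0 ≠ d0 * A)) ∧
    (∀ A : Matrix.SpecialLinearGroup (Fin 2) (ZMod 2),
      A * A * A = 1 → A = 1 ∨ A = d0 ∨ A = d0 * d0) ∧
    (∀ A B : Matrix.SpecialLinearGroup (Fin 2) (ZMod 2), A * d0 ≠ d0 * A → B * d0 ≠ d0 * B →
      (A * B) * (A * B) * (A * B) = 1) := by
  decide

/-- **SG-BOX**. -/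
theorem box : StBox.{u} := by
  intro X _ _ ι E H J hnorm hiso hind hsup hJH hJ2 i
  classical
  have hEH : ∀ i, E i ≤ H := fun i => hsup ▸ le_iSup E i
  have hconj : ∀ i, ∀ h ∈ H, ∀ e ∈ E i, h * e * h⁻¹ ∈ E i := by
    intro i h hh e he
    exact (Subgroup.mem_normalizer_iff.mp (hnorm i hh) e).mp he
  have hcomm : ∀ i j, i ≠ j → ∀ a ∈ E i, ∀ b ∈ E j, a * b = b * a := by
    intro i j hij a ha b hb
    have hd : Disjoint (E i) (E j) := hind.pairwiseDisjoint hij
    have h1 : a * b * a⁻¹ * b⁻¹ ∈ E i := by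
      have h0 := hconj i b (hEH j hb) a⁻¹ ((E i).inv_mem ha)
      have e : a * b * a⁻¹ * b⁻¹ = a * (b * a⁻¹ * b⁻¹) := by group
      rw [e]
      exact (E i).mul_mem ha h0
    have h2 : a * b * a⁻¹ * b⁻¹ ∈ E j := by
      have h0 := hconj j a (hEH i ha) b hb
      exact (E j).mul_mem h0 ((E j).inv_mem hb)
    have h3 := Subgroup.disjoint_def.mp hd h1 h2
    have e : a * b = (a * b * a⁻¹ * b⁻¹) * (b * a) := by group
    rw [e, h3, one_mul]
  obtain ⟨φ⟩ := hiso i
  obtain ⟨d0, hd0ne, hd03, hcases, hcube, hprod0⟩ := sl22_s3_15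
  have hcenter := sl22_center15
  have tr : ∀ a b : ↥(E i), φ a = φ b → (a : X) = b :=
    fun a b h => congrArg Subtype.val (φ.injective h)
  obtain ⟨dd, hdd⟩ : ∃ dd : ↥(E i), φ dd = d0 := ⟨φ.symm d0, φ.apply_symm_apply d0⟩
  have hd_ne : (dd : X) ≠ 1 := by
    intro h
    apply hd0ne
    have h1 : dd = 1 := Subtype.ext h
    rw [← hdd, h1, map_one]
  have hd3 : (dd : X) * dd * dd = 1 :=
    tr (dd * dd * dd) 1 (by rw [map_mul, map_mul, map_one, hdd]; exact hd03)
  have hcasesE : ∀ y ∈ E i, y = 1 ∨ y = dd ∨ y = (dd : X) * dd ∨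
      (y * y = 1 ∧ y * dd ≠ dd * y) := by
    intro y hy
    rcases hcases (φ ⟨y, hy⟩) with h | h | h | ⟨h1, h2⟩
    · left
      exact tr ⟨y, hy⟩ 1 (by rw [map_one]; exact h)
    · right; left
      exact tr ⟨y, hy⟩ dd (by rw [hdd]; exact h)
    · right; right; left
      exact tr ⟨y, hy⟩ (dd * dd) (by rw [map_mul, hdd]; exact h)
    · right; right; right
      refine ⟨tr (⟨y, hy⟩ * ⟨y, hy⟩) 1 (by rw [map_mul, map_one]; exact h1), ?_⟩
      intro h
      apply h2
      have h0 : (⟨y, hy⟩ : ↥(E i)) * dd = dd * ⟨y, hy⟩ := Subtype.ext h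
      have h3 := congrArg φ h0
      rw [map_mul, map_mul, hdd] at h3
      exact h3
  have hcubeE : ∀ y ∈ E i, y * y * y = 1 → y = 1 ∨ y = dd ∨ y = (dd : X) * dd := by
    intro y hy h3
    have h4 : φ ⟨y, hy⟩ * φ ⟨y, hy⟩ * φ ⟨y, hy⟩ = 1 := by
      have h0 : (⟨y, hy⟩ : ↥(E i)) * ⟨y, hy⟩ * ⟨y, hy⟩ = 1 := Subtype.ext h3
      have h5 := congrArg φ h0
      rw [map_mul, map_mul, map_one] at h5
      exact h5
    rcases hcube (φ ⟨y, hy⟩) h4 with h | h | h
    · left
      exact tr ⟨y, hy⟩ 1 (by rw [map_one]; exact h)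
    · right; left
      exact tr ⟨y, hy⟩ dd (by rw [hdd]; exact h)
    · right; right
      exact tr ⟨y, hy⟩ (dd * dd) (by rw [map_mul, hdd]; exact h)
  have hcenterE : ∀ c ∈ E i, (∀ y ∈ E i, c * y = y * c) → c = 1 := by
    intro c hc hcy
    refine tr ⟨c, hc⟩ 1 ?_
    rw [map_one]
    apply hcenter
    intro B
    have h0 : (⟨c, hc⟩ : ↥(E i)) * φ.symm B = φ.symm B * ⟨c, hc⟩ :=
      Subtype.ext (hcy _ (φ.symm B).2)
    have h3 := congrArg φ h0
    rw [map_mul, map_mul, φ.apply_symm_apply] at h3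
    exact h3
  have hprodE : ∀ a ∈ E i, ∀ b ∈ E i, a * (dd : X) ≠ dd * a → b * (dd : X) ≠ dd * b →
      (a * b) * (a * b) * (a * b) = 1 := by
    intro a ha b hb hna hnb
    refine tr ((⟨a, ha⟩ * ⟨b, hb⟩) * (⟨a, ha⟩ * ⟨b, hb⟩) * (⟨a, ha⟩ * ⟨b, hb⟩)) 1 ?_
    simp only [map_mul, map_one]
    refine hprod0 (φ ⟨a, ha⟩) (φ ⟨b, hb⟩) ?_ ?_
    · intro h
      exact hna (tr (⟨a, ha⟩ * dd) (dd * ⟨a, ha⟩) (by rw [map_mul, map_mul, hdd]; exact h))
    · intro h
      exact hnb (tr (⟨b, hb⟩ * dd) (dd * ⟨b, hb⟩) (by rw [map_mul, map_mul, hdd]; exact h))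
  -- the subgroup of order 3
  obtain ⟨D, hDdef⟩ : ∃ D : Subgroup X, D = Subgroup.zpowers (dd : X) := ⟨_, rfl⟩
  have hddD : (dd : X) ∈ D := by
    rw [hDdef]
    exact Subgroup.mem_zpowers _
  have hDle : D ≤ E i := by
    rw [hDdef, Subgroup.zpowers_le]
    exact dd.2
  have _i3 : Fact (Nat.Prime 3) := ⟨Nat.prime_three⟩
  have hord : orderOf (dd : X) = 3 :=
    orderOf_eq_prime (by rw [pow_three']; exact hd3) hd_ne
  have hDcard : Nat.card ↥D = 3 := by
    rw [hDdef, Nat.card_zpowers, hord]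
  have hDmem : ∀ y, y ∈ D ↔ (y ∈ E i ∧ y * y * y = 1) := by
    intro y
    constructor
    · intro hy
      refine ⟨hDle hy, ?_⟩
      rw [hDdef] at hy
      obtain ⟨n, rfl⟩ := Subgroup.mem_zpowers_iff.mp hy
      rw [← pow_three', ← zpow_natCast, ← zpow_mul, mul_comm, zpow_mul, zpow_natCast, pow_three',
        hd3, one_zpow]
    · rintro ⟨hy, h3⟩
      rcases hcubeE y hy h3 with h | h | h
      · rw [h]
        exact D.one_mem
      · rw [h]
        exact hddD
      · rw [h]
        exact D.mul_mem hddD hddD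
  have hDnorm : H ≤ Subgroup.normalizer (D : Set X) := by
    intro h hh
    rw [Subgroup.mem_normalizer_iff]
    have key : ∀ g ∈ H, ∀ y ∈ D, g * y * g⁻¹ ∈ D := by
      intro g hg y hy
      rw [hDmem] at hy ⊢
      refine ⟨hconj i g hg y hy.1, ?_⟩
      have e1 : g * y * g⁻¹ * (g * y * g⁻¹) * (g * y * g⁻¹) = g * (y * y * y) * g⁻¹ := by group
      rw [e1, hy.2]
      group
    intro y
    constructor
    · exact key h hh y
    · intro hy
      have h1 := key h⁻¹ (H.inv_mem hh) _ hy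
      have e1 : h⁻¹ * (h * y * h⁻¹) * h⁻¹⁻¹ = y := by group
      rwa [e1] at h1
  -- the decomposition
  have hdec : ∀ g ∈ H, ∃ e ∈ E i, ∃ r ∈ H, g = e * r ∧ ∀ y ∈ E i, r * y = y * r := by
    intro g hg
    rw [← hsup] at hg
    refine Subgroup.iSup_induction E
      (C := fun g => ∃ e ∈ E i, ∃ r ∈ H, g = e * r ∧ ∀ y ∈ E i, r * y = y * r) hg ?_ ?_ ?_
    · intro l g hg
      by_cases hl : l = i
      · have hg' : g ∈ E i := hl ▸ hg
        exact ⟨g, hg', 1, H.one_mem, (mul_one g).symm, fun y _ => by rw [one_mul, mul_one]⟩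
      · exact ⟨1, (E i).one_mem, g, hEH l hg, (one_mul g).symm,
          fun y hy => hcomm l i hl g hg y hy⟩
    · exact ⟨1, (E i).one_mem, 1, H.one_mem, (mul_one 1).symm,
        fun y _ => by rw [one_mul, mul_one]⟩
    · rintro g1 g2 ⟨e1, he1, r1, hr1, rfl, hc1⟩ ⟨e2, he2, r2, hr2, rfl, hc2⟩
      refine ⟨e1 * e2, (E i).mul_mem he1 he2, r1 * r2, H.mul_mem hr1 hr2, ?_, ?_⟩
      · rw [mul_assoc e1 r1, ← mul_assoc r1 e2, hc1 e2 he2, mul_assoc e2, ← mul_assoc e1]
      · intro y hy
        rw [mul_assoc, hc2 y hy, ← mul_assoc, hc1 y hy, mul_assoc]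
  -- components of elements of `J` are involutions or trivial
  have hinv : ∀ e ∈ E i, ∀ r ∈ H, (∀ y ∈ E i, r * y = y * r) → e * r ∈ J → e * e = 1 := by
    intro e he r hr hc hj
    obtain ⟨k, hk⟩ := hJ2 ⟨e * r, hj⟩
    have hk' : (e * r) ^ (2 ^ k) = 1 := by
      have h0 := congrArg Subtype.val hk
      simpa using h0
    have hcom : Commute e r := (hc e he).symm
    rw [hcom.mul_pow] at hk'
    have hcen : e ^ (2 ^ k) = 1 := by
      apply hcenterE _ ((E i).pow_mem he _)
      intro y hy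
      have h1 : e ^ (2 ^ k) = (r ^ (2 ^ k))⁻¹ := eq_inv_of_mul_eq_one_left hk'
      rw [h1]
      have h2 : Commute r y := hc y hy
      exact (h2.pow_left _).inv_left.eq
    rcases hcasesE e he with h | h | h | ⟨h, _⟩
    · rw [h, mul_one]
    · exfalso
      rw [h] at hcen
      have h3 : orderOf (dd : X) ∣ 2 ^ k := orderOf_dvd_of_pow_eq_one hcen
      rw [hord] at h3
      have h4 : (3 : ℕ) ∣ 2 := Nat.Prime.dvd_of_dvd_pow Nat.prime_three h3
      omega
    · exfalso
      rw [h] at hcen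
      have h5 : (dd : X) ^ (2 ^ (k + 1)) = 1 := by
        rw [pow_succ, mul_comm, pow_mul, pow_two]
        exact hcen
      have h3 : orderOf (dd : X) ∣ 2 ^ (k + 1) := orderOf_dvd_of_pow_eq_one h5
      rw [hord] at h3
      have h4 : (3 : ℕ) ∣ 2 := Nat.Prime.dvd_of_dvd_pow Nat.prime_three h3
      omega
    · exact h
  by_cases hall : ∀ j ∈ J, ∀ y ∈ E i, j * y = y * j
  · left
    intro y hy
    rw [Subgroup.mem_centralizer_iff]
    intro j hj
    exact hall j hj y hy
  · right
    push Not at hall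
    obtain ⟨j, hj, y0, hy0, hne⟩ := hall
    obtain ⟨e, he, r, hr, hjer, hrc⟩ := hdec j (hJH hj)
    have hjJ : e * r ∈ J := hjer ▸ hj
    have hee : e * e = 1 := hinv e he r hr hrc hjJ
    have hene : e * y0 ≠ y0 * e := by
      intro h
      apply hne
      rw [hjer, mul_assoc, hrc y0 hy0, ← mul_assoc, h, mul_assoc]
    have hedd : e * (dd : X) ≠ dd * e := by
      rcases hcasesE e he with h | h | h | ⟨_, h⟩
      · exfalso
        apply hene
        rw [h, one_mul, mul_one]
      · exfalso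
        apply hd_ne
        rw [h] at hee
        have h1 := hd3
        rw [hee, one_mul] at h1
        exact h1
      · exfalso
        apply hd_ne
        rw [h] at hee
        have h1 : (dd : X) * dd * (dd * dd) = dd := by rw [← mul_assoc, hd3, one_mul]
        rw [← h1]
        exact hee
      · exact h
    have hecent : e ∈ Subgroup.centralizer (J : Set X) := by
      rw [Subgroup.mem_centralizer_iff]
      intro j' hj'
      obtain ⟨e', he', r', hr', hj'er, hrc'⟩ := hdec j' (hJH hj')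
      have hj'J : e' * r' ∈ J := hj'er ▸ hj'
      have hee' : e' * e' = 1 := hinv e' he' r' hr' hrc' hj'J
      have hprod : (e * e') * (e * e') = 1 := by
        apply hinv (e * e') ((E i).mul_mem he he') (r * r') (H.mul_mem hr hr')
        · intro y hy
          rw [mul_assoc, hrc' y hy, ← mul_assoc, hrc y hy, mul_assoc]
        · have h1 : e * e' * (r * r') = (e * r) * (e' * r') := by
            rw [mul_assoc e r, ← mul_assoc r e', hrc e' he', mul_assoc e', ← mul_assoc e]
          rw [h1]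
          exact J.mul_mem hjJ hj'J
      have hcomm' : e' * e = e * e' := by
        calc e' * e = (e * e) * (e' * e) * (e' * e') := by rw [hee, hee', one_mul, mul_one]
          _ = e * ((e * e') * (e * e')) * e' := by group
          _ = e * e' := by rw [hprod, mul_one]
      rw [hj'er, mul_assoc, hrc' e he, ← mul_assoc, hcomm', mul_assoc]
    refine ⟨D, hDle, hDcard, hDnorm, ?_, ?_⟩
    · intro hD
      have h0 := hD hddD
      rw [Subgroup.mem_centralizer_iff] at h0
      have h1 := h0 j hj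
      apply hedd
      rw [hjer, mul_assoc, hrc dd dd.2, ← mul_assoc, ← mul_assoc] at h1
      exact mul_right_cancel h1
    · intro y hy
      rcases hcasesE y hy with h | h | h | ⟨_, h⟩
      · rw [h]
        exact Subgroup.one_mem _
      · rw [h]
        exact Subgroup.mem_sup_left hddD
      · rw [h]
        exact Subgroup.mem_sup_left (D.mul_mem hddD hddD)
      · have h3 : e * y ∈ D := by
          rw [hDmem]
          exact ⟨(E i).mul_mem he hy, hprodE e he y hy hedd h⟩
        have e1 : y = e * (e * y) := by rw [← mul_assoc, hee, one_mul]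
        rw [e1]
        exact Subgroup.mul_mem _ (Subgroup.mem_sup_right ⟨he, hecent⟩) (Subgroup.mem_sup_left h3)

example : StBox.{u} := box

end Cfsg.Agent.H15.Sg

#print axioms Cfsg.Agent.H15.Sg.box
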