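import Mathlib
import Cfsg.Agent.H52.SpDefs

/-!
# S2944, piece SP-GLPA (helper15, for helper52 / helper66)

A central extension, with kernel of odd order, of a group generated by independent normal copies of
`SL(2,2) ≅ S₃`: the elements of odd order commute.

The elements of odd order of `f.range` lie in the subgroup generated by the squares of the elements of
the factors (this part is helper89's argument from `H89/SnGLA.lean`); upstairs, the kernel together
with the preimages of these squares is a set of pairwise commuting generators.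
-/

set_option autoImplicit false

namespace Cfsg.Agent.H15.Sp

open Cfsg.Agent.H52.Sn

universe u

theorem sl22_sq_cases : ∀ A B : Matrix.SpecialLinearGroup (Fin 2) (ZMod 2),
    A * A = 1 ∨ B * B = 1 ∨ B * B = A * A ∨ (A * A) * (B * B) = 1 := by decide

theorem sl22_inverter : ∃ T : Matrix.SpecialLinearGroup (Fin 2) (ZMod 2), T * T = 1 ∧
    ∀ A : Matrix.SpecialLinearGroup (Fin 2) (ZMod 2), T * (A * A) * T * (A * A) = 1 := by decide

/-- Central factors do not change a commutator. -/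
theorem comm_central {G : Type*} [Group G] (g h z₁ z₂ : G) (h1 : ∀ k, z₁ * k = k * z₁)
    (h2 : ∀ k, z₂ * k = k * z₂) :
    (g * z₁) * (h * z₂) * (g * z₁)⁻¹ * (h * z₂)⁻¹ = g * h * g⁻¹ * h⁻¹ := by
  have e1 : (g * z₁) * (h * z₂) = (g * h) * (z₁ * z₂) := by
    rw [mul_assoc g z₁, ← mul_assoc z₁ h, h1 h, mul_assoc h, ← mul_assoc g]
  have e2 : (h * z₂) * (g * z₁) = (h * g) * (z₁ * z₂) := by
    rw [mul_assoc h z₂, ← mul_assoc z₂ g, h2 g, mul_assoc g, ← mul_assoc h, h2 z₁]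
  calc (g * z₁) * (h * z₂) * (g * z₁)⁻¹ * (h * z₂)⁻¹
      = ((g * z₁) * (h * z₂)) * ((h * z₂) * (g * z₁))⁻¹ := by group
    _ = (g * h) * (z₁ * z₂) * ((h * g) * (z₁ * z₂))⁻¹ := by rw [e1, e2]
    _ = g * h * g⁻¹ * h⁻¹ := by group

/-- A central commutator is inverted by inverting the first argument. -/
theorem comm_inv_left {G : Type*} [Group G] (u w : G)
    (hc : ∀ g, (u * w * u⁻¹ * w⁻¹) * g = g * (u * w * u⁻¹ * w⁻¹)) :
    u⁻¹ * w * u⁻¹⁻¹ * w⁻¹ = (u * w * u⁻¹ * w⁻¹)⁻¹ := by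
  have h2 : Commute (u * w * u⁻¹ * w⁻¹) u⁻¹ := hc u⁻¹
  have h3 : (u * w * u⁻¹ * w⁻¹)⁻¹ * u⁻¹ = u⁻¹ * (u * w * u⁻¹ * w⁻¹)⁻¹ := h2.inv_left.eq
  calc u⁻¹ * w * u⁻¹⁻¹ * w⁻¹ = u⁻¹ * (u * w * u⁻¹ * w⁻¹)⁻¹ * u := by group
    _ = (u * w * u⁻¹ * w⁻¹)⁻¹ * u⁻¹ * u := by rw [h3]
    _ = (u * w * u⁻¹ * w⁻¹)⁻¹ := by group

/-- helper89's argument (`H89/SnGLA.lean`): in a group generated by independent normal subgroups, the
elements of odd order lie in the subgroup generated by the squares of the elements of the factors. -/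
theorem odd_mem_squares {X : Type*} [Group X] {ι : Type*} (E : ι → Subgroup X) (H : Subgroup X)
    (hN : ∀ i, H ≤ Subgroup.normalizer ((E i : Subgroup X) : Set X))
    (hind : iSupIndep E) (hsup : (⨆ i, E i) = H) :
    ∀ z ∈ H, Odd (orderOf z) → z ∈ Subgroup.closure {s : X | ∃ i, ∃ e ∈ E i, s = e * e} := by
  have hEH : ∀ i, E i ≤ H := fun i => hsup ▸ le_iSup E i
  have hconj : ∀ i, ∀ h ∈ H, ∀ e ∈ E i, h * e * h⁻¹ ∈ E i := by
    intro i h hh e he
    exact (Subgroup.mem_normalizer_iff.mp (hN i hh) e).mp he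
  have hcomm : ∀ i j, i ≠ j → ∀ a ∈ E i, ∀ b ∈ E j, a * b = b * a := by
    intro i j hij a ha b hb
    have hd : Disjoint (E i) (E j) := hind.pairwiseDisjoint hij
    have h1 : a * b * a⁻¹ * b⁻¹ ∈ E i := by
      have h0 := hconj i b (hEH j hb) a⁻¹ ((E i).inv_mem ha)
      have e : a * b * a⁻¹ * b⁻¹ = a * (b * a⁻¹ * b⁻¹) := by group
      rw [e]
      exact (E i).mul_mem ha h0
    have h2 : a * b * a⁻¹ * b⁻¹ ∈ E j := by
      have h0 := hconj j a (hEH i ha) b hb
      exact (E j).mul_mem h0 ((E j).inv_mem hb)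
    have h3 := Subgroup.disjoint_def.mp hd h1 h2
    have e : a * b = (a * b * a⁻¹ * b⁻¹) * (b * a) := by group
    rw [e, h3, one_mul]
  obtain ⟨gens, hgens⟩ : ∃ gens : Set X, gens = {s : X | ∃ i, ∃ e ∈ E i, s = e * e} := ⟨_, rfl⟩
  obtain ⟨S, hSdef⟩ : ∃ S : Subgroup X, S = Subgroup.closure gens := ⟨_, rfl⟩
  have hsq : ∀ i, ∀ e ∈ E i, e * e ∈ S := by
    intro i e he
    rw [hSdef]
    apply Subgroup.subset_closure
    rw [hgens]
    exact ⟨i, e, he, rfl⟩
  have hSn : ∀ h ∈ H, ∀ s ∈ S, h * s * h⁻¹ ∈ S := by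
    intro h hh s hs
    rw [hSdef] at hs
    induction hs using Subgroup.closure_induction with
    | mem s hs =>
      rw [hgens] at hs
      obtain ⟨i, e, he, rfl⟩ := hs
      have e1 : h * (e * e) * h⁻¹ = (h * e * h⁻¹) * (h * e * h⁻¹) := by group
      rw [e1]
      exact hsq i _ (hconj i h hh e he)
    | one =>
      have e1 : h * 1 * h⁻¹ = 1 := by group
      rw [e1]
      exact S.one_mem
    | mul a b _ _ ha hb =>
      have e1 : h * (a * b) * h⁻¹ = (h * a * h⁻¹) * (h * b * h⁻¹) := by group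
      rw [e1]
      exact S.mul_mem ha hb
    | inv a _ ha =>
      have e1 : h * a⁻¹ * h⁻¹ = (h * a * h⁻¹)⁻¹ := by group
      rw [e1]
      exact S.inv_mem ha
  have hD : ∀ i, ∀ e ∈ E i, ∀ g ∈ H, g * e * g⁻¹ * e⁻¹ ∈ S := by
    intro i e he g hg
    have key : g ∈ H ∧ g * e * g⁻¹ * e⁻¹ ∈ S := by
      rw [← hsup] at hg
      refine Subgroup.iSup_induction E (C := fun g => g ∈ H ∧ g * e * g⁻¹ * e⁻¹ ∈ S) hg ?_ ?_ ?_
      · intro j g hg
        refine ⟨hEH j hg, ?_⟩
        by_cases hij : j = i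
        · subst hij
          have e1 : g * e * g⁻¹ * e⁻¹
              = (g * e) * (g * e) * (e⁻¹ * (g⁻¹ * g⁻¹) * e⁻¹⁻¹) * (e⁻¹ * e⁻¹) := by group
          rw [e1]
          refine S.mul_mem (S.mul_mem (hsq j _ ((E j).mul_mem hg he)) ?_)
            (hsq j _ ((E j).inv_mem he))
          exact hSn e⁻¹ (H.inv_mem (hEH j he)) _ (hsq j _ ((E j).inv_mem hg))
        · have hc := hcomm j i hij g hg e he
          have e1 : g * e * g⁻¹ * e⁻¹ = 1 := by
            rw [hc]
            group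
          rw [e1]
          exact S.one_mem
      · refine ⟨H.one_mem, ?_⟩
        have e1 : (1 : X) * e * 1⁻¹ * e⁻¹ = 1 := by group
        rw [e1]
        exact S.one_mem
      · rintro g1 g2 ⟨hg1, h1⟩ ⟨hg2, h2⟩
        refine ⟨H.mul_mem hg1 hg2, ?_⟩
        have e1 : g1 * g2 * e * (g1 * g2)⁻¹ * e⁻¹
            = (g1 * (g2 * e * g2⁻¹ * e⁻¹) * g1⁻¹) * (g1 * e * g1⁻¹ * e⁻¹) := by group
        rw [e1]
        exact S.mul_mem (hSn g1 hg1 _ h2) h1
    exact key.2
  have hC : ∀ h ∈ H, h * h ∈ S := by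
    intro h hh
    have key : h ∈ H ∧ h * h ∈ S ∧ ∀ g ∈ H, g * h * g⁻¹ * h⁻¹ ∈ S := by
      rw [← hsup] at hh
      refine Subgroup.iSup_induction E
        (C := fun h => h ∈ H ∧ h * h ∈ S ∧ ∀ g ∈ H, g * h * g⁻¹ * h⁻¹ ∈ S) hh ?_ ?_ ?_
      · intro i h hh
        exact ⟨hEH i hh, hsq i h hh, fun g hg => hD i h hh g hg⟩
      · refine ⟨H.one_mem, ?_, ?_⟩
        · rw [one_mul]
          exact S.one_mem
        · intro g _
          have e1 : g * 1 * g⁻¹ * (1 : X)⁻¹ = 1 := by group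
          rw [e1]
          exact S.one_mem
      · rintro h1 h2 ⟨hh1, hs1, hc1⟩ ⟨hh2, hs2, hc2⟩
        refine ⟨H.mul_mem hh1 hh2, ?_, ?_⟩
        · have e1 : h1 * h2 * (h1 * h2)
              = (h1 * (h2 * h1 * h2⁻¹ * h1⁻¹) * h1⁻¹) * (h1 * h1) * (h2 * h2) := by group
          rw [e1]
          exact S.mul_mem (S.mul_mem (hSn h1 hh1 _ (hc1 h2 hh2)) hs1) hs2
        · intro g hg
          have e1 : g * (h1 * h2) * g⁻¹ * (h1 * h2)⁻¹
              = (g * h1 * g⁻¹ * h1⁻¹) * (h1 * (g * h2 * g⁻¹ * h2⁻¹) * h1⁻¹) := by group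
          rw [e1]
          exact S.mul_mem (hc1 g hg) (hSn h1 hh1 _ (hc2 g hg))
    exact key.2.1
  intro z hz ho
  obtain ⟨m, hm⟩ := ho
  have e1 : z = (z * z) ^ (m + 1) := by
    rw [← pow_two, ← pow_mul]
    have e2 : 2 * (m + 1) = orderOf z + 1 := by omega
    rw [e2, pow_succ, pow_orderOf_eq_one, one_mul]
  rw [e1, ← hgens, ← hSdef]
  exact S.pow_mem (hC z hz) _

/-- **SP-GLPA**. -/
theorem glpA : StGLPA.{u} := by
  intro Y X' _ _ _ _ f ι E hcen hodd hnorm hiso hind hsup x y hx hy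
  classical
  have hEH : ∀ i, E i ≤ f.range := fun i => hsup ▸ le_iSup E i
  have hconj : ∀ i, ∀ h ∈ f.range, ∀ e ∈ E i, h * e * h⁻¹ ∈ E i := by
    intro i h hh e he
    exact (Subgroup.mem_normalizer_iff.mp (hnorm i hh) e).mp he
  have hcomm : ∀ i j, i ≠ j → ∀ a ∈ E i, ∀ b ∈ E j, a * b = b * a := by
    intro i j hij a ha b hb
    have hd : Disjoint (E i) (E j) := hind.pairwiseDisjoint hij
    have h1 : a * b * a⁻¹ * b⁻¹ ∈ E i := by
      have h0 := hconj i b (hEH j hb) a⁻¹ ((E i).inv_mem ha)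
      have e : a * b * a⁻¹ * b⁻¹ = a * (b * a⁻¹ * b⁻¹) := by group
      rw [e]
      exact (E i).mul_mem ha h0
    have h2 : a * b * a⁻¹ * b⁻¹ ∈ E j := by
      have h0 := hconj j a (hEH i ha) b hb
      exact (E j).mul_mem h0 ((E j).inv_mem hb)
    have h3 := Subgroup.disjoint_def.mp hd h1 h2
    have e : a * b = (a * b * a⁻¹ * b⁻¹) * (b * a) := by group
    rw [e, h3, one_mul]
  have hS := odd_mem_squares E f.range hnorm hind hsup
  -- the generators upstairs
  obtain ⟨gensY, hgensY⟩ : ∃ gensY : Set Y,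
      gensY = {u : Y | u ∈ f.ker ∨ ∃ i, ∃ e ∈ E i, f u = e * e} := ⟨_, rfl⟩
  have hgen : ∀ u ∈ gensY, ∀ w ∈ gensY, u * w = w * u := by
    intro u hu w hw
    rw [hgensY] at hu hw
    rcases hu with hu | ⟨i, e, he, hue⟩
    · exact hcen u hu w
    rcases hw with hw | ⟨j, e', he', hwe⟩
    · exact (hcen w hw u).symm
    by_cases hij : i = j
    · subst hij
      obtain ⟨φ⟩ := hiso i
      have tr : ∀ a b : ↥(E i), φ a = φ b → (a : X') = b :=
        fun a b h => congrArg Subtype.val (φ.injective h)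
      rcases sl22_sq_cases (φ ⟨e, he⟩) (φ ⟨e', he'⟩) with h1 | h1 | h1 | h1
      · have hq : e * e = 1 :=
          tr (⟨e, he⟩ * ⟨e, he⟩) 1 (by rw [map_mul, map_one]; exact h1)
        have huk : u ∈ f.ker := by rw [MonoidHom.mem_ker, hue, hq]
        exact hcen u huk w
      · have hq : e' * e' = 1 :=
          tr (⟨e', he'⟩ * ⟨e', he'⟩) 1 (by rw [map_mul, map_one]; exact h1)
        have hwk : w ∈ f.ker := by rw [MonoidHom.mem_ker, hwe, hq]
        exact (hcen w hwk u).symm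
      · have hq : e' * e' = e * e :=
          tr (⟨e', he'⟩ * ⟨e', he'⟩) (⟨e, he⟩ * ⟨e, he⟩) (by rw [map_mul, map_mul]; exact h1)
        have hz : u⁻¹ * w ∈ f.ker := by
          rw [MonoidHom.mem_ker, map_mul, map_inv, hue, hwe, hq, inv_mul_cancel]
        have h2 := hcen _ hz u
        calc u * w = u * (u * (u⁻¹ * w)) := by group
          _ = u * ((u⁻¹ * w) * u) := by rw [h2]
          _ = w * u := by group
      · have hq : (e * e) * (e' * e') = 1 :=
          tr ((⟨e, he⟩ * ⟨e, he⟩) * (⟨e', he'⟩ * ⟨e', he'⟩)) 1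
            (by rw [map_mul, map_mul, map_mul, map_one]; exact h1)
        have hz : u * w ∈ f.ker := by
          rw [MonoidHom.mem_ker, map_mul, hue, hwe, hq]
        have h2 := hcen _ hz u
        calc u * w = u⁻¹ * (u * (u * w)) := by group
          _ = u⁻¹ * ((u * w) * u) := by rw [h2]
          _ = w * u := by group
    · obtain ⟨φ⟩ := hiso i
      obtain ⟨T, hT2, hT⟩ := sl22_inverter
      obtain ⟨t, ht⟩ : ∃ t : ↥(E i), φ t = T := ⟨φ.symm T, φ.apply_symm_apply T⟩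
      have htt : (t : X') * t = 1 := by
        have h0 : φ (t * t) = φ 1 := by
          rw [map_mul, map_one, ht]
          exact hT2
        exact congrArg Subtype.val (φ.injective h0)
      have htq : (t : X') * (e * e) * t * (e * e) = 1 := by
        have h0 : φ (t * (⟨e, he⟩ * ⟨e, he⟩) * t * (⟨e, he⟩ * ⟨e, he⟩)) = φ 1 := by
          rw [map_mul, map_mul, map_mul, map_mul, map_one, ht]
          exact hT (φ ⟨e, he⟩)
        exact congrArg Subtype.val (φ.injective h0)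
      obtain ⟨s, hs⟩ : ∃ s : Y, f s = t := hEH i t.2
      have hsinv : f s⁻¹ = t := by
        rw [map_inv, hs]
        exact inv_eq_of_mul_eq_one_left htt
      have hz1 : u * (s * u * s⁻¹) ∈ f.ker := by
        rw [MonoidHom.mem_ker, map_mul, map_mul, map_mul, hs, hsinv, hue]
        have h0 : (t : X') * (e * e) * t = (e * e)⁻¹ := eq_inv_of_mul_eq_one_left htq
        rw [h0, mul_inv_cancel]
      have hz2 : w⁻¹ * (s * w * s⁻¹) ∈ f.ker := by
        rw [MonoidHom.mem_ker, map_mul, map_inv, map_mul, map_mul, hs, hsinv, hwe]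
        have hc := hcomm i j hij t t.2 (e' * e') ((E j).mul_mem he' he')
        rw [hc, mul_assoc, htt, mul_one, inv_mul_cancel]
      have hc0 : u * w * u⁻¹ * w⁻¹ ∈ f.ker := by
        rw [MonoidHom.mem_ker, map_mul, map_mul, map_mul, map_inv, map_inv, hue, hwe]
        have hc := hcomm i j hij (e * e) ((E i).mul_mem he he) (e' * e') ((E j).mul_mem he' he')
        rw [hc]
        group
      have hcc := hcen _ hc0
      -- conjugating the commutator by `s` inverts it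
      have e1 : s * (u * w * u⁻¹ * w⁻¹) * s⁻¹
          = (u⁻¹ * (u * (s * u * s⁻¹))) * (w * (w⁻¹ * (s * w * s⁻¹)))
            * (u⁻¹ * (u * (s * u * s⁻¹)))⁻¹ * (w * (w⁻¹ * (s * w * s⁻¹)))⁻¹ := by group
      have e2 := comm_central u⁻¹ w _ _ (hcen _ hz1) (hcen _ hz2)
      have e3 := comm_inv_left u w hcc
      have e4 : s * (u * w * u⁻¹ * w⁻¹) * s⁻¹ = u * w * u⁻¹ * w⁻¹ := by
        rw [← hcc s]
        group
      have e5 : u * w * u⁻¹ * w⁻¹ = (u * w * u⁻¹ * w⁻¹)⁻¹ := by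
        rw [← e3, ← e2, ← e1, e4]
      have e6 : (u * w * u⁻¹ * w⁻¹) ^ 2 = 1 := by
        rw [pow_two]
        nth_rewrite 1 [e5]
        exact inv_mul_cancel _
      have h2 : orderOf (u * w * u⁻¹ * w⁻¹) ∣ 2 := orderOf_dvd_of_pow_eq_one e6
      have h3 : orderOf (u * w * u⁻¹ * w⁻¹) ∣ Nat.card ↥f.ker :=
        Subgroup.orderOf_dvd_natCard _ hc0
      have h4 : orderOf (u * w * u⁻¹ * w⁻¹) = 1 := by
        have hcop : Nat.Coprime 2 (Nat.card ↥f.ker) := (Nat.coprime_two_left).mpr hodd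
        exact Nat.eq_one_of_dvd_coprimes hcop h2 h3
      have h5 : u * w * u⁻¹ * w⁻¹ = 1 := orderOf_eq_one_iff.mp h4
      calc u * w = (u * w * u⁻¹ * w⁻¹) * (w * u) := by group
        _ = w * u := by rw [h5, one_mul]
  -- the subgroup generated upstairs is commutative
  obtain ⟨U, hUdef⟩ : ∃ U : Subgroup Y, U = Subgroup.closure gensY := ⟨_, rfl⟩
  have hcent1 : ∀ g ∈ gensY, U ≤ Subgroup.centralizer ({g} : Set Y) := by
    intro g hg
    rw [hUdef, Subgroup.closure_le]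
    intro s hs
    rw [SetLike.mem_coe, Subgroup.mem_centralizer_iff]
    intro k hk
    rw [Set.mem_singleton_iff] at hk
    rw [hk]
    exact hgen g hg s hs
  have hUab : ∀ s ∈ U, ∀ s' ∈ U, s * s' = s' * s := by
    intro s hs s' hs'
    have h1 : U ≤ Subgroup.centralizer ({s} : Set Y) := by
      rw [hUdef, Subgroup.closure_le]
      intro g hg
      have h2 := hcent1 g hg hs
      rw [Subgroup.mem_centralizer_iff] at h2
      rw [SetLike.mem_coe, Subgroup.mem_centralizer_iff]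
      intro k hk
      rw [Set.mem_singleton_iff] at hk
      rw [hk]
      exact (h2 g rfl).symm
    have h3 := h1 hs'
    rw [Subgroup.mem_centralizer_iff] at h3
    exact h3 s rfl
  -- elements of odd order lie in it
  have hker : ∀ z ∈ f.ker, z ∈ U := by
    intro z hz
    rw [hUdef]
    apply Subgroup.subset_closure
    rw [hgensY]
    exact Or.inl hz
  have hSU : Subgroup.closure {s : X' | ∃ i, ∃ e ∈ E i, s = e * e} ≤ U.map f := by
    rw [Subgroup.closure_le]
    rintro s ⟨i, e, he, rfl⟩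
    obtain ⟨v, hv⟩ : ∃ v : Y, f v = e := hEH i he
    refine ⟨v * v, ?_, by rw [map_mul, hv]⟩
    rw [SetLike.mem_coe, hUdef]
    apply Subgroup.subset_closure
    rw [hgensY]
    exact Or.inr ⟨i, e, he, by rw [map_mul, hv]⟩
  have hoddU : ∀ z : Y, Odd (orderOf z) → z ∈ U := by
    intro z hz
    have h1 : f z ∈ Subgroup.closure {s : X' | ∃ i, ∃ e ∈ E i, s = e * e} :=
      hS (f z) ⟨z, rfl⟩ (Odd.of_dvd_nat hz (orderOf_map_dvd f z))
    obtain ⟨v, hv, hvz⟩ := hSU h1
    have h2 : v⁻¹ * z ∈ f.ker := by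
      rw [MonoidHom.mem_ker, map_mul, map_inv, hvz, inv_mul_cancel]
    have h3 : z = v * (v⁻¹ * z) := by group
    rw [h3]
    exact U.mul_mem hv (hker _ h2)
  exact hUab x (hoddU x hx) y (hoddU y hy)

example : StGLPA.{u} := glpA

end Cfsg.Agent.H15.Sp

#print axioms Cfsg.Agent.H15.Sp.glpA
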