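import Mathlib
import Cfsg.Agent.H64.TmDefs

/-!
# TM-SYL (helper15, for helper64's S3701 project): `T` is a Sylow 3-subgroup of `G`

`T ≤ P` for a Sylow 3-subgroup `P`; `N_P(T) ≤ N_G(T) = H` is a 3-group whose order divides `108`, so it has
order at most `27` and equals `T`; the normalizer condition in the nilpotent group `P` gives `T = P`.
-/

set_option autoImplicit false

namespace Cfsg.Agent.H15.Tm

open Subgroup Cfsg.Agent.H64.Tm

universe u

/-- **TM-SYL**. -/
theorem syl : StSyl.{u} := by
  intro G _ _ H T a b c x y cfg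
  classical
  have _i3 : Fact (Nat.Prime 3) := ⟨by norm_num⟩
  have hT3 : IsPGroup 3 T := IsPGroup.of_card (n := 3) (by rw [cfg.cardT]; norm_num)
  obtain ⟨P, hTP⟩ := hT3.exists_le_sylow
  refine ⟨P, ?_⟩
  have hM : normalizer (T : Set G) ⊓ (P : Subgroup G) = T := by
    symm
    apply Subgroup.eq_of_le_of_card_ge (le_inf Subgroup.le_normalizer hTP)
    have hMp : IsPGroup 3 ↥(normalizer (T : Set G) ⊓ (P : Subgroup G)) :=
      P.isPGroup'.to_le inf_le_right
    obtain ⟨k, hk⟩ := IsPGroup.iff_card.mp hMp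
    have hdvd : Nat.card ↥(normalizer (T : Set G) ⊓ (P : Subgroup G)) ∣ 108 := by
      rw [← cfg.cardH]
      apply Subgroup.card_dvd_of_le
      rw [cfg.norm]
      exact inf_le_left
    rw [hk] at hdvd ⊢
    rw [cfg.cardT]
    have hk3 : k ≤ 3 := by
      by_contra hcon
      push Not at hcon
      have h81 : 3 ^ 4 ∣ 108 := dvd_trans (pow_dvd_pow 3 hcon) hdvd
      norm_num at h81
    calc 3 ^ k ≤ 3 ^ 3 := Nat.pow_le_pow_right (by norm_num) hk3
      _ = 27 := by norm_num
  have _inst : Group.IsNilpotent ↥(P : Subgroup G) := P.isPGroup'.isNilpotent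
  have hnc : NormalizerCondition ↥(P : Subgroup G) := Group.normalizerCondition_of_isNilpotent
  have hself : normalizer ((T.subgroupOf (P : Subgroup G) : Subgroup ↥(P : Subgroup G)) : Set _)
      = T.subgroupOf (P : Subgroup G) := by
    rw [← Subgroup.subgroupOf_normalizer_eq hTP, ← Subgroup.inf_subgroupOf_right, hM]
  have htop := (normalizerCondition_iff_only_full_group_self_normalizing.mp hnc) _ hself
  exact le_antisymm (Subgroup.subgroupOf_eq_top.mp htop) hTP

example : StSyl.{u} := syl

end Cfsg.Agent.H15.Tm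

#print axioms Cfsg.Agent.H15.Tm.syl
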