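import Mathlib
import Cfsg.Agent.H1.Gaschutz

/-!
# S2649 (helper88), abstract complement half of X23-ESIDE (helper15)

`compl_of_section`: if `N ⊴ E` is abelian of exponent 2, `σ : ℕ → E` takes `n` values closed
under multiplication and pairwise distinct modulo `N`, and `|E| = |N| · n · k` with `k` odd, then
`N` has a complement in `E` (the values of `σ` form a subgroup `A` with `A ⊓ N = ⊥`,
`|E : N A| = k` is odd, Gaschütz).
-/

set_option autoImplicit false

namespace Cfsg.Agent.H15.X23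

universe u

/-- The values `σ a`, `a < n`, of a multiplicatively closed family in a finite group form a
subgroup. -/
theorem exists_subgroup_of_closed {E : Type u} [Group E] [Finite E] (n : ℕ) (σ : ℕ → E)
    (hn : 0 < n) (hmul : ∀ a < n, ∀ b < n, ∃ c < n, σ a * σ b = σ c) :
    ∃ A : Subgroup E, ∀ x : E, x ∈ A ↔ ∃ a < n, σ a = x := by
  classical
  have hpow : ∀ a < n, ∀ m : ℕ, ∃ c < n, σ a ^ (m + 1) = σ c := by
    intro a ha m
    induction m with
    | zero => exact ⟨a, ha, by rw [zero_add, pow_one]⟩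
    | succ m ih =>
      obtain ⟨c, hc, hc'⟩ := ih
      obtain ⟨c', hc'1, hc'2⟩ := hmul c hc a ha
      exact ⟨c', hc'1, by rw [pow_succ, hc', hc'2]⟩
  have hone : ∃ c < n, σ c = 1 := by
    have ho : 0 < orderOf (σ 0) := orderOf_pos (σ 0)
    obtain ⟨c, hc, hc'⟩ := hpow 0 hn (orderOf (σ 0) - 1)
    refine ⟨c, hc, ?_⟩
    rw [← hc', Nat.sub_add_cancel ho, pow_orderOf_eq_one]
  have hinv : ∀ a < n, ∃ c < n, σ c = (σ a)⁻¹ := by
    intro a ha
    have ho : 0 < orderOf (σ a) := orderOf_pos (σ a)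
    rcases Nat.lt_or_ge (orderOf (σ a)) 2 with h1 | h2
    · have h3 : orderOf (σ a) = 1 := by omega
      rw [orderOf_eq_one_iff] at h3
      exact ⟨a, ha, by rw [h3, inv_one]⟩
    · obtain ⟨c, hc, hc'⟩ := hpow a ha (orderOf (σ a) - 2)
      refine ⟨c, hc, ?_⟩
      rw [← hc', eq_inv_iff_mul_eq_one, ← pow_succ]
      have h3 : orderOf (σ a) - 2 + 1 + 1 = orderOf (σ a) := by omega
      rw [h3, pow_orderOf_eq_one]
  exact ⟨{ carrier := {x | ∃ a < n, σ a = x}
           mul_mem' := by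
             rintro x y ⟨a, ha, rfl⟩ ⟨b, hb, rfl⟩
             obtain ⟨c, hc, hc'⟩ := hmul a ha b hb
             exact ⟨c, hc, hc'.symm⟩
           one_mem' := hone
           inv_mem' := by
             rintro x ⟨a, ha, rfl⟩
             exact hinv a ha }, fun x => Iff.rfl⟩

/-- Abstract complement half of X23-ESIDE. -/
theorem compl_of_section {E : Type u} [Group E] [Finite E] (N : Subgroup E) [N.Normal]
    (hNc : ∀ x ∈ N, ∀ y ∈ N, x * y = y * x) (hN2 : ∀ x ∈ N, x * x = 1)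
    (n k : ℕ) (σ : ℕ → E) (hn : 0 < n)
    (hmul : ∀ a < n, ∀ b < n, ∃ c < n, σ a * σ b = σ c)
    (hinj : ∀ a < n, ∀ b < n, σ a * (σ b)⁻¹ ∈ N → a = b)
    (hcard : Nat.card E = Nat.card N * (n * k)) (hk : Odd k) :
    ∃ H : Subgroup E, H ⊓ N = ⊥ ∧ H ⊔ N = ⊤ := by
  classical
  obtain ⟨A, hA⟩ := exists_subgroup_of_closed n σ hn hmul
  have hAN : A ⊓ N = ⊥ := by
    rw [eq_bot_iff]
    intro x hx
    obtain ⟨hxA, hxN⟩ := Subgroup.mem_inf.mp hx
    obtain ⟨a, ha, rfl⟩ := (hA x).mp hxA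
    obtain ⟨e, he, he1⟩ := (hA 1).mp A.one_mem
    have h1 := hinj a ha e he (by rw [he1, inv_one, mul_one]; exact hxN)
    rw [Subgroup.mem_bot, h1, he1]
  have hAcard : Nat.card A = n := by
    have h1 : Nat.card A = Nat.card (Fin n) := by
      apply Nat.card_congr
      symm
      refine Equiv.ofBijective (fun a : Fin n => (⟨σ a, (hA _).mpr ⟨a, a.2, rfl⟩⟩ : A)) ⟨?_, ?_⟩
      · intro a b hab
        have h1 : σ a = σ b := congrArg (fun t : ↥A => (t : E)) hab
        apply Fin.ext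
        exact hinj a a.2 b b.2 (by rw [h1, mul_inv_cancel]; exact N.one_mem)
      · rintro ⟨x, hx⟩
        obtain ⟨a, ha, rfl⟩ := (hA x).mp hx
        exact ⟨⟨a, ha⟩, rfl⟩
    rw [h1, Nat.card_fin]
  obtain ⟨U, hU⟩ : ∃ U : Subgroup E, U = N ⊔ A := ⟨_, rfl⟩
  have hNU : N ≤ U := by rw [hU]; exact le_sup_left
  have hAU : A ≤ U := by rw [hU]; exact le_sup_right
  have hrel : N.relIndex U = n := by
    rw [hU, Subgroup.relIndex_sup_left, ← Subgroup.inf_relIndex_right, inf_comm, hAN,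
      Subgroup.relIndex_bot_left, hAcard]
  have hidx : U.index = k := by
    have h1 := Subgroup.relIndex_mul_index hNU
    have h2 := Subgroup.card_mul_index N
    rw [hrel] at h1
    rw [← h1, hcard] at h2
    have hNpos : 0 < Nat.card N := Nat.card_pos
    have h3 := Nat.eq_of_mul_eq_mul_left hNpos h2
    exact Nat.eq_of_mul_eq_mul_left hn h3
  have hp : IsPGroup 2 N := by
    intro x
    refine ⟨1, ?_⟩
    rw [pow_one, pow_two]
    apply Subtype.ext
    exact hN2 x x.2
  have : Fact (Nat.Prime 2) := ⟨Nat.prime_two⟩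
  obtain ⟨m, hm⟩ := IsPGroup.iff_card.mp hp
  have hcop : (Nat.card N).Coprime U.index := by
    rw [hm, hidx]
    apply Nat.Coprime.pow_left
    rw [Nat.coprime_two_left]
    exact hk
  have : IsMulCommutative N :=
    isMulCommutative_iff.mpr (fun a b => Subtype.ext (hNc a a.2 b b.2))
  obtain ⟨H, hH⟩ := Cfsg.Agent.H1.gaschutz_exists N U hNU hcop A hAU hAN hU.symm
  refine ⟨H, ?_, ?_⟩
  · rw [inf_comm]; exact hH.disjoint.eq_bot
  · rw [sup_comm]; exact hH.sup_eq_top

end Cfsg.Agent.H15.X23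

#print axioms Cfsg.Agent.H15.X23.compl_of_section
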