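import Mathlib

/-!
# S2649 (helper88), group-level identities for X23-ESIDE (helper15)

For a section `s : ℕ → E` and a table `MUL`, with `f a b := s a * s b * (s (MUL a b))⁻¹`:
* `cocycle_id`: the cocycle identity of `f` (from associativity of `MUL` at `(a, b, c)`);
* `stab_id`: the stability identity under conjugation by `γ`, with
  `w r := γ * s r * γ⁻¹ * (s (cj r))⁻¹`;
* `sigma_mul`: if `f a b = ν a * (s a * ν b * (s a)⁻¹) * ν c` in a normal subgroup `N` of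
  exponent 2 (`c = MUL a b`), then `σ e := ν e * s e` satisfies `σ a * σ b = σ c`.
-/

set_option autoImplicit false

namespace Cfsg.Agent.H15.X23

universe u

theorem cocycle_id {E : Type u} [Group E] (s : ℕ → E) (MUL : ℕ → ℕ → ℕ) (a b c : ℕ)
    (hassoc : MUL (MUL a b) c = MUL a (MUL b c)) :
    (s a * s b * (s (MUL a b))⁻¹) * (s (MUL a b) * s c * (s (MUL (MUL a b) c))⁻¹) =
      (s a * (s b * s c * (s (MUL b c))⁻¹) * (s a)⁻¹) *
        (s a * s (MUL b c) * (s (MUL a (MUL b c)))⁻¹) := by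
  rw [hassoc]
  group

theorem stab_id {E : Type u} [Group E] (s : ℕ → E) (MUL : ℕ → ℕ → ℕ) (cj : ℕ → ℕ) (γ : E)
    (r1 r2 : ℕ) (hcj : cj (MUL r1 r2) = MUL (cj r1) (cj r2)) :
    (γ * s r1 * γ⁻¹ * (s (cj r1))⁻¹) *
        (s (cj r1) * (γ * s r2 * γ⁻¹ * (s (cj r2))⁻¹) * (s (cj r1))⁻¹) *
        (s (cj r1) * s (cj r2) * (s (MUL (cj r1) (cj r2)))⁻¹) =
      (γ * (s r1 * s r2 * (s (MUL r1 r2))⁻¹) * γ⁻¹) *
        (γ * s (MUL r1 r2) * γ⁻¹ * (s (cj (MUL r1 r2)))⁻¹) := by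
  rw [hcj]
  group

theorem sigma_mul {E : Type u} [Group E] (N : Subgroup E) [hN : N.Normal]
    (hN2 : ∀ x ∈ N, x * x = 1)
    (s ν : ℕ → E) (a b c : ℕ) (hνa : ν a ∈ N) (hνb : ν b ∈ N)
    (hf : s a * s b * (s c)⁻¹ = ν a * (s a * ν b * (s a)⁻¹) * ν c) :
    (ν a * s a) * (ν b * s b) = ν c * s c := by
  have hconj : s a * ν b * (s a)⁻¹ ∈ N := hN.conj_mem _ hνb _
  obtain ⟨x, hx⟩ : ∃ x : E, x = s a * ν b * (s a)⁻¹ := ⟨_, rfl⟩
  rw [← hx] at hf hconj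
  have h1 : (ν a * s a) * (ν b * s b) = ν a * x * (s a * s b * (s c)⁻¹) * s c := by
    rw [hx]; group
  rw [h1, hf]
  have h2 : ν a * x * (ν a * x * ν c) = ν c := by
    have h3 : ν a * x * (ν a * x * ν c) = (ν a * x) * (ν a * x) * ν c := by group
    rw [h3, hN2 _ (N.mul_mem hνa hconj), one_mul]
  rw [h2]

end Cfsg.Agent.H15.X23

#print axioms Cfsg.Agent.H15.X23.cocycle_id
#print axioms Cfsg.Agent.H15.X23.stab_id
#print axioms Cfsg.Agent.H15.X23.sigma_mul
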