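import Mathlib
import Cfsg.Agent.H88.X23Pieces
import Cfsg.Agent.H89.X23Bits

/-!
# X23-VALS (S2649, helper15 for helper88): values of sums of terms
-/

set_option autoImplicit false

namespace Cfsg.Agent.H15.X23

open Cfsg.Agent.H88.X23

theorem vfVal_nil (C : Mats) (val : ℕ → ℕ) : vfVal C val [] = 0 := rfl

theorem vfVal_cons (C : Mats) (val : ℕ → ℕ) (t : Term) (l : List Term) :
    vfVal C val (t :: l) = termVal C val t ^^^ vfVal C val l := rfl

theorem evalL_nil (act : ℕ → ℕ → ℕ) (F : ℕ → ℕ → ℕ) : evalL act F [] = 0 := rfl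

theorem evalL_cons (act : ℕ → ℕ → ℕ) (F : ℕ → ℕ → ℕ) (x : ℕ × ℕ × ℕ) (L : List (ℕ × ℕ × ℕ)) :
    evalL act F (x :: L) = act x.1 (F (2 ^ x.2.1) (2 ^ x.2.2)) ^^^ evalL act F L := rfl

theorem termVal_one (C : Mats) (val : ℕ → ℕ) (p q v : ℕ) :
    termVal C val (1, p, q, v) = mapply (C.MC p) (val v) := by
  unfold termVal
  simp

theorem termVal_two (C : Mats) (val : ℕ → ℕ) (p q v : ℕ) :
    termVal C val (2, p, q, v) = mapply (C.GC p) (mapply (C.MC q) (val v)) := by
  unfold termVal
  simp

/-- **X23-VALS**. -/
theorem vals : StVals := by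
  refine ⟨?_, ?_, ?_, ?_, ?_, ?_⟩
  · intro C val l1 l2
    induction l1 with
    | nil => rw [List.nil_append, vfVal_nil, Nat.zero_xor]
    | cons t l ih => rw [List.cons_append, vfVal_cons, vfVal_cons, ih, Nat.xor_assoc]
  · intro C val val' l h
    induction l with
    | nil => rfl
    | cons t l ih =>
      rw [vfVal_cons, vfVal_cons, ih (fun t' ht' => h t' (List.mem_cons_of_mem _ ht'))]
      congr 1
      unfold termVal
      rw [h t List.mem_cons_self]
  · intro C val l hMC hGC hSM hval
    induction l with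
    | nil =>
      rw [vfVal_nil]
      norm_num
    | cons t l ih =>
      rw [vfVal_cons]
      have h1 : termVal C val t < 2048 := by
        unfold termVal
        split_ifs
        · exact hval _
        · exact Cfsg.Agent.H89.X23.mapply_lt _ _ (fun i _ => hMC _ i)
        · exact Cfsg.Agent.H89.X23.mapply_lt _ _ (fun i _ => hGC _ i)
        · exact Cfsg.Agent.H89.X23.mapply_lt _ _ (fun i _ => hSM _ _ i)
      have h2 : (2048 : ℕ) = 2 ^ 11 := by norm_num
      rw [h2] at h1 ih ⊢
      exact Nat.xor_lt_two_pow h1 ih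
  · intro C val F var L h
    induction L with
    | nil => rfl
    | cons x L ih =>
      rw [List.map_cons, vfVal_cons, evalL_cons, termVal_one,
        ih (fun x' hx' => h x' (List.mem_cons_of_mem _ hx')), h x List.mem_cons_self]
  · intro C MUL val F var a L h hm
    induction L with
    | nil =>
      show (0 : ℕ) = mapply (C.MC a) 0
      rw [Cfsg.Agent.H89.X23.mapply_zero]
    | cons x L ih =>
      rw [List.map_cons, vfVal_cons, evalL_cons, termVal_one,
        ih (fun x' hx' => h x' (List.mem_cons_of_mem _ hx'))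
          (fun x' hx' => hm x' (List.mem_cons_of_mem _ hx')),
        Cfsg.Agent.H89.X23.mapply_xor, h x List.mem_cons_self, hm x List.mem_cons_self]
  · intro C val F var t L h
    induction L with
    | nil =>
      show (0 : ℕ) = mapply (C.GC t) 0
      rw [Cfsg.Agent.H89.X23.mapply_zero]
    | cons x L ih =>
      rw [List.map_cons, vfVal_cons, evalL_cons, termVal_two,
        ih (fun x' hx' => h x' (List.mem_cons_of_mem _ hx')),
        Cfsg.Agent.H89.X23.mapply_xor, h x List.mem_cons_self]

example : Cfsg.Agent.H88.X23.StVals := vals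

end Cfsg.Agent.H15.X23

#print axioms Cfsg.Agent.H15.X23.vals
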